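import Cfsg.Agent.PSUMult.Monomial

/-!
The lift of the group of a decomposition of the frame into blocks: it meets the kernel trivially, its image is
as large as it should be, and monomial elements permuting the blocks normalise it.
-/

set_option autoImplicit false
set_option linter.unusedSectionVars false

namespace Cfsg.Agent.PSUMult

open Module Cfsg.Agent.Classical Cfsg.Agent.Classical.Herm

variable {F V : Type*} [Field F] [Finite F] [AddCommGroup V] [Module F V] [FiniteDimensional F V]
  {σ : F →+* F} {B : V →ₛₗ[σ] V →ₗ[F] F} {Γ : Type*} [Group Γ] [Finite Γ]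

namespace Ext

variable {E : Ext B Γ} {p r : ℕ} {n b : ℕ}

/-- The span of a block. -/
def bspan (a : Fin n → V) (blk : Fin n → Fin (b + 1)) (i : Fin (b + 1)) : Submodule F V :=
  Submodule.span F (a '' {k | blk k = i})

/-- The members of a block. -/
def bsub (blk : Fin n → Fin (b + 1)) (i : Fin (b + 1)) : Finset (Fin n) :=
  Finset.univ.filter (blk · = i)

/-- A block as a family. -/
def bfam (a : Fin n → V) (blk : Fin n → Fin (b + 1)) (i : Fin (b + 1)) : Fin (bsub blk i).card → V :=
  a ∘ (bsub blk i).orderEmbOfFin rfl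

theorem span_bfam (a : Fin n → V) (blk : Fin n → Fin (b + 1)) (i : Fin (b + 1)) :
    Submodule.span F (Set.range (bfam a blk i)) = bspan (F := F) a blk i := by
  rw [bfam, Set.range_comp, Finset.range_orderEmbOfFin, bspan]
  congr 2
  ext k
  simp [bsub]

variable (hC : Coprime E p r) {a : Fin n → V} (ha : IsON B a)
include hC ha

theorem bfam_ON (blk : Fin n → Fin (b + 1)) (i : Fin (b + 1)) : IsON B (bfam a blk i) := fun s t => by
  show B (a _) (a _) = _
  rw [ha]
  simp [((bsub blk i).orderEmbOfFin rfl).injective.eq_iff]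

theorem bspan_perp (blk : Fin n → Fin (b + 1)) {i j : Fin (b + 1)} (hij : i ≠ j) :
    ∀ u ∈ bspan (F := F) a blk i, ∀ v ∈ bspan (F := F) a blk j, B u v = 0 := by
  intro u hu v hv
  have h1 : ∀ k, blk k = i → ∀ v ∈ bspan (F := F) a blk j, B (a k) v = 0 := fun k hk v hv => by
    have : bspan a blk j ≤ LinearMap.ker (B (a k)) := Submodule.span_le.2 (by
      rintro _ ⟨l, hl, rfl⟩
      simp only [SetLike.mem_coe, LinearMap.mem_ker, ha k l]
      rw [if_neg]
      rintro rfl
      exact hij (hk.symm.trans hl))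
    exact this hv
  have : bspan a blk i ≤ LinearMap.ker ((B.flip) v) := Submodule.span_le.2 (by
    rintro _ ⟨k, hk, rfl⟩
    exact h1 k hk v hv)
  exact this hu

theorem bspan_comm (blk : Fin n → Fin (b + 1)) :
    Pairwise fun i j => ∀ (x : E.G0 p (bspan a blk i)) (y : E.G0 p (bspan a blk j)),
      Commute ((E.G0 p (bspan a blk i)).subtype x) ((E.G0 p (bspan a blk j)).subtype y) :=
  fun _ _ hij x y => comm_of_perp hC (bspan_perp hC ha blk hij) x.2 y.2

/-- The product of the groups of the blocks. -/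
noncomputable def blockHom (blk : Fin n → Fin (b + 1)) :
    ((i : Fin (b + 1)) → E.G0 p (bspan a blk i)) →* Γ :=
  MonoidHom.noncommPiCoprod (fun i => (E.G0 p (bspan a blk i)).subtype) (bspan_comm hC ha blk)

theorem blockHom_le (blk : Fin n → Fin (b + 1)) :
    (blockHom hC ha blk).range ≤ E.G0 p (Submodule.span F (Set.range a)) := by
  rw [blockHom, MonoidHom.noncommPiCoprod_range]
  exact iSup_le fun i => (Subgroup.range_subtype _).le.trans
    (G0_mono (Submodule.span_mono (Set.image_subset_range _ _)))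

variable (hI : ∀ i j, i ≠ j → ∀ g ∈ E.G0 p (Pl a i j), E.π g = 1 → g = 1)
include hI

/-- The homomorphism into the diagonal lifts of one plane. -/
noncomputable def hhHom (i j : Fin n) : N1 σ →* Γ :=
  MonoidHom.mk' (hh hC ha i j) (hh_mul hC ha hI i j)

theorem hhHom_comm (rep : Fin (b + 1) → Fin n) : Pairwise fun i j : Fin b => ∀ x y : N1 σ,
    Commute (hhHom hC ha hI (rep 0) (rep i.succ) x) (hhHom hC ha hI (rep 0) (rep j.succ) y) :=
  fun _ _ _ x y => hh_comm hC ha hI _ _ _ _ x y

/-- The diagonal lifts joining the blocks. -/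
noncomputable def linkHom (rep : Fin (b + 1) → Fin n) : (Fin b → N1 σ) →* Γ :=
  MonoidHom.noncommPiCoprod (fun j => hhHom hC ha hI (rep 0) (rep j.succ)) (hhHom_comm hC ha hI rep)

theorem linkHom_le (rep : Fin (b + 1) → Fin n) :
    (linkHom hC ha hI rep).range ≤ E.G0 p (Submodule.span F (Set.range a)) := by
  rw [linkHom, MonoidHom.noncommPiCoprod_range]
  refine iSup_le fun j => ?_
  rintro _ ⟨x, rfl⟩
  exact hh_mem_span hC ha _ _ x

theorem hh_rep_mem (rep : Fin (b + 1) → Fin n) (i j : Fin (b + 1)) (x : N1 σ) :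
    hh hC ha (rep i) (rep j) x ∈ (linkHom hC ha hI rep).range := by
  have h0 : ∀ j, hh hC ha (rep 0) (rep j) x ∈ (linkHom hC ha hI rep).range := fun j => by
    refine Fin.cases ?_ (fun j => ?_) j
    · simp [hh]
    · exact ⟨Pi.mulSingle j x, MonoidHom.noncommPiCoprod_mulSingle ..⟩
  rw [← hh_cocycle hC ha hI (rep i) (rep 0) (rep j), hh_swap hC ha hI (rep 0) (rep i)]
  exact mul_mem (inv_mem (h0 i)) (h0 j)

theorem linkHom_act (rep : Fin (b + 1) → Fin n) (y : Fin b → N1 σ) (hrep : Function.Injective rep) (k : Fin n) :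
    E.act (linkHom hC ha hI rep y) (a k) = (∏ j, if k = rep 0 then (((y j : N1 σ) : Fˣ) : F)
      else if k = rep j.succ then (((y j : N1 σ) : Fˣ) : F)⁻¹ else 1) • a k := by
  classical
  rw [linkHom, MonoidHom.noncommPiCoprod_apply]
  suffices ∀ (s : Finset (Fin b)) (hc), E.act (s.noncommProd (fun j => hhHom hC ha hI (rep 0) (rep j.succ) (y j)) hc)
      (a k) = (∏ j ∈ s, if k = rep 0 then (((y j : N1 σ) : Fˣ) : F)
      else if k = rep j.succ then (((y j : N1 σ) : Fˣ) : F)⁻¹ else 1) • a k from this _ _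
  intro s
  induction s using Finset.induction_on with
  | empty => intro _; simp [act_one]
  | insert j s hj ih =>
    intro hc
    rw [Finset.noncommProd_insert_of_notMem _ _ _ _ hj, act_mul, ih, map_smul, Finset.prod_insert hj]
    show _ • E.act (hh hC ha (rep 0) (rep j.succ) (y j)) (a k) = _
    rw [hh_act hC ha (fun e => (Fin.succ_ne_zero j) (hrep e).symm), smul_smul, mul_comm]

theorem linkHom_diag (rep : Fin (b + 1) → Fin n) (y : Fin b → N1 σ) (hrep : Function.Injective rep) (k : Fin n) :
    ∃ c : F, E.act (linkHom hC ha hI rep y) (a k) = c • a k := ⟨_, linkHom_act hC ha hI rep y hrep k⟩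

/-- The group of the decomposition. -/
noncomputable def blockGroup (blk : Fin n → Fin (b + 1)) (rep : Fin (b + 1) → Fin n) : Subgroup Γ :=
  (blockHom hC ha blk).range ⊔ (linkHom hC ha hI rep).range

theorem blockGroup_le (blk : Fin n → Fin (b + 1)) (rep : Fin (b + 1) → Fin n) :
    blockGroup hC ha hI blk rep ≤ E.G0 p (Submodule.span F (Set.range a)) :=
  sup_le (blockHom_le hC ha blk) (linkHom_le hC ha hI rep)

theorem conj_blockHom {blk : Fin n → Fin (b + 1)} {g : Γ} {π' : Fin n ≃ Fin n} {ρ : Fin (b + 1) → Fin (b + 1)}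
    (hg : ∀ k, ∃ c : F, E.act g (a k) = c • a (π' k)) (hρ : ∀ k, blk (π' k) = ρ (blk k))
    {x : Γ} (hx : x ∈ (blockHom hC ha blk).range) : g * x * g⁻¹ ∈ (blockHom hC ha blk).range := by
  have hle : (blockHom hC ha blk).range ≤ (blockHom hC ha blk).range.comap (MulAut.conj g).toMonoidHom := by
    conv_lhs => rw [blockHom, MonoidHom.noncommPiCoprod_range]
    refine iSup_le fun i => ?_
    rw [Subgroup.range_subtype]
    intro z hz
    have hmap : ∀ v ∈ bspan (F := F) a blk i, E.act g v ∈ bspan (F := F) a blk (ρ i) := by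
      intro v hv
      have : bspan a blk i ≤ (bspan a blk (ρ i)).comap (E.act g : V →ₗ[F] V) := Submodule.span_le.2 (by
        rintro _ ⟨k, hk, rfl⟩
        obtain ⟨c, hc⟩ := hg k
        simp only [SetLike.mem_coe, Submodule.mem_comap, LinearEquiv.coe_coe, hc]
        exact Submodule.smul_mem _ _ (Submodule.subset_span ⟨_, by simp only [Set.mem_ofPred_eq]; rw [hρ, hk], rfl⟩))
      exact this hv
    refine ⟨Pi.mulSingle (ρ i) ⟨_, G0_conj_of_maps hmap hz⟩, ?_⟩
    rw [blockHom, MonoidHom.noncommPiCoprod_mulSingle]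
    rfl
  exact hle hx

theorem conj_linkHom {rep : Fin (b + 1) → Fin n} {g : Γ} {π' : Fin n ≃ Fin n} {ρ : Fin (b + 1) → Fin (b + 1)}
    (hg : ∀ k, ∃ c : F, E.act g (a k) = c • a (π' k)) (hρ : ∀ i, π' (rep i) = rep (ρ i))
    {x : Γ} (hx : x ∈ (linkHom hC ha hI rep).range) : g * x * g⁻¹ ∈ (linkHom hC ha hI rep).range := by
  have hle : (linkHom hC ha hI rep).range ≤
      (linkHom hC ha hI rep).range.comap (MulAut.conj g).toMonoidHom := by
    conv_lhs => rw [linkHom, MonoidHom.noncommPiCoprod_range]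
    refine iSup_le fun j => ?_
    rintro _ ⟨y, rfl⟩
    show g * hh hC ha (rep 0) (rep j.succ) y * g⁻¹ ∈ (linkHom hC ha hI rep).range
    rw [hh_conj hC ha hI hg, hρ, hρ]
    exact hh_rep_mem hC ha hI rep _ _ y
  exact hle hx

theorem conj_blockGroup {blk : Fin n → Fin (b + 1)} {rep : Fin (b + 1) → Fin n} {g : Γ} {π' : Fin n ≃ Fin n}
    {ρ : Fin (b + 1) → Fin (b + 1)} (hg : ∀ k, ∃ c : F, E.act g (a k) = c • a (π' k))
    (h1 : ∀ k, blk (π' k) = ρ (blk k)) (h2 : ∀ i, π' (rep i) = rep (ρ i))
    {x : Γ} (hx : x ∈ blockGroup hC ha hI blk rep) : g * x * g⁻¹ ∈ blockGroup hC ha hI blk rep := by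
  have hle : blockGroup hC ha hI blk rep ≤
      (blockGroup hC ha hI blk rep).comap (MulAut.conj g).toMonoidHom :=
    sup_le (fun y hy => Subgroup.mem_sup_left (conj_blockHom hC ha hI hg h1 hy))
      fun y hy => Subgroup.mem_sup_right (conj_linkHom hC ha hI hg h2 hy)
  exact hle hx

variable (blk : Fin n → Fin (b + 1)) (rep : Fin (b + 1) → Fin n) (hrep : ∀ i, blk (rep i) = i)
  (hB : ∀ i, ∀ g ∈ E.G0 p (bspan a blk i), E.π g = 1 → g = 1)
include hrep hB

theorem blockGroup_inj (m : (i : Fin (b + 1)) → E.G0 p (bspan a blk i)) (y : Fin b → N1 σ)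
    (h : E.π (blockHom hC ha blk m * linkHom hC ha hI rep y) = 1) : m = 1 ∧ y = 1 := by
  classical
  have hinj : Function.Injective rep := fun i j e => by rw [← hrep i, e, hrep]
  have hblock : ∀ i, ∀ v ∈ bspan (F := F) a blk i, E.act (blockHom hC ha blk m) v = E.act (m i) v := by
    intro i v hv
    have hsplit : m = Pi.mulSingle i (m i) * Function.update m i 1 := funext fun j => by
      rcases eq_or_ne j i with rfl | hj
      · simp
      · simp [hj]
    have e1 : blockHom hC ha blk (Pi.mulSingle i (m i)) = (m i : Γ) := by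
      rw [blockHom, MonoidHom.noncommPiCoprod_mulSingle]; rfl
    have e2 : E.act (blockHom hC ha blk (Function.update m i 1)) v = v := by
      rw [blockHom, MonoidHom.noncommPiCoprod_apply]
      refine Finset.noncommProd_induction _ _ _ (fun g => E.act g v = v) (fun u w hu hw => ?_) (E.act_one v)
        fun j _ => ?_
      · rw [act_mul, hw, hu]
      · rcases eq_or_ne j i with rfl | hj
        · rw [Function.update_self]; simp [act_one]
        · exact G0_fix (SetLike.coe_mem _) fun w hw => bspan_perp hC ha blk hj w hw v hv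
    conv_lhs => rw [hsplit, map_mul, act_mul, e2, e1]
  have hmem : ∀ k, a k ∈ bspan (F := F) a blk (blk k) := fun k => Submodule.subset_span ⟨k, rfl, rfl⟩
  have hkey : ∀ k, ∀ c : F, E.act (linkHom hC ha hI rep y) (a k) = c • a k →
      c • E.act (m (blk k) : Γ) (a k) = a k := fun k c hc => by
    have := E.act_of_one h (a k)
    rwa [act_mul, hc, map_smul, hblock _ _ (hmem k)] at this
  have hy : ∀ j, y j = 1 := by
    intro j
    have hy0 : (((y j : N1 σ) : Fˣ) : F) ≠ 0 := Units.ne_zero _
    let δ : Fin (bsub blk j.succ).card → F := fun t =>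
      if (bsub blk j.succ).orderEmbOfFin rfl t = rep j.succ then (((y j : N1 σ) : Fˣ) : F) else 1
    have hd : ∀ t, E.act (m j.succ : Γ) (bfam a blk j.succ t) = δ t • bfam a blk j.succ t := by
      intro t
      set k := (bsub blk j.succ).orderEmbOfFin rfl t with hk
      have hkb : blk k = j.succ := by
        have := Finset.orderEmbOfFin_mem (bsub blk j.succ) rfl t
        simpa [bsub, hk] using this
      have hk0 : k ≠ rep 0 := fun e => Fin.succ_ne_zero j (by rw [← hkb, e, hrep])
      have hval : E.act (linkHom hC ha hI rep y) (a k) =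
          (if k = rep j.succ then (((y j : N1 σ) : Fˣ) : F)⁻¹ else 1) • a k := by
        rw [linkHom_act hC ha hI rep y hinj, Finset.prod_eq_single j]
        · rw [if_neg hk0]
        · intro i _ hij
          rw [if_neg hk0, if_neg]
          intro e
          exact hij (Fin.succ_injective _ (by rw [← hrep i.succ, ← e, hkb]))
        · simp
      have := hkey k _ hval
      rw [hkb] at this
      show E.act (m j.succ : Γ) (a k) = δ t • a k
      simp only [δ, ← hk]
      split_ifs with e
      · rw [if_pos e, inv_smul_eq_iff₀ hy0] at this; exact this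
      · rw [if_neg e, one_smul] at this; rw [one_smul]; exact this
    have hprod := prod_diag E.herm (bfam_ON hC ha blk j.succ)
      (G0_mem_fixG (p := p) (by rw [span_bfam]; exact (m j.succ).2)) hd
    obtain ⟨t, ht⟩ : ∃ t, (bsub blk j.succ).orderEmbOfFin rfl t = rep j.succ := by
      have : rep j.succ ∈ Set.range ((bsub blk j.succ).orderEmbOfFin rfl) := by
        rw [Finset.range_orderEmbOfFin]; simp [bsub, hrep]
      exact this
    rw [Finset.prod_eq_single t (fun s _ hs => if_neg fun e =>
      hs (((bsub blk j.succ).orderEmbOfFin rfl).injective (e.trans ht.symm))) (by simp)] at hprod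
    simp only [δ, if_pos ht] at hprod
    exact Subtype.ext (Units.ext hprod)
  have hy1 : y = 1 := funext hy
  refine ⟨funext fun i => Subtype.ext (hB i _ (m i).2 ?_), hy1⟩
  subst hy1
  rw [map_one, mul_one] at h
  refine E.π_eq_one fun x => ?_
  have hf := bfam_ON hC ha blk i
  rw [← sub_add_cancel x (emb (bfam a blk i) (crd B (bfam a blk i) x)), map_add]
  congr 1
  · exact G0_mem_fixG (p := p) (n := (bsub blk i).card) (by rw [span_bfam]; exact (m i).2) _
      (crd_rest E.herm hf x)
  · have hmem' : emb (bfam a blk i) (crd B (bfam a blk i) x) ∈ bspan (F := F) a blk i := by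
      rw [← span_bfam]; exact emb_mem _ _
    rw [← hblock i _ hmem', E.act_of_one h]

theorem linkHom_normalizes :
    (linkHom hC ha hI rep).range ≤ Subgroup.normalizer ((blockHom hC ha blk).range : Set Γ) := by
  have hinj : Function.Injective rep := fun i j e => by rw [← hrep i, e, hrep]
  have key : ∀ y, ∀ z ∈ (blockHom hC ha blk).range,
      linkHom hC ha hI rep y * z * (linkHom hC ha hI rep y)⁻¹ ∈ (blockHom hC ha blk).range :=
    fun y z hz => conj_blockHom hC ha hI (π' := Equiv.refl _) (ρ := id)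
      (linkHom_diag hC ha hI rep y hinj) (fun _ => rfl) hz
  rintro _ ⟨y, rfl⟩
  refine Subgroup.mem_normalizer_iff.2 fun z => ⟨key y z, fun hz => ?_⟩
  have := key y⁻¹ _ hz
  rwa [map_inv, inv_inv, show (linkHom hC ha hI rep y)⁻¹ * (linkHom hC ha hI rep y * z *
    (linkHom hC ha hI rep y)⁻¹) * linkHom hC ha hI rep y = z by group] at this

theorem blockGroup_ker (x : Γ) (hx : x ∈ blockGroup hC ha hI blk rep) (h : E.π x = 1) : x = 1 := by
  rw [blockGroup, ← SetLike.mem_coe, Subgroup.coe_mul_of_right_le_normalizer_left _ _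
    (linkHom_normalizes hC ha hI blk rep hrep hB)] at hx
  obtain ⟨_, ⟨m, rfl⟩, _, ⟨y, rfl⟩, rfl⟩ := hx
  obtain ⟨rfl, rfl⟩ := blockGroup_inj hC ha hI blk rep hrep hB m y h
  simp

/-- A lower bound for the order of the image. -/
theorem blockGroup_card : (∏ i, Nat.card ((E.G0 p (bspan a blk i)).map E.π)) * Nat.card (N1 σ) ^ b ∣
    Nat.card ((blockGroup hC ha hI blk rep).map E.π) := by
  classical
  have hnorm : ∀ (y : Fin b → N1 σ) (m : (i : Fin (b + 1)) → E.G0 p (bspan a blk i)),
      E.π (blockHom hC ha blk m * linkHom hC ha hI rep y) ∈ (blockGroup hC ha hI blk rep).map E.π := fun y m =>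
    ⟨_, mul_mem (Subgroup.mem_sup_left ⟨m, rfl⟩) (Subgroup.mem_sup_right ⟨y, rfl⟩), rfl⟩
  let f : ((i : Fin (b + 1)) → E.G0 p (bspan a blk i)) × (Fin b → N1 σ) →
      (blockGroup hC ha hI blk rep).map E.π := fun z => ⟨_, hnorm z.2 z.1⟩
  have hf : Function.Bijective f := by
    constructor
    · rintro ⟨m, y⟩ ⟨m', y'⟩ e
      have e' : E.π (blockHom hC ha blk m) * E.π (linkHom hC ha hI rep y) =
          E.π (blockHom hC ha blk m') * E.π (linkHom hC ha hI rep y') := by
        rw [← map_mul, ← map_mul]; exact congrArg Subtype.val e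
      have h1 : E.π (blockHom hC ha blk (m'⁻¹ * m) * linkHom hC ha hI rep (y * y'⁻¹)) = 1 := by
        simp only [map_mul, map_inv]
        calc (E.π (blockHom hC ha blk m'))⁻¹ * E.π (blockHom hC ha blk m) *
              (E.π (linkHom hC ha hI rep y) * (E.π (linkHom hC ha hI rep y'))⁻¹)
            = (E.π (blockHom hC ha blk m'))⁻¹ * (E.π (blockHom hC ha blk m) * E.π (linkHom hC ha hI rep y)) *
              (E.π (linkHom hC ha hI rep y'))⁻¹ := by group
          _ = 1 := by rw [e']; group
      obtain ⟨h2, h3⟩ := blockGroup_inj hC ha hI blk rep hrep hB _ _ h1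
      exact Prod.ext (inv_mul_eq_one.1 h2).symm (mul_inv_eq_one.1 h3)
    · rintro ⟨_, x, hx, rfl⟩
      rw [blockGroup, Subgroup.coe_mul_of_right_le_normalizer_left _ _
        (linkHom_normalizes hC ha hI blk rep hrep hB)] at hx
      obtain ⟨_, ⟨m, rfl⟩, _, ⟨y, rfl⟩, rfl⟩ := hx
      exact ⟨(m, y), rfl⟩
  have hc : ∀ i, Nat.card ((E.G0 p (bspan a blk i)).map E.π) = Nat.card (E.G0 p (bspan a blk i)) := fun i => by
    refine (Nat.card_congr (Equiv.ofBijective
      (fun x : E.G0 p (bspan a blk i) => (⟨E.π x, x, x.2, rfl⟩ : (E.G0 p (bspan a blk i)).map E.π))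
      ⟨fun x y e => Subtype.ext (G0_eq_of_fix hC x.2 y.2 (hB i) (congrArg Subtype.val e)), ?_⟩)).symm
    rintro ⟨_, x, hx, rfl⟩
    exact ⟨⟨x, hx⟩, rfl⟩
  simp only [hc]
  rw [← Nat.card_congr (Equiv.ofBijective f hf), Nat.card_prod, Nat.card_pi, Nat.card_fun, Nat.card_fin]

end Ext

end Cfsg.Agent.PSUMult
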