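import Cfsg.Agent.PSUMult.Derived
import Cfsg.Agent.Core.Gaschutz

/-!
A complement of the kernel over the radical, obtained by averaging over the torus, and its invariance under the
stabiliser of the hyperbolic pair.
-/

set_option autoImplicit false
set_option linter.unusedSectionVars false

namespace Cfsg.Agent.PSUMult

open Module Cfsg.Agent.Classical Cfsg.Agent.Classical.Herm
open scoped commutatorElement

variable {F V : Type*} [Field F] [Fintype F] [AddCommGroup V] [Module F V] [FiniteDimensional F V]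
  {σ : F →+* F} {B : V →ₛₗ[σ] V →ₗ[F] F} {Γ : Type*} [Group Γ] [Finite Γ]

/-- A complement of the kernel over the radical containing the derived group of the preimage. -/
structure IsComp (E : Ext B Γ) (e f : V) (hee : B e e = 0) (M : Subgroup Γ) : Prop where
  le : M ≤ (Qgrp E.herm e f hee).comap E.π
  inj : ∀ x ∈ M, E.π x = 1 → x = 1
  surj : ∀ a ∈ Wsp B e f, ∀ d, d + σ d = -B a a → ∃ x ∈ M, E.π x = qel E.herm e a d
  der : ⁅(Qgrp E.herm e f hee).comap E.π, (Qgrp E.herm e f hee).comap E.π⁆ ≤ M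

/-- Invariance of a subgroup under conjugation by an element. -/
def Inv (M : Subgroup Γ) (g : Γ) : Prop := ∀ x ∈ M, g * x * g⁻¹ ∈ M

namespace PData

variable {E : Ext B Γ} {p q : ℕ} {e f : V} {m : ℕ} {u : Fin m → V} (P : PData E p q e f u)
include P

theorem te_W (t : Tor σ m) {c : F} (hc : ∀ i, ((t.1.2 i : Fˣ) : F) = c) {x : V} (hx : x ∈ Wsp B e f) :
    E.act (P.te t) x = c • x := by
  obtain ⟨a, rfl⟩ := P.exists_coord hx
  rw [emb_apply, map_sum, Finset.smul_sum]
  exact Finset.sum_congr rfl fun i _ => by rw [map_smul, (P.te_spec t).2.2 i, hc, smul_comm]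

theorem π_ext_frame {g g' : Γ} (he : E.act g e = E.act g' e) (hf : E.act g f = E.act g' f)
    (hu : ∀ i, E.act g (u i) = E.act g' (u i)) : E.π g = E.π g' := E.π_ext fun x => by
  rw [P.frame.decomp E.herm x]
  simp only [map_add, map_sum, map_smul, he, hf, hu]

theorem te_mul (s t : Tor σ m) : E.π (P.te s * P.te t) = E.π (P.te (s * t)) := by
  refine P.π_ext_frame ?_ ?_ fun i => ?_
  · rw [E.act_mul, (P.te_spec t).1, map_smul, (P.te_spec s).1, (P.te_spec (s * t)).1, smul_smul]
    simp [mul_comm]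
  · rw [E.act_mul, (P.te_spec t).2.1, map_smul, (P.te_spec s).2.1, (P.te_spec (s * t)).2.1, smul_smul]
    simp [mul_comm]
  · rw [E.act_mul, (P.te_spec t).2.2, map_smul, (P.te_spec s).2.2, (P.te_spec (s * t)).2.2, smul_smul]
    simp [mul_comm]

/-- The complements invariant under the torus of a frame exist. -/
theorem exists_comp : ∃ M, IsComp E e f P.frame.ee M ∧ ∀ s, Inv M (P.te s) := by
  classical
  have := P.char
  have := Fact.mk P.prime
  have : Fintype (Tor σ m) := Fintype.ofFinite _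
  let θ : Tor σ m → P.Qt →* P.Qt := fun t => MonoidHom.mk'
    (fun x : P.Qt => (⟨P.te t * x.1 * (P.te t)⁻¹, P.conj_mem_Qt (P.te_spec t).1 (P.te_spec t).2.1 t.1.1.ne_zero
      (inv_ne_zero ((map_ne_zero σ).2 t.1.1.ne_zero)) x.2⟩ : P.Qt))
    fun x y => Subtype.ext (by
      show P.te t * (x.1 * y.1) * (P.te t)⁻¹ = (P.te t * x.1 * (P.te t)⁻¹) * (P.te t * y.1 * (P.te t)⁻¹)
      group)
  let ab : P.Qt →* Abelianization P.Qt := Abelianization.of
  let Ν : P.Qt →* Abelianization P.Qt := ∏ t, ab.comp (θ t)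
  have hΝker : ∀ x : P.Qt, E.π x.1 = 1 → Ν x = ab x ^ Nat.card (Tor σ m) := fun x hx => by
    simp only [Ν, MonoidHom.finsetProd_apply, MonoidHom.comp_apply]
    rw [Finset.prod_eq_pow_card fun t _ => congrArg ab (Subtype.ext (P.π_conj_ker (g := P.te t) hx) : θ t x = x),
      Finset.card_univ, ← Nat.card_eq_fintype_card]
  have habker : ∀ x : P.Qt, ab x = 1 → x.1 ∈ ⁅P.Qt, P.Qt⁆ := fun x hx => by
    have h1 : x ∈ commutator P.Qt := by rw [← Abelianization.ker_of]; exact hx
    have h2 : (commutator P.Qt).map P.Qt.subtype = ⁅P.Qt, P.Qt⁆ := by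
      rw [commutator_def, Subgroup.map_commutator, ← MonoidHom.range_eq_map, Subgroup.range_subtype]
    exact h2 ▸ ⟨x, h1, rfl⟩
  refine ⟨Ν.ker.map P.Qt.subtype, ⟨Subgroup.map_subtype_le _, ?_, ?_, ?_⟩, ?_⟩
  · rintro _ ⟨x, hx, rfl⟩ hx1
    have h1 : ab (x ^ Nat.card (Tor σ m)) = 1 := by rw [map_pow, ← hΝker x hx1]; exact hx
    have h2 := P.derived_inj _ (habker _ h1) (by
      rw [SubmonoidClass.coe_pow, map_pow, show E.π x.1 = 1 from hx1, one_pow])
    rw [SubmonoidClass.coe_pow] at h2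
    exact P.ker_eq_one_of_pow hx1 P.card_tor_coprime h2
  · -- every element of the radical has a preimage in the complement
    intro a ha d hd
    obtain ⟨a, rfl⟩ := P.exists_coord ha
    let χ : P.Qt →* Multiplicative (Fin m → F) := MonoidHom.mk'
      (fun x : P.Qt => Multiplicative.ofAdd (crd B u (E.act x.1 f - f))) fun x y => by
        obtain ⟨a, ha, d, hd, hx⟩ := x.2
        obtain ⟨b, hb, d', hd', hy⟩ := y.2
        have key : ∀ (z : Γ) (c : V) (d : F), c ∈ Wsp B e f → d + σ d = -B c c → E.π z = qel E.herm e c d →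
            crd B u (E.act z f - f) = crd B u c := fun z c d hc hd hz => by
          funext i
          rw [Ext.act, hz, qel_apply E.herm (adm_of_mem E.herm P.frame.ee hc hd)]
          simp [crd_apply, P.frame.ef, (eq_zero_comm E.herm).1 (P.frame.mem i).1, add_sub_assoc]
        have hxy : E.π (x * y : P.Qt).1 = qel E.herm e (a + b) (d + d' - B a b) := by
          rw [Subgroup.coe_mul, map_mul, hx, hy]
          exact qel_mul E.herm (adm_of_mem E.herm P.frame.ee ha hd) (adm_of_mem E.herm P.frame.ee hb hd')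
        show Multiplicative.ofAdd _ = Multiplicative.ofAdd _ * Multiplicative.ofAdd _
        rw [← ofAdd_add, key _ a d ha hd hx, key _ b d' hb hd' hy, key _ _ _ (add_mem ha hb)
          (((adm_of_mem E.herm P.frame.ee ha hd).add E.herm (adm_of_mem E.herm P.frame.ee hb hd')).2.2) hxy, map_add]
    have hχ : ∀ (z : P.Qt) (c : Fin m → F) (d : F), d + σ d = -B (emb u c) (emb u c) →
        E.π z.1 = qel E.herm e (emb u c) d → χ z = Multiplicative.ofAdd c := fun z c d hd hz => by
      show Multiplicative.ofAdd _ = _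
      congr 1
      funext i
      rw [Ext.act, hz, qel_apply E.herm (adm_of_mem E.herm P.frame.ee (P.emb_mem_W c) hd)]
      have := congrFun (crd_emb E.herm P.frame.on c) i
      simp only [crd_apply] at this
      simp [crd_apply, P.frame.ef, (eq_zero_comm E.herm).1 (P.frame.mem i).1, this, add_sub_assoc]
    let x : P.Qt := ⟨E.lift (qel E.herm e (emb u a) d), P.mem_Qt ha hd (E.π_lift _)⟩
    obtain ⟨r, hr⟩ := QuotientGroup.mk'_surjective _ (Ν x)
    have hr : ab r = Ν x := hr
    have hr0 : χ r = 1 := by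
      have h1 : χ r = ∏ t, χ (θ t x) := by
        rw [← Abelianization.lift_apply_of χ r]
        show Abelianization.lift χ (ab r) = _
        rw [hr]
        simp only [Ν, MonoidHom.finsetProd_apply, MonoidHom.comp_apply, map_prod]
        exact Finset.prod_congr rfl fun t _ => Abelianization.lift_apply_of χ _
      have hsum : ∑ t : Tor σ m, (fun i => mu t i * a i) = 0 := by
        funext i
        rw [Finset.sum_apply, ← Finset.sum_mul, Pi.zero_apply]
        obtain ⟨s, -, hs⟩ := P.exists_tor_mu i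
        have h2 : mu s i * ∑ t : Tor σ m, mu t i = ∑ t : Tor σ m, mu t i := by
          rw [Finset.mul_sum]
          exact Fintype.sum_equiv (Equiv.mulLeft s) _ _ fun t => (mu_mul s t i).symm
        have h3 : (mu s i - 1) * ∑ t : Tor σ m, mu t i = 0 := by rw [sub_one_mul, h2, sub_self]
        rw [(mul_eq_zero.1 h3).resolve_left (sub_ne_zero.2 hs), zero_mul]
      rw [h1, Finset.prod_congr rfl fun t _ => ?_, ← ofAdd_sum, hsum, ofAdd_zero]
      refine hχ (θ t x) _ (σ (t.1.1 : F) * t.1.1 * d) ?_ (P.π_conj_te t hd (E.π_lift _))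
      rw [← P.te_emb, smul_self E.herm, E.act_iso, map_mul, map_mul, E.herm.invol]
      linear_combination (σ (t.1.1 : F) * t.1.1) * hd
    have hrZ : r.1 ∈ P.Zt := by
      obtain ⟨b, hb, d', hd', hb'⟩ := r.2
      obtain ⟨b, rfl⟩ := P.exists_coord hb
      have := (hχ r b d' hd' hb').symm.trans hr0
      obtain rfl : b = 0 := Multiplicative.ofAdd.injective this
      exact ⟨d', by simpa using hd', by rw [hb', map_zero]⟩
    obtain ⟨y, hy, y', hy', he⟩ := P.exists_comm_eq hrZ
    set w : P.Qt := ⁅(⟨y, hy⟩ : P.Qt), (⟨y', hy'⟩ : P.Qt)⁆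
    have hk : E.π (w⁻¹ * r : P.Qt).1 = 1 := by
      have hw : E.π w.1 = E.π r.1 := he.symm
      rw [Subgroup.coe_mul, Subgroup.coe_inv, map_mul, map_inv, hw, inv_mul_cancel]
    obtain ⟨v, hv⟩ := Core.exists_pow_eq_of_coprime (m := Nat.card (Tor σ m)) (K := E.π.ker)
      (P.ker_coprime P.card_tor_coprime) ⟨_, hk⟩
    have hv1 : E.π v.1 = 1 := v.2
    let vQ : P.Qt := ⟨v.1, P.mem_Qt (zero_mem _) (d := 0) (by simp) (by rw [hv1, qel_zero])⟩
    refine ⟨(x * vQ⁻¹ : P.Qt).1, ⟨x * vQ⁻¹, ?_, rfl⟩, ?_⟩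
    · have hwab : ab w = 1 := by
        rw [map_commutatorElement, commutatorElement_eq_one_iff_mul_comm]; exact mul_comm _ _
      have hvv : vQ ^ Nat.card (Tor σ m) = w⁻¹ * r := Subtype.ext (by
        rw [SubmonoidClass.coe_pow]
        exact congrArg Subtype.val hv)
      show Ν (x * vQ⁻¹) = 1
      rw [map_mul, map_inv, hΝker vQ hv1, ← map_pow, hvv, map_mul, map_inv, hwab, inv_one, one_mul, ← hr,
        mul_inv_cancel]
    · rw [Subgroup.coe_mul, Subgroup.coe_inv, map_mul, map_inv, hv1, inv_one, mul_one]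
      exact E.π_lift _
  · intro z hz
    have h2 : (commutator P.Qt).map P.Qt.subtype = ⁅P.Qt, P.Qt⁆ := by
      rw [commutator_def, Subgroup.map_commutator, ← MonoidHom.range_eq_map, Subgroup.range_subtype]
    have hz' : z ∈ (commutator P.Qt).map P.Qt.subtype := by rw [h2]; exact hz
    obtain ⟨y, hy, rfl⟩ := hz'
    exact ⟨y, Abelianization.commutator_subset_ker Ν hy, rfl⟩
  · rintro s _ ⟨x, hx, rfl⟩
    refine ⟨θ s x, ?_, rfl⟩
    show Ν (θ s x) = 1
    rw [← (show Ν x = 1 from hx)]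
    simp only [Ν, MonoidHom.finsetProd_apply, MonoidHom.comp_apply]
    refine Fintype.prod_equiv (Equiv.mulRight s) _ _ fun t => congrArg ab (Subtype.ext ?_)
    show P.te t * (P.te s * x.1 * (P.te s)⁻¹) * (P.te t)⁻¹ = P.te (t * s) * x.1 * (P.te (t * s))⁻¹
    rw [← E.conj_indep (P.te_mul t s) x.1]
    group

/-- Two complements invariant under a fixed point free element are equal. -/
theorem comp_unique {M M' : Subgroup Γ} (hM : IsComp E e f P.frame.ee M) (hM' : IsComp E e f P.frame.ee M')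
    {g : Γ} {l k : F} (hge : E.act g e = l • e) (hgf : E.act g f = k • f) (hl : l ≠ 0) (hk : k ≠ 0)
    (hfpf : ∀ a ∈ Wsp B e f, σ l • E.act g a = a → a = 0) (h1 : Inv M g) (h2 : Inv M' g) : M ≤ M' := by
  intro x hx
  obtain ⟨a, ha, d, hd, hxπ⟩ := hM.le hx
  let ψ : Wsp B e f →ₗ[F] Wsp B e f :=
    ((σ l • (E.act g : V →ₗ[F] V) - LinearMap.id).comp (Wsp B e f).subtype).codRestrict (Wsp B e f) fun z =>
      sub_mem (Submodule.smul_mem _ _ (stab_maps E.herm (g := E.π g) hge hgf hl hk z.2)) z.2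
  have hψ : Function.Injective ψ := (injective_iff_map_eq_zero ψ).2 fun z hz =>
    Subtype.ext (hfpf z.1 z.2 (sub_eq_zero.1 (congrArg Subtype.val hz)))
  obtain ⟨⟨b, hb⟩, hψb⟩ := LinearMap.injective_iff_surjective.1 hψ ⟨a, ha⟩
  have hba : σ l • E.act g b - b = a := congrArg Subtype.val hψb
  obtain ⟨db, hdb⟩ := exists_d E.herm (a := b)
  obtain ⟨y, hy, hyπ⟩ := hM.surj b hb db hdb
  obtain ⟨y', hy', hyπ'⟩ := hM'.surj b hb db hdb
  set w := g * y * g⁻¹ * y⁻¹ with hw
  have hwM : w ∈ M := mul_mem (h1 y hy) (inv_mem hy)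
  have hwM' : w ∈ M' := by
    have hz : E.π (y⁻¹ * y') = 1 := by rw [map_mul, map_inv, hyπ, hyπ', inv_mul_cancel]
    have : g * y' * g⁻¹ * y'⁻¹ = w := by
      have hc := (E.ker_comm hz g).eq
      calc g * y' * g⁻¹ * y'⁻¹ = g * y * (y⁻¹ * y') * g⁻¹ * y'⁻¹ := by group
        _ = g * y * ((y⁻¹ * y') * g⁻¹) * y'⁻¹ := by group
        _ = g * y * (g⁻¹ * (y⁻¹ * y')) * y'⁻¹ := by rw [(E.ker_comm hz g⁻¹).eq]
        _ = w := by rw [hw]; group
    exact this ▸ mul_mem (h2 y' hy') (inv_mem hy')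
  have cb := adm_of_mem E.herm P.frame.ee hb hdb
  have hda : σ l * l * db + σ (σ l * l * db) = -B (σ l • E.act g b) (σ l • E.act g b) := by
    rw [smul_self E.herm, E.act_iso, map_mul, map_mul, E.herm.invol]
    linear_combination (σ l * l) * hdb
  have ca : Adm B e (σ l • E.act g b) (σ l * l * db) := adm_of_mem E.herm P.frame.ee
    (Submodule.smul_mem _ (σ l) (stab_maps E.herm (g := E.π g) hge hgf hl hk hb)) hda
  have hwπ : E.π w = qel E.herm e a (σ l * l * db + σ db - B (σ l • E.act g b) (-b)) := by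
    rw [hw, map_mul, map_inv, P.π_conj hge hl cb hyπ, hyπ, qel_inv E.herm cb, qel_mul E.herm ca (cb.neg E.herm),
      ← sub_eq_add_neg, hba]
  have hZ : w⁻¹ * x ∈ P.Zt := by
    have cw : Adm B e a (σ l * l * db + σ db - B (σ l • E.act g b) (-b)) := by
      have := ca.add E.herm (cb.neg E.herm)
      rwa [← sub_eq_add_neg, hba] at this
    refine ⟨σ (σ l * l * db + σ db - B (σ l • E.act g b) (-b)) + d - B (-a) a, ?_, ?_⟩
    · have := ((cw.neg E.herm).add E.herm (adm_of_mem E.herm P.frame.ee ha hd)).2.2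
      simpa using this
    · rw [map_mul, map_inv, hwπ, hxπ, qel_inv E.herm cw,
        qel_mul E.herm (cw.neg E.herm) (adm_of_mem E.herm P.frame.ee ha hd), neg_add_cancel]
  obtain ⟨v, hv, v', hv', he⟩ := P.exists_comm_eq hZ
  have hmem : ⁅v, v'⁆ ∈ ⁅(Qgrp E.herm e f P.frame.ee).comap E.π, (Qgrp E.herm e f P.frame.ee).comap E.π⁆ :=
    Subgroup.commutator_mem_commutator hv hv'
  have heq : ⁅v, v'⁆ = w⁻¹ * x := inv_mul_eq_one.1 (hM.inj _
    (mul_mem (inv_mem (hM.der hmem)) (mul_mem (inv_mem hwM) hx))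
    (by rw [map_mul, map_inv, ← he, inv_mul_cancel]))
  rw [show x = w * (w⁻¹ * x) by group, ← heq]
  exact mul_mem hwM' (hM'.der hmem)

/-- The conjugate of a complement by an element fixing the pair. -/
theorem comp_conj {M : Subgroup Γ} (hM : IsComp E e f P.frame.ee M) {g : Γ} (hge : E.act g e = e)
    (hgf : E.act g f = f) : IsComp E e f P.frame.ee (M.map (MulAut.conj g).toMonoidHom) := by
  have hge' : E.act g⁻¹ e = e := by conv_lhs => rw [← hge]; rw [E.act_inv_act]
  have hgf' : E.act g⁻¹ f = f := by conv_lhs => rw [← hgf]; rw [E.act_inv_act]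
  have hQ : ∀ (g : Γ), E.act g e = e → E.act g f = f → ∀ x ∈ P.Qt, g * x * g⁻¹ ∈ P.Qt := fun g he hf x hx =>
    P.conj_mem_Qt (l := 1) (k := 1) (by rw [he, one_smul]) (by rw [hf, one_smul]) one_ne_zero one_ne_zero hx
  refine ⟨?_, ?_, ?_, ?_⟩
  · rintro _ ⟨x, hx, rfl⟩; exact hQ g hge hgf x (hM.le hx)
  · rintro _ ⟨x, hx, rfl⟩ h
    have : E.π x = 1 := by
      have h' : E.π (g * x * g⁻¹) = 1 := h
      rw [map_mul, map_mul, map_inv, mul_inv_eq_one, mul_eq_left] at h'
      exact h'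
    simp [hM.inj x hx this]
  · intro a ha d hd
    have ha' : E.act g⁻¹ a ∈ Wsp B e f := stab_maps E.herm (g := E.π g⁻¹) (l := 1) (k := 1)
      (show E.act g⁻¹ e = _ by rw [hge', one_smul]) (show E.act g⁻¹ f = _ by rw [hgf', one_smul])
      one_ne_zero one_ne_zero ha
    obtain ⟨x, hx, hxπ⟩ := hM.surj _ ha' d (by rw [E.act_iso]; exact hd)
    refine ⟨g * x * g⁻¹, ⟨x, hx, rfl⟩, ?_⟩
    rw [P.π_conj (l := 1) (by rw [hge, one_smul]) one_ne_zero
      (adm_of_mem E.herm P.frame.ee ha' (by rw [E.act_iso]; exact hd)) hxπ]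
    simp [E.act_act_inv]
  · rw [Subgroup.commutator_le]
    intro x hx y hy
    refine ⟨⁅g⁻¹ * x * g, g⁻¹ * y * g⁆, hM.der (Subgroup.commutator_mem_commutator ?_ ?_), ?_⟩
    · have h1 := hQ g⁻¹ hge' hgf' x hx
      rwa [inv_inv] at h1
    · have h1 := hQ g⁻¹ hge' hgf' y hy
      rwa [inv_inv] at h1
    · show g * ⁅g⁻¹ * x * g, g⁻¹ * y * g⁆ * g⁻¹ = ⁅x, y⁆
      simp only [commutatorElement_def]; group

end PData

end Cfsg.Agent.PSUMult
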