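import Cfsg.Agent.PSUMult.Fix
import Cfsg.Agent.FPF25.Basics

/-!
When an odd prime does not divide the order of the special unitary group one dimension smaller, its Sylow
subgroups act semiregularly and are cyclic.
-/

set_option autoImplicit false
set_option linter.unusedSectionVars false

namespace Cfsg.Agent.PSUMult

open Module Cfsg.Agent.Classical Cfsg.Agent.Classical.Herm

variable {F : Type*} [Field F] [Finite F] {σ : F →+* F}

theorem isCyclic_rsub (hσ : IsInvol σ) {p r n : ℕ} [hp : Fact p.Prime] [CharP F p] [hr : Fact r.Prime]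
    (hr2 : r ≠ 2) (hrp : r ≠ p) (hn : 1 ≤ n)
    (hsmall : ¬ r ∣ Nat.card (suG (hermB (n - 1) σ))) (P : Subgroup (suG (hermB n σ))) (hP : IsPGroup r P) :
    IsCyclic P := by
  classical
  have hB := hermB_isHerm hσ n
  have : Finite (suG (hermB n σ)) :=
    Finite.of_injective (fun g : suG (hermB n σ) => ⇑g.1) fun g g' e =>
      Subtype.ext (LinearEquiv.ext (congrFun e))
  have hfree : ∀ (y : P) (v : Fin n → F), y ≠ 1 → (y : suG (hermB n σ)).1 v = v → v = 0 := by
    intro y v hy hv
    by_contra hv0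
    obtain ⟨x, hx⟩ := exists_pairing hB hv0
    obtain ⟨k, hk⟩ := hP y
    set g := (y : suG (hermB n σ)).1 with hg
    have hgN : g ^ r ^ k = 1 := by
      rw [hg, ← Subgroup.coe_pow, ← Subgroup.coe_pow, hk]; rfl
    set N := r ^ k
    let C : Submodule F (Fin n → F) := LinearMap.ker ((g : (Fin n → F) →ₗ[F] (Fin n → F)) - LinearMap.id)
    have hC : ∀ {z}, z ∈ C ↔ g z = z := fun {z} => by simp [C, sub_eq_zero]
    set xb := ∑ i ∈ Finset.range N, (g ^ i) x
    have hxb : g xb = xb := by
      have e1 : g xb = ∑ i ∈ Finset.range N, (g ^ (i + 1)) x := by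
        rw [map_sum]; exact Finset.sum_congr rfl fun i _ => by rw [pow_succ']; rfl
      have e2 : ∑ i ∈ Finset.range (N + 1), (g ^ i) x = g xb + x := by
        rw [Finset.sum_range_succ', e1]; rfl
      have e3 : ∑ i ∈ Finset.range (N + 1), (g ^ i) x = xb + x := by
        rw [Finset.sum_range_succ, hgN]; rfl
      exact add_right_cancel (e2.symm.trans e3)
    have hfix : ∀ i : ℕ, (g ^ i) v = v := fun i => by
      induction i with
      | zero => rfl
      | succ i ih => rw [pow_succ', LinearEquiv.mul_apply, ih, hv]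
    have hBx : hermB n σ v xb = (N : F) := by
      rw [map_sum, Finset.sum_eq_card_nsmul (b := (1 : F)) fun i _ => ?_, Finset.card_range, nsmul_eq_mul,
        mul_one]
      conv_lhs => arg 1; arg 2; rw [← hfix i]
      rw [((y : suG (hermB n σ)) ^ i).2.1 v x |> fun e => (show hermB n σ ((g ^ i) v) ((g ^ i) x) =
        hermB n σ v x by simpa [hg] using e), hx]
    have hN : (N : F) ≠ 0 := by
      rw [Ne, CharP.cast_eq_zero_iff F p]
      exact fun h => hrp ((Nat.prime_dvd_prime_iff_eq hp.out hr.out).1 (hp.out.dvd_of_dvd_pow h)).symm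
    obtain ⟨u, huC, huu⟩ := exists_anisotropic hB C ⟨v, hC.2 hv, xb, hC.2 hxb, by rw [hBx]; exact hN⟩
    obtain ⟨c, hc⟩ := exists_unit_of_ne_zero hB huu
    have hON : Herm.IsON (hermB n σ) ![c • u] := fun i j => by fin_cases i; fin_cases j; simpa using hc
    obtain ⟨b, hb, hbp, hbx⟩ := exists_compl_frame hB hON (d := n - 1) (by rw [finrank_fin_fun]; omega)
    have hyb : (y : suG (hermB n σ)) ∈ fixG (hermB n σ) b := by
      intro z hz
      have h1 : z - hermB n σ (c • u) z • (c • u) ∈ perpOf (hermB n σ) ![c • u] :=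
        mem_perpOf.2 fun i => by fin_cases i; simp only [Fin.zero_eta, Matrix.cons_val_zero, map_sub, map_smul,
          hc, smul_eq_mul, mul_one, sub_self]
      have h2 := hbx _ h1
      have h3 : z - hermB n σ (c • u) z • (c • u) = 0 := by
        rw [h2]
        refine Finset.sum_eq_zero fun i _ => ?_
        have e1 : hermB n σ (b i) z = 0 := congrFun hz i
        have e2 : hermB n σ (b i) (c • u) = 0 := by
          rw [eq_zero_comm hB]
          exact mem_perpOf.1 (hbp i) 0
        rw [map_sub, map_smul, e1, e2, smul_zero, sub_zero, zero_smul]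
      rw [sub_eq_zero] at h3
      rw [h3]
      show g (_ • c • u) = _
      rw [map_smul g, map_smul g, hC.1 huC]
    have hd : orderOf (y : suG (hermB n σ)) ∣ Nat.card (suG (hermB (n - 1) σ)) := by
      rw [← card_fixG hB hb]
      exact (Subgroup.orderOf_coe (⟨_, hyb⟩ : fixG (hermB n σ) b)).symm ▸ orderOf_dvd_natCard _
    obtain ⟨j, hj⟩ := (IsPGroup.iff_orderOf.1 hP) y
    rw [Subgroup.orderOf_coe, hj] at hd
    rcases Nat.eq_zero_or_pos j with rfl | hj0
    · exact hy (orderOf_eq_one_iff.1 (by rw [hj, pow_zero]))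
    · exact hsmall ((dvd_pow_self r hj0.ne').trans hd)
  have : NeZero n := ⟨by omega⟩
  let := ZMod.algebra F p
  have hco : ¬ p ∣ Nat.card P := fun h => by
    obtain ⟨k, hk⟩ := IsPGroup.iff_card.1 hP
    rw [hk] at h
    exact hrp ((Nat.prime_dvd_prime_iff_eq hp.out hr.out).1 (hp.out.dvd_of_dvd_pow h)).symm
  have hF := FPF25.hasFPF_of_module (G := P) (A := Fin n → F) (q := p) hco
    (fun y => ((y : suG (hermB n σ)).1 : (Fin n → F) →+ (Fin n → F))) (fun w => rfl) (fun a b w => rfl) hfree
  have := hF.isCyclic_of_odd hr2 (IsPGroup.of_equiv hP Subgroup.topEquiv.symm)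
  exact Subgroup.topEquiv.isCyclic.1 this

end Cfsg.Agent.PSUMult
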