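import Cfsg.Agent.Classical.UnitaryGroup

/-!
The valuations of the orders of the unitary groups at a prime different from the characteristic, and the
decompositions of the dimension whose block stabilisers have index prime to it.
-/

set_option autoImplicit false

namespace Cfsg.Agent.PSUMult

open Cfsg.Agent.Classical

variable (r q : ℕ)

/-- The valuation of `(-q)^i - 1`. -/
def ev (i : ℕ) : ℕ := padicValInt r ((-(q : ℤ)) ^ i - 1)

/-- The valuation of the order of the unitary group. -/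
def sv (n : ℕ) : ℕ := ∑ i ∈ Finset.range n, ev r q (i + 1)

theorem sv_succ (n : ℕ) : sv r q (n + 1) = sv r q n + ev r q (n + 1) := Finset.sum_range_succ ..

/-- The order of `-q` modulo `r`, two for `r = 2`. -/
noncomputable def unit' : ℕ := if r = 2 then 2 else orderOf (-(q : ZMod r))

variable {r q} [hr : Fact r.Prime] (hq : 2 ≤ q) (hrq : ¬ r ∣ q)

include hq in
theorem e_natAbs (i : ℕ) :
    (((-(q : ℤ)) ^ (i + 1) - 1)).natAbs = if Even i then q ^ (i + 1) + 1 else q ^ (i + 1) - 1 := by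
  by_cases he : Even i
  · rw [if_pos he, Odd.neg_pow (by exact he.add_one), show -(q : ℤ) ^ (i + 1) - 1 = -((q ^ (i + 1) + 1 : ℕ) : ℤ) by
      push_cast; ring, Int.natAbs_neg, Int.natAbs_natCast]
  · rw [if_neg he, Even.neg_pow (by rw [Nat.even_add_one]; exact he)]
    have h1 : 1 ≤ q ^ (i + 1) := Nat.one_le_pow _ _ (by omega)
    rw [show (q : ℤ) ^ (i + 1) - 1 = ((q ^ (i + 1) - 1 : ℕ) : ℤ) by rw [Nat.cast_sub h1]; push_cast; rfl,
      Int.natAbs_natCast]

include hq in
theorem e_ne_zero {i : ℕ} (hi : i ≠ 0) : ((-(q : ℤ)) ^ i - 1) ≠ 0 := by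
  obtain ⟨i, rfl⟩ := Nat.exists_eq_succ_of_ne_zero hi
  intro h
  have := e_natAbs hq i
  rw [h, Int.natAbs_zero] at this
  have h1 : q ≤ q ^ (i + 1) := Nat.le_self_pow (by omega) q
  split_ifs at this <;> omega

theorem padicValInt_emult {z : ℤ} (hz : z ≠ 0) : (padicValInt r z : ℕ∞) = emultiplicity (r : ℤ) z := by
  rw [padicValInt, padicValNat_eq_emultiplicity (Int.natAbs_ne_zero.2 hz),
    ← Int.emultiplicity_natAbs]

include hrq in
theorem not_dvd_Q : ¬ (r : ℤ) ∣ -(q : ℤ) := by
  rw [Int.dvd_neg, Int.natCast_dvd_natCast]; exact hrq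

theorem dvd_e_iff (i : ℕ) : (r : ℤ) ∣ (-(q : ℤ)) ^ i - 1 ↔ orderOf (-(q : ZMod r)) ∣ i := by
  rw [← ZMod.intCast_zmod_eq_zero_iff_dvd, orderOf_dvd_iff_pow_eq_one]
  push_cast
  rw [sub_eq_zero]

theorem ev_eq_zero {i : ℕ} (h : ¬ orderOf (-(q : ZMod r)) ∣ i) : ev r q i = 0 := by
  rw [← dvd_e_iff] at h
  exact padicValInt.eq_zero_of_not_dvd h

include hrq in
theorem odd_q (h2 : r = 2) : Odd (-(q : ℤ)) := by
  subst h2
  rw [odd_neg, Int.odd_coe_nat, ← Nat.not_even_iff_odd, even_iff_two_dvd]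
  exact hrq

include hq hrq in
theorem unit_pos : 0 < unit' r q := by
  unfold unit'
  split_ifs with h
  · omega
  · have hne : (-(q : ZMod r)) ≠ 0 := by
      rw [neg_ne_zero, Ne, ZMod.natCast_eq_zero_iff]; exact hrq
    exact Nat.pos_of_dvd_of_pos (orderOf_dvd_iff_pow_eq_one.2 (ZMod.pow_card_sub_one_eq_one hne))
      (by have := hr.out.two_le; omega)

theorem ev_eq_zero_of_lt (h2 : r ≠ 2) {i : ℕ} (h0 : 0 < i) (hi : i < unit' r q) : ev r q i = 0 := by
  rw [unit', if_neg h2] at hi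
  exact ev_eq_zero fun h => by have := Nat.le_of_dvd h0 h; omega

theorem sv_eq_zero_of_lt (h2 : r ≠ 2) {n : ℕ} (hn : n < unit' r q) : sv r q n = 0 :=
  Finset.sum_eq_zero fun i hi => ev_eq_zero_of_lt h2 (by omega) (by rw [Finset.mem_range] at hi; omega)

include hq hrq in
theorem ev_add (k : ℕ) {i : ℕ} (h0 : 0 < i) (hi : i < unit' r q) :
    ev r q (k * unit' r q + i) = ev r q i := by
  rcases eq_or_ne r 2 with h2 | h2
  · subst h2
    obtain rfl : i = 1 := by rw [unit', if_pos rfl] at hi; omega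
    rw [unit', if_pos rfl, ← Nat.cast_inj (R := ℕ∞), ev, ev, padicValInt_emult (e_ne_zero hq (by omega)),
      padicValInt_emult (e_ne_zero hq one_ne_zero), pow_one]
    have ho := odd_q hrq rfl
    have h := emultiplicity_pow_sub_pow_of_prime (R := ℤ) (p := ((2 : ℕ) : ℤ)) (x := -(q : ℤ)) (y := 1)
      (n := k * 2 + 1) Int.prime_two (by exact even_iff_two_dvd.1 (ho.sub_odd odd_one)) (not_dvd_Q hrq)
      (by push_cast; omega)
    rwa [one_pow] at h
  · rw [ev_eq_zero_of_lt h2 h0 hi]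
    refine ev_eq_zero fun h => ?_
    rw [unit', if_neg h2] at h hi
    have := (Nat.dvd_add_right (dvd_mul_left _ k)).1 h
    have := Nat.le_of_dvd h0 this
    omega

include hq hrq in
theorem ev_mul {j : ℕ} (hj : j ≠ 0) :
    ev r q (j * unit' r q) = ev r q (unit' r q) + padicValNat r j := by
  have hd := (unit_pos hq hrq).ne'
  rw [← Nat.cast_inj (R := ℕ∞), Nat.cast_add, ev, ev, padicValInt_emult (e_ne_zero hq (by positivity)),
    padicValInt_emult (e_ne_zero hq hd), padicValNat_eq_emultiplicity hj, mul_comm, pow_mul]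
  set x := (-(q : ℤ)) ^ unit' r q with hx
  have hnx : ¬ (r : ℤ) ∣ x := fun h => not_dvd_Q hrq ((Nat.prime_iff_prime_int.1 hr.out).dvd_of_dvd_pow h)
  rcases eq_or_ne r 2 with h2 | h2
  · subst h2
    have h4 : (4 : ℤ) ∣ x - 1 := by
      obtain ⟨c, hc⟩ := odd_q hrq rfl
      rw [hx, unit', if_pos rfl, hc]
      exact ⟨c * c + c, by ring⟩
    have h := Int.two_pow_sub_pow' (x := x) (y := 1) j h4 hnx
    rw [one_pow] at h
    exact h.trans (congrArg (emultiplicity 2 (x - 1) + ·) (Int.natCast_emultiplicity 2 j))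
  · have h1 : (r : ℤ) ∣ x - 1 := (dvd_e_iff _).2 (by rw [unit', if_neg h2])
    have h := Int.emultiplicity_pow_sub_pow hr.out (hr.out.odd_of_ne_two h2) (x := x) (y := 1) h1 hnx j
    rwa [one_pow] at h

include hq hrq in
theorem sv_form (k : ℕ) : ∀ s, s < unit' r q →
    sv r q (k * unit' r q + s) = k * sv r q (unit' r q) + padicValNat r k.factorial + sv r q s := by
  induction k with
  | zero => intro s _; simp
  | succ k ih =>
    intro s
    have hd := unit_pos (r := r) hq hrq
    induction s with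
    | zero =>
      intro _
      obtain ⟨e, he⟩ : ∃ e, unit' r q = e + 1 := ⟨unit' r q - 1, by omega⟩
      have h1 := ih e (by omega)
      have h2 : (k + 1) * unit' r q + 0 = k * unit' r q + e + 1 := by rw [he]; ring
      have h3 : k * unit' r q + e + 1 = (k + 1) * unit' r q := by rw [he]; ring
      have h4 : sv r q (unit' r q) = sv r q e + ev r q (unit' r q) := by
        conv_lhs => rw [he, sv_succ, ← he]
      rw [h2, sv_succ, h1, h3, ev_mul hq hrq (Nat.succ_ne_zero k), Nat.factorial_succ,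
        padicValNat.mul (Nat.succ_ne_zero k) k.factorial_ne_zero, show sv r q 0 = 0 from rfl]
      rw [add_mul, one_mul, h4]
      ring
    | succ s ihs =>
      intro hs
      rw [← add_assoc, sv_succ, ihs (by omega), sv_succ, add_assoc _ s 1,
        ev_add hq hrq (k + 1) (Nat.succ_pos s) hs]
      ring

/-- A split of a number with no carries, or a power of `r`. -/
theorem factorial_split : ∀ k, 2 ≤ k →
    (∃ j, 0 < j ∧ j < k ∧ padicValNat r k.factorial = padicValNat r j.factorial + padicValNat r (k - j).factorial)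
    ∨ ∃ k', 0 < k' ∧ k = r * k' ∧ padicValNat r k.factorial = r * padicValNat r k'.factorial + 1 := by
  intro k
  induction k using Nat.strong_induction_on with
  | _ k ih => ?_
  intro hk
  by_cases hdvd : r ∣ k
  swap
  · left
    refine ⟨1, one_pos, by omega, ?_⟩
    obtain ⟨e, rfl⟩ : ∃ e, k = e + 1 := ⟨k - 1, by omega⟩
    rw [Nat.factorial_succ, padicValNat.mul (Nat.succ_ne_zero e) e.factorial_ne_zero,
      padicValNat.eq_zero_of_not_dvd hdvd, Nat.add_sub_cancel]
    simp
  obtain ⟨k', rfl⟩ := hdvd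
  have hk' : 0 < k' := Nat.pos_of_ne_zero fun h => by simp [h] at hk
  rcases (show k' = 1 ∨ 2 ≤ k' by omega) with rfl | h2
  · right
    refine ⟨1, one_pos, rfl, ?_⟩
    rw [padicValNat_factorial_mul]
    simp
  rcases ih k' (by have := hr.out.two_le; nlinarith) h2 with ⟨j, hj0, hjk, hj⟩ | ⟨k'', hk0, hkk, hk''⟩
  · left
    refine ⟨r * j, Nat.mul_pos hr.out.pos hj0, Nat.mul_lt_mul_of_pos_left hjk hr.out.pos, ?_⟩
    rw [← Nat.mul_sub, padicValNat_factorial_mul, padicValNat_factorial_mul, padicValNat_factorial_mul, hj]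
    omega
  · right
    refine ⟨k', hk', rfl, ?_⟩
    rw [padicValNat_factorial_mul]
    have e : padicValNat r k'.factorial = padicValNat r k''.factorial + k'' := by
      rw [hkk, padicValNat_factorial_mul]
    have hr2 := hr.out.two_le
    obtain ⟨t, ht⟩ : ∃ t, r = t + 2 := ⟨r - 2, by omega⟩
    have h5 : r * padicValNat r k''.factorial + 1 = padicValNat r k''.factorial + k'' := hk''.symm.trans e
    rw [e]
    nlinarith [congrArg (r * ·) h5, hkk]

include hq hrq in
theorem dim_cases {n : ℕ} (hn : 3 ≤ n) :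
    (∃ m, 0 < m ∧ m < n ∧ sv r q n = sv r q m + sv r q (n - m)) ∨
    (∃ m, 0 < m ∧ n = r * m ∧ sv r q n = r * sv r q m + 1) ∨
    (r ≠ 2 ∧ sv r q (n - 1) = 0 ∧ (sv r q n ≠ 0 → ¬ (n = 3 ∧ q = 2))) := by
  set d := unit' r q with hd
  have hd0 : 0 < d := unit_pos hq hrq
  obtain ⟨k, s, hs, rfl⟩ : ∃ k s, s < d ∧ n = k * d + s :=
    ⟨n / d, n % d, Nat.mod_lt _ hd0, by rw [mul_comm]; exact (Nat.div_add_mod n d).symm⟩
  have hform := sv_form (r := r) hq hrq
  have hfull : ∀ j, sv r q (j * d) = j * sv r q d + padicValNat r j.factorial := fun j => by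
    simpa [show sv r q 0 = 0 from rfl] using hform j 0 hd0
  rcases Nat.eq_zero_or_pos k with rfl | hk
  · right; right
    rw [zero_mul, zero_add] at hn ⊢
    have h2 : r ≠ 2 := fun h => by rw [hd, unit', if_pos h] at hs; omega
    exact ⟨h2, sv_eq_zero_of_lt h2 (by omega), fun h => absurd (sv_eq_zero_of_lt h2 hs) h⟩
  rcases Nat.eq_zero_or_pos s with rfl | hs0
  swap
  · left
    refine ⟨k * d, Nat.mul_pos hk hd0, by omega, ?_⟩
    rw [Nat.add_sub_cancel_left, hfull, hform k s hs]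
  rw [add_zero] at hn ⊢
  rcases (show k = 1 ∨ 2 ≤ k by omega) with rfl | hk2
  · right; right
    rw [one_mul] at hn ⊢
    have h2 : r ≠ 2 := fun h => by rw [hd, unit', if_pos h] at hn; omega
    refine ⟨h2, sv_eq_zero_of_lt h2 (by omega), fun _ h32 => ?_⟩
    obtain ⟨hd3, rfl⟩ := h32
    rw [hd, unit', if_neg h2] at hd3
    have hdvd := (dvd_e_iff (r := r) (q := 2) 3).2 hd3.dvd
    norm_num at hdvd
    have hr9 : r ∣ 9 := by exact_mod_cast hdvd
    have hr3 : r = 3 := (Nat.prime_dvd_prime_iff_eq hr.out Nat.prime_three).1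
      (hr.out.dvd_of_dvd_pow (m := 3) (n := 2) (by norm_num; exact hr9))
    subst hr3
    rw [show (-((2 : ℕ) : ZMod 3)) = 1 from rfl, orderOf_one] at hd3
    omega
  rcases factorial_split (r := r) k hk2 with ⟨j, hj0, hjk, hj⟩ | ⟨k', hk0, rfl, hk'⟩
  · left
    refine ⟨j * d, Nat.mul_pos hj0 hd0, Nat.mul_lt_mul_of_pos_right hjk hd0, ?_⟩
    rw [← Nat.sub_mul, hfull, hfull, hfull, hj]
    obtain ⟨i, rfl⟩ := Nat.exists_eq_add_of_lt hjk
    rw [show j + i + 1 - j = i + 1 by omega]
    ring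
  · right; left
    refine ⟨k' * d, Nat.mul_pos hk0 hd0, (mul_assoc _ _ _), ?_⟩
    rw [hfull, hfull, hk']
    ring

variable {F : Type*} [Field F] [Fintype F] {σ : F →+* F}

include hq hrq in
/-- The valuation of the order of the special unitary group. -/
theorem val_suG (hσ : Herm.IsInvol σ) (hσq : ∀ x, σ x = x ^ q) (hFq : Nat.card (Herm.fixField σ) = q)
    {n : ℕ} (hn : 1 ≤ n) :
    padicValNat r (Nat.card (Herm.suG (hermB n σ))) + sv r q 1 = sv r q n := by
  rw [← Nat.card_congr (suEquiv n hσq).toEquiv]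
  have h1 := card_SU_mul_eq_GU hσ hσq hFq hn
  rw [card_GU_formula hσ hσq hFq] at h1
  have hq1 : sv r q 1 = padicValNat r (q + 1) := by
    rw [sv, Finset.sum_range_one, ev, padicValInt, e_natAbs hq 0]; simp
  have hfac : ∀ i : ℕ, (if Even i then q ^ (i + 1) + 1 else q ^ (i + 1) - 1) ≠ 0 := fun i => by
    rw [← e_natAbs hq i]; exact Int.natAbs_ne_zero.2 (e_ne_zero hq (Nat.succ_ne_zero i))
  have hprod : ∀ m, padicValNat r (∏ i ∈ Finset.range m,
      (if Even i then q ^ (i + 1) + 1 else q ^ (i + 1) - 1)) = sv r q m := by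
    intro m
    induction m with
    | zero => simp [sv]
    | succ m ih =>
      rw [Finset.prod_range_succ, padicValNat.mul (Finset.prod_ne_zero_iff.2 fun i _ => hfac i) (hfac m),
        ih, sv_succ, ev, padicValInt, e_natAbs hq m]
  have hc : Nat.card (Cfsg.SU n F q) ≠ 0 := Nat.card_pos.ne'
  rw [hq1, ← padicValNat.mul hc (by omega), mul_comm, h1,
    padicValNat.mul (pow_ne_zero _ (by omega)) (Finset.prod_ne_zero_iff.2 fun i _ => hfac i), hprod,
    padicValNat.eq_zero_of_not_dvd (fun h => hrq (hr.out.dvd_of_dvd_pow h)), zero_add]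

end Cfsg.Agent.PSUMult
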