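import Cfsg.Agent.PSUMult.Blocks
import Cfsg.Agent.PSUMult.Semiregular
import Cfsg.Agent.PSUMult.Val

/-!
Central extensions by a prime different from the characteristic: the lifts of the transvections along a
nondegenerate subspace meet the kernel trivially, so no such extension is a stem extension.
-/

set_option autoImplicit false
set_option linter.unusedSectionVars false

namespace Cfsg.Agent.PSUMult

open Module Cfsg.Agent.Classical Cfsg.Agent.Classical.Herm
open scoped commutatorElement

variable {F V : Type*} [Field F] [Fintype F] [AddCommGroup V] [Module F V] [FiniteDimensional F V]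
  {σ : F →+* F} {B : V →ₛₗ[σ] V →ₗ[F] F} {Γ : Type*} [Group Γ] [Finite Γ]

/-- The standing hypotheses on the field. -/
structure FieldData (σ : F →+* F) (q r : ℕ) : Prop where
  two_le : 2 ≤ q
  not_dvd : ¬ r ∣ q
  pow : ∀ x, σ x = x ^ q
  card : Nat.card (fixField σ) = q

namespace Ext

variable {E : Ext B Γ} {p r q : ℕ}

/-- What the induction proves for a frame. -/
def Good (E : Ext B Γ) (p r : ℕ) {n : ℕ} (a : Fin n → V) : Prop :=
  (∀ g ∈ E.G0 p (Submodule.span F (Set.range a)), E.π g = 1 → g = 1) ∧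
    padicValNat r (Nat.card (suG (hermB n σ))) ≤
      padicValNat r (Nat.card ((E.G0 p (Submodule.span F (Set.range a))).map E.π))

theorem G0_card_dvd {n : ℕ} {a : Fin n → V} (ha : Herm.IsON B a) :
    Nat.card ((E.G0 p (Submodule.span F (Set.range a))).map E.π) ∣ Nat.card (suG (hermB n σ)) := by
  rw [← card_fixG E.herm ha]
  exact Subgroup.card_dvd_of_le (by rintro _ ⟨g, hg, rfl⟩; exact G0_mem_fixG hg)

variable (hC : Coprime E p r) {n : ℕ} {a : Fin n → V} (ha : Herm.IsON B a)
include hC ha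

theorem good_of_sub {K X₀ : Subgroup Γ} (hX : X₀ ≤ E.G0 p (Submodule.span F (Set.range a)) ⊔ E.π.ker)
    (hv : padicValNat r (Nat.card (suG (hermB n σ))) ≤ padicValNat r (Nat.card (X₀.map E.π)))
    (hXK : ⁅X₀, X₀⁆ ≤ K) (hK : ∀ x ∈ K, E.π x = 1 → x = 1) : Good E p r a := by
  have := Fact.mk hC.prime
  have := Fact.mk hC.prime'
  have : Finite (suG B) := Finite.of_surjective _ E.surj
  have : Finite (suG (hermB n σ)) := Finite.of_injective (fun g : suG (hermB n σ) => ⇑g.1)
    fun g g' e => Subtype.ext (LinearEquiv.ext (congrFun e))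
  have hle : X₀.map E.π ≤ (E.G0 p (Submodule.span F (Set.range a))).map E.π := by
    refine (Subgroup.map_mono hX).trans ?_
    rw [Subgroup.map_sup]
    exact sup_le le_rfl ((Subgroup.map_eq_bot_iff E.π.ker).2 le_rfl ▸ bot_le)
  have h1 := (padicValNat_dvd_iff_le (p := r) (n := padicValNat r (Nat.card (X₀.map E.π)))
    (a := Nat.card ((E.G0 p (Submodule.span F (Set.range a))).map E.π)) Nat.card_pos.ne').1
      (pow_padicValNat_dvd.trans (Subgroup.card_dvd_of_le hle))
  have h2 := (padicValNat_dvd_iff_le (p := r)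
    (n := padicValNat r (Nat.card ((E.G0 p (Submodule.span F (Set.range a))).map E.π)))
    (a := Nat.card (suG (hermB n σ))) Nat.card_pos.ne').1 (pow_padicValNat_dvd.trans (G0_card_dvd ha))
  exact ⟨E.transfer_inj (p := p) hC.card hX (h2.trans hv) hXK hK
    (Or.inr ⟨hC.ne.symm, G0_gen _⟩), hv.trans h1⟩

theorem G0_eq_bot (hn : n ≤ 1) : E.G0 p (Submodule.span F (Set.range a)) = ⊥ := by
  rw [eq_bot_iff, G0, Subgroup.closure_le]
  rintro x ⟨hxp, v, hv, c, hvv, -, ev⟩
  have hv0 : v = 0 := by
    obtain ⟨t, rfl⟩ := (Submodule.mem_span_range_iff_exists_fun F).1 hv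
    rcases (show n = 0 ∨ n = 1 by omega) with rfl | rfl
    · simp
    · simp [ha 0 0, mul_comm] at hvv
      simp [hvv]
  refine Subgroup.mem_bot.2 (lp_unique hC ?_ hxp (one_pow p))
  rw [map_one]
  exact E.π_eq_one fun y => by simp [ev, hv0]

theorem G0_map_eq (hn : 2 ≤ n) (hr : (∃ t : F, σ t = t ∧ t ≠ 0 ∧ t ≠ 1) ∨ n ≠ 3) :
    (E.G0 p (Submodule.span F (Set.range a))).map E.π = fixG B a := by
  refine le_antisymm (by rintro _ ⟨g, hg, rfl⟩; exact G0_mem_fixG hg) fun g hg => ?_
  obtain ⟨x, hx, e⟩ := exists_G0_of_TUon hC (fixG_le_TUon E.herm ha hn hr hg)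
  exact ⟨x, hx, Subtype.ext e⟩

variable (hD : FieldData σ q r)
include hD

theorem val_eq (hn : 1 ≤ n) :
    padicValNat r (Nat.card (suG (hermB n σ))) + sv r q 1 = sv r q n := by
  have := Fact.mk hC.prime'
  exact val_suG hD.two_le hD.not_dvd E.herm.toIsInvol hD.pow hD.card hn

theorem good_one (hn : n ≤ 1) : Good E p r a := by
  refine ⟨fun g hg _ => by rw [G0_eq_bot hC ha hn] at hg; exact hg, ?_⟩
  rcases (show n = 0 ∨ n = 1 by omega) with rfl | rfl
  · have : Subsingleton (suG (hermB 0 σ)) := ⟨fun g g' => Subtype.ext (LinearEquiv.ext fun x =>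
      funext fun i => i.elim0)⟩
    simp [Nat.card_of_subsingleton (1 : suG (hermB 0 σ))]
  · have := val_eq hC ha hD le_rfl
    omega

theorem good_two {a : Fin 2 → V} (ha : Herm.IsON B a) : Good E p r a := by
  obtain ⟨γ, hγ0, hγ⟩ := exists_neg_one_norm E.herm
  obtain ⟨ζ, hζ1, hζ⟩ := exists_norm_one_ne_one E.herm
  have hs : (1 : F) - ζ ≠ 0 := sub_ne_zero.2 (Ne.symm hζ1)
  set e := a 0 + γ • a 1 with he
  set f := ((1 : F) - ζ)⁻¹ • (a 0 + (γ * ζ) • a 1) with hf
  have hee : B e e = 0 := by simp [he, ha _ _]; linear_combination hγ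
  have hff : B f f = 0 := by
    rw [hf, smul_self E.herm]
    simp [ha _ _]
    exact Or.inr (by linear_combination hγ + γ * σ γ * hζ)
  have hef : B e f = 1 := by
    simp [he, hf, ha _ _]
    field_simp
    linear_combination ζ * hγ
  have hspan : Submodule.span F (Set.range a) ≤ Submodule.span F {e, f} := by
    refine Submodule.span_le.2 ?_
    have h1 : a 1 = (γ * (1 - ζ))⁻¹ • (e - (1 - ζ) • f) := by
      rw [he, hf, smul_inv_smul₀ hs, add_sub_add_left_eq_sub, ← sub_smul, ← mul_one_sub, inv_smul_smul₀]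
      exact mul_ne_zero hγ0 hs
    have m1 : a 1 ∈ Submodule.span F {e, f} := by
      rw [h1]
      exact Submodule.smul_mem _ _ (Submodule.sub_mem _ (Submodule.subset_span (by simp))
        (Submodule.smul_mem _ _ (Submodule.subset_span (by simp))))
    rintro _ ⟨i, rfl⟩
    fin_cases i
    · have : a 0 = e - γ • a 1 := by rw [he, add_sub_cancel_right]
      show a 0 ∈ _
      rw [this]
      exact Submodule.sub_mem _ (Submodule.subset_span (by simp)) (Submodule.smul_mem _ _ m1)
    · exact m1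
  refine ⟨fun g hg => inj_plane hC hee hff hef g (G0_mono hspan hg), ?_⟩
  rw [G0_map_eq hC ha le_rfl (Or.inr (by omega)), card_fixG E.herm ha]

theorem good_cyclic (hn : 3 ≤ n) (hr2 : r ≠ 2) (hs : sv r q (n - 1) = 0)
    (hbig : sv r q n ≠ 0 → ¬ (n = 3 ∧ q = 2)) : Good E p r a := by
  have := Fact.mk hC.prime
  have := Fact.mk hC.prime'
  have := hC.char
  have : Finite (suG B) := Finite.of_surjective _ E.surj
  have hfin : ∀ k, Finite (suG (hermB k σ)) := fun k => Finite.of_injective (fun g : suG (hermB k σ) => ⇑g.1)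
    fun g g' e => Subtype.ext (LinearEquiv.ext (congrFun e))
  set H := (E.G0 p (Submodule.span F (Set.range a))).map E.π
  obtain ⟨P⟩ : Nonempty (Sylow r H) := inferInstance
  let P' : Subgroup (suG B) := (P : Subgroup H).map H.subtype
  have hP'H : P' ≤ H := Subgroup.map_subtype_le _
  have hsmall : ¬ r ∣ Nat.card (suG (hermB (n - 1) σ)) := fun h => by
    have h1 := one_le_padicValNat_of_dvd (p := r) (have := hfin (n - 1); Nat.card_pos.ne') h
    have h2 := val_suG (r := r) hD.two_le hD.not_dvd E.herm.toIsInvol hD.pow hD.card (n := n - 1) (by omega)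
    omega
  have hcyc : IsCyclic P' := by
    let f := extHom E.herm ha
    have hle : P' ≤ f.range := by
      rw [extHom_range E.herm ha]
      exact hP'H.trans (by rintro _ ⟨g, hg, rfl⟩; exact G0_mem_fixG hg)
    have hpg : IsPGroup r (P'.comap f) :=
      (P.isPGroup'.map H.subtype).comap_of_injective f (extHom_injective E.herm ha)
    have := isCyclic_rsub (σ := σ) E.herm.toIsInvol hr2 hC.ne (by omega) hsmall (P'.comap f) hpg
    have e : (P'.comap f).map f = P' := Subgroup.map_comap_eq_self hle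
    rw [← e]
    exact isCyclic_of_surjective (f.subgroupMap (P'.comap f)) (f.subgroupMap_surjective _)
  have hXH : P'.comap E.π ≤ E.G0 p (Submodule.span F (Set.range a)) ⊔ E.π.ker := fun x hx => by
    obtain ⟨y, hy, e⟩ := hP'H hx
    rw [show x = y * (y⁻¹ * x) by group]
    exact mul_mem (Subgroup.mem_sup_left hy) (Subgroup.mem_sup_right (by
      rw [MonoidHom.mem_ker, map_mul, map_inv, e, inv_mul_cancel]))
  refine good_of_sub hC ha (K := ⊥) hXH ?_ ?_ fun x hx _ => Subgroup.mem_bot.1 hx
  · rw [Subgroup.map_comap_eq_self_of_surjective E.surj,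
      show Nat.card P' = Nat.card (P : Subgroup H) from
        (Nat.card_congr ((P : Subgroup H).equivMapOfInjective _ H.subtype_injective).toEquiv).symm,
      P.card_eq_multiplicity, padicValNat.prime_pow, Nat.factorization_def _ hC.prime']
    have hval := val_eq hC ha hD (by omega)
    by_cases h0 : sv r q n = 0
    · omega
    · have hr : (∃ t : F, σ t = t ∧ t ≠ 0 ∧ t ≠ 1) ∨ n ≠ 3 := by
        have := hr_of_not_three_two (σ := σ) (n := n) hD.card (hbig h0) (by have := hD.two_le; omega)
        rwa [Module.finrank_fin_fun] at this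
      show _ ≤ padicValNat r (Nat.card H)
      rw [show H = fixG B a from G0_map_eq hC ha (by omega) hr, card_fixG E.herm ha]
  · rw [Subgroup.commutator_le]
    intro x hx y hy
    let f : P'.comap E.π →* P' := E.π.subgroupComap P'
    have := commutative_of_cyclic_center_quotient f (fun z hz => Subgroup.mem_center_iff.2 fun w =>
      Subtype.ext (E.ker_comm (congrArg Subtype.val hz : E.π z.1 = 1) w.1).eq) ⟨x, hx⟩ ⟨y, hy⟩
    rw [Subgroup.mem_bot, commutatorElement_eq_one_iff_mul_comm]
    exact congrArg Subtype.val this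

theorem good_split (hI : ∀ i j, i ≠ j → ∀ g ∈ E.G0 p (Pl a i j), E.π g = 1 → g = 1)
    {b : ℕ} (blk : Fin n → Fin (b + 1)) (rep : Fin (b + 1) → Fin n) (hrep : ∀ i, blk (rep i) = i)
    (hblk : ∀ i, Good E p r (bfam a blk i))
    {X₀ : Subgroup Γ} (hX : X₀ ≤ E.G0 p (Submodule.span F (Set.range a)))
    (hB : ∀ i, ∀ g ∈ E.G0 p (bspan a blk i), E.π g = 1 → g = 1)
    (hKX : ⁅X₀, X₀⁆ ≤ blockGroup hC ha hI blk rep) (extra : ℕ)
    (hcard : r ^ extra * Nat.card ((blockGroup hC ha hI blk rep).map E.π) ∣ Nat.card (X₀.map E.π))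
    (hsum : sv r q n ≤ (∑ i, sv r q (bsub blk i).card) + extra) : Good E p r a := by
  have := Fact.mk hC.prime'
  have : Finite (suG B) := Finite.of_surjective _ E.surj
  have : Finite (N1 σ) := inferInstance
  refine good_of_sub hC ha (hX.trans le_sup_left) ?_ hKX (blockGroup_ker hC ha hI blk rep hrep hB)
  have hpos : ∀ i, (Nat.card ((E.G0 p (bspan a blk i)).map E.π)) ≠ 0 := fun i => Nat.card_pos.ne'
  have hN : Nat.card (N1 σ) = q + 1 := by rw [card_ker_normHom E.herm.toIsInvol, hD.card]
  have h1 : r ^ extra * ((∏ i, Nat.card ((E.G0 p (bspan a blk i)).map E.π)) * Nat.card (N1 σ) ^ b) ∣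
      Nat.card (X₀.map E.π) :=
    (mul_dvd_mul_left _ (blockGroup_card hC ha hI blk rep hrep hB)).trans hcard
  have hprod : (∏ i, Nat.card ((E.G0 p (bspan a blk i)).map E.π)) ≠ 0 :=
    Finset.prod_ne_zero_iff.2 fun i _ => hpos i
  have hN0 : Nat.card (N1 σ) ^ b ≠ 0 := pow_ne_zero _ Nat.card_pos.ne'
  have h2 := (padicValNat_dvd_iff_le (p := r) (a := Nat.card (X₀.map E.π)) Nat.card_pos.ne').1
    (pow_padicValNat_dvd.trans h1)
  rw [padicValNat.mul (pow_ne_zero _ hC.prime'.ne_zero) (mul_ne_zero hprod hN0), padicValNat.prime_pow,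
    padicValNat.mul hprod hN0, hN, padicValNat.pow] at h2
  have hsv1 : sv r q 1 = padicValNat r (q + 1) := by
    rw [sv, Finset.sum_range_one, ev, padicValInt, e_natAbs hD.two_le 0]; simp
  have hblocks : ∑ i, sv r q (bsub blk i).card ≤
      padicValNat r (∏ i, Nat.card ((E.G0 p (bspan a blk i)).map E.π)) + (b + 1) * sv r q 1 := by
    have e : padicValNat r (∏ i, Nat.card ((E.G0 p (bspan a blk i)).map E.π)) =
        ∑ i, padicValNat r (Nat.card ((E.G0 p (bspan a blk i)).map E.π)) := by
      rw [← Nat.factorization_def _ hC.prime', Nat.factorization_prod_apply fun i _ => hpos i]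
      exact Finset.sum_congr rfl fun i _ => Nat.factorization_def _ hC.prime'
    rw [e, show (b + 1) * sv r q 1 = ∑ _i : Fin (b + 1), sv r q 1 by simp, ← Finset.sum_add_distrib]
    refine Finset.sum_le_sum fun i _ => ?_
    have h3 := (hblk i).2
    rw [span_bfam] at h3
    have hm : 1 ≤ (bsub blk i).card := Finset.card_pos.2 ⟨rep i, by simp [bsub, hrep]⟩
    have h4 := val_suG (r := r) hD.two_le hD.not_dvd E.herm.toIsInvol hD.pow hD.card (n := (bsub blk i).card) hm
    omega
  have hval := val_eq hC ha hD (Finset.card_fin n ▸ (Finset.card_pos.2 ⟨rep 0, Finset.mem_univ _⟩ : 0 < _))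
  rw [← hsv1] at h2
  rw [add_mul, one_mul] at hblocks
  omega

end Ext

end Cfsg.Agent.PSUMult
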