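import Cfsg.Agent.PSUMult.Cross

/-!
The induction over the dimension for a prime different from the characteristic.
-/

set_option autoImplicit false
set_option linter.unusedSectionVars false

namespace Cfsg.Agent.PSUMult

open Module Cfsg.Agent.Classical Cfsg.Agent.Classical.Herm
open scoped commutatorElement

variable {F V : Type*} [Field F] [Fintype F] [AddCommGroup V] [Module F V] [FiniteDimensional F V]
  {σ : F →+* F} {B : V →ₛₗ[σ] V →ₗ[F] F} {Γ : Type*} [Group Γ] [Finite Γ]

namespace Ext

variable {E : Ext B Γ} {p r q : ℕ} (hC : Coprime E p r) (hD : FieldData σ q r)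
include hC hD

theorem good_all : ∀ (n : ℕ) (a : Fin n → V), Herm.IsON B a → Good E p r a := by
  intro n
  induction n using Nat.strong_induction_on with
  | _ n ih => ?_
  intro a ha
  have := Fact.mk hC.prime'
  have hfinB : Finite (suG B) := Finite.of_surjective _ E.surj
  rcases (show n ≤ 1 ∨ n = 2 ∨ 3 ≤ n by omega) with hn | rfl | hn
  · exact good_one hC ha hD hn
  · exact good_two hC ha hD ha
  have hI : ∀ i j, i ≠ j → ∀ g ∈ E.G0 p (Pl a i j), E.π g = 1 → g = 1 := fun i j hij g hg =>
    (ih 2 (by omega) _ (isON_pair hC ha hij)).1 g (by rwa [span_pair_eq])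
  have hblk : ∀ {b : ℕ} (blk : Fin n → Fin (b + 1)), (∀ i, (bsub blk i).card < n) →
      (∀ i, Good E p r (bfam a blk i)) ∧
        ∀ i, ∀ g ∈ E.G0 p (bspan a blk i), E.π g = 1 → g = 1 := fun {b} blk hlt =>
    ⟨fun i => ih _ (hlt i) _ (bfam_ON hC ha blk i), fun i g hg =>
      (ih _ (hlt i) _ (bfam_ON hC ha blk i)).1 g (by rwa [span_bfam])⟩
  rcases dim_cases (r := r) hD.two_le hD.not_dvd hn with ⟨m, hm0, hmn, hsv⟩ | ⟨m, hm0, hnm, hsv⟩ | ⟨h2, hs, hb⟩
  · -- two blocks
    let blk : Fin n → Fin (1 + 1) := fun k => if k.1 < m then 0 else 1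
    let rep : Fin (1 + 1) → Fin n := fun i => if i = 0 then ⟨0, by omega⟩ else ⟨m, hmn⟩
    have hrep : ∀ i, blk (rep i) = i := by
      intro i; fin_cases i <;> simp [blk, rep, hm0]
    have hc0 : (bsub blk 0).card = m := by
      have : bsub blk 0 = Finset.univ.map (Fin.castLEEmb hmn.le) := by
        ext k
        simp only [bsub, blk, Finset.mem_filter, Finset.mem_univ, true_and, Finset.mem_map, Fin.castLEEmb_apply]
        constructor
        · intro h
          split_ifs at h with hk
          · exact ⟨⟨k, hk⟩, rfl⟩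
          · exact absurd h (by decide)
        · rintro ⟨t, rfl⟩
          simp
      rw [this, Finset.card_map, Finset.card_fin]
    have hc1 : (bsub blk 1).card = n - m := by
      have : bsub blk 1 = (bsub blk 0)ᶜ := by
        ext k
        simp only [bsub, blk, Finset.mem_filter, Finset.mem_univ, true_and, Finset.mem_compl]
        split_ifs <;> simp
      rw [this, Finset.card_compl, Fintype.card_fin, hc0]
    obtain ⟨hg, hB⟩ := hblk blk (fun i => by fin_cases i <;> simp [hc0, hc1] <;> omega)
    refine good_split hC ha hD hI blk rep hrep hg (blockGroup_le hC ha hI blk rep) hB ?_ 0 ?_ ?_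
    · exact (Subgroup.commutator_le).2 fun x hx y hy => by
        rw [commutatorElement_def]; exact mul_mem (mul_mem (mul_mem hx hy) (inv_mem hx)) (inv_mem hy)
    · rw [pow_zero, one_mul]
    · rw [Fin.sum_univ_two, hc0, hc1, add_zero, hsv]
  · -- equal blocks permuted cyclically
    obtain ⟨b, hb⟩ : ∃ b, r = b + 1 := ⟨r - 1, by have := hC.prime'.pos; omega⟩
    subst hnm
    let e : Fin (r * m) ≃ Fin (b + 1) × Fin m := (finCongr (by rw [hb])).trans finProdFinEquiv.symm
    let blk : Fin (r * m) → Fin (b + 1) := fun k => (e k).1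
    let rep : Fin (b + 1) → Fin (r * m) := fun i => e.symm (i, ⟨0, hm0⟩)
    have hrep : ∀ i, blk (rep i) = i := fun i => by simp [blk, rep]
    have hc : ∀ i, (bsub blk i).card = m := fun i => by
      have : bsub blk i = Finset.univ.map ⟨fun t => e.symm (i, t), fun s t (h : e.symm (i, s) = e.symm (i, t)) => (Prod.ext_iff.1 (e.symm.injective h)).2⟩ := by
        ext k
        simp only [bsub, blk, Finset.mem_filter, Finset.mem_univ, true_and, Finset.mem_map,
          Function.Embedding.coeFn_mk]
        constructor
        · rintro rfl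
          exact ⟨(e k).2, e.symm_apply_apply k⟩
        · rintro ⟨t, rfl⟩
          exact congrArg Prod.fst (e.apply_symm_apply (i, t))
      rw [this, Finset.card_map, Finset.card_fin]
    obtain ⟨hg, hB⟩ := hblk blk (fun i => by
      rw [hc]; have := hC.prime'.two_le; nlinarith)
    let π' : Fin (r * m) ≃ Fin (r * m) :=
      (e.trans ((Equiv.addRight (1 : Fin (b + 1))).prodCongr (Equiv.refl (Fin m)))).trans e.symm
    have hπ1 : ∀ k, blk (π' k) = blk k + 1 := fun k => by simp [blk, π']
    have hπ2 : ∀ i, π' (rep i) = rep (i + 1) := fun i => by simp [rep, π']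
    obtain ⟨w, hw, hwa⟩ := exists_perm hC ha hI π'
    set K := blockGroup hC ha hI blk rep
    have hwK : w ∈ Subgroup.normalizer (K : Set Γ) := by
      have key : ∀ x ∈ K, w * x * w⁻¹ ∈ K := fun x hx =>
        conj_blockGroup hC ha hI hwa (ρ := fun i => i + 1) hπ1 hπ2 hx
      refine Subgroup.mem_normalizer_iff.2 fun x => ⟨key x, fun hx => ?_⟩
      have hiter : ∀ k : ℕ, ∀ y ∈ K, w ^ k * y * (w ^ k)⁻¹ ∈ K := fun k => by
        induction k with
        | zero => intro y hy; simpa using hy
        | succ k ihk =>
          intro y hy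
          rw [pow_succ, _root_.mul_inv_rev, show w ^ k * w * y * (w⁻¹ * (w ^ k)⁻¹) =
            w ^ k * (w * y * w⁻¹) * (w ^ k)⁻¹ by group]
          exact ihk _ (key y hy)
      have := hiter (orderOf w - 1) _ hx
      have e1 : w ^ (orderOf w - 1) = w⁻¹ := by
        refine eq_inv_of_mul_eq_one_left ?_
        rw [← pow_succ, Nat.sub_add_cancel (orderOf_pos w), pow_orderOf_eq_one]
      rwa [e1, inv_inv, show w⁻¹ * (w * x * w⁻¹) * w = x by group] at this
    set X₀ := K ⊔ Subgroup.zpowers w
    have hXN : X₀ ≤ Subgroup.normalizer (K : Set Γ) := sup_le Subgroup.le_normalizer ((Subgroup.zpowers_le).2 hwK)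
    refine good_split hC ha hD hI blk rep hrep hg (X₀ := X₀)
      (sup_le (blockGroup_le hC ha hI blk rep) ((Subgroup.zpowers_le).2 hw)) hB ?_ 1 ?_ ?_
    · let N := Subgroup.normalizer (K : Set Γ)
      let φ : N →* N ⧸ K.subgroupOf N := QuotientGroup.mk' _
      have hcyc : ∀ x : N, (x : Γ) ∈ X₀ → φ x ∈ Subgroup.zpowers (φ ⟨w, hwK⟩) := by
        intro x hx
        rw [← SetLike.mem_coe, Subgroup.coe_mul_of_right_le_normalizer_left _ _
          ((Subgroup.zpowers_le).2 hwK)] at hx
        obtain ⟨k, hk, _, ⟨j, rfl⟩, e⟩ := hx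
        refine ⟨j, ?_⟩
        show φ ⟨w, hwK⟩ ^ j = φ x
        rw [← map_zpow, show x = ⟨k, Subgroup.le_normalizer hk⟩ * ⟨w, hwK⟩ ^ j from Subtype.ext (by simpa using e.symm),
          map_mul, show φ ⟨k, Subgroup.le_normalizer hk⟩ = 1 from (QuotientGroup.eq_one_iff _).2 hk, one_mul]
      rw [Subgroup.commutator_le]
      intro x hx y hy
      obtain ⟨i, hi⟩ := hcyc ⟨x, hXN hx⟩ hx
      obtain ⟨j, hj⟩ := hcyc ⟨y, hXN hy⟩ hy
      have : φ ⁅(⟨x, hXN hx⟩ : N), ⟨y, hXN hy⟩⁆ = 1 := by
        rw [map_commutatorElement, ← hi, ← hj, commutatorElement_eq_one_iff_mul_comm]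
        exact (Commute.refl _).zpow_zpow i j
      exact (QuotientGroup.eq_one_iff (⁅(⟨x, hXN hx⟩ : N), ⟨y, hXN hy⟩⁆ : N)).1 this
    · -- a monomial element moving the blocks is not in the image of `K`
      have : (K.map E.π).subgroupOf (X₀.map E.π) |>.Normal := by
        refine (Subgroup.normal_subgroupOf_iff_le_normalizer (Subgroup.map_mono le_sup_left)).2 ?_
        exact (Subgroup.map_mono hXN).trans (Subgroup.le_normalizer_map E.π)
      set T := X₀.map E.π
      set K' := (K.map E.π).subgroupOf T
      have hwT : E.π w ∈ T := ⟨w, Subgroup.mem_sup_right (Subgroup.mem_zpowers w), rfl⟩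
      set o := orderOf (QuotientGroup.mk' K' ⟨E.π w, hwT⟩) with ho
      have hro : r ∣ o := by
        have hmem : (⟨E.π w, hwT⟩ : T) ^ o ∈ K' := by
          rw [← QuotientGroup.eq_one_iff]
          show QuotientGroup.mk' K' _ = 1
          rw [map_pow, ho, pow_orderOf_eq_one]
        obtain ⟨k, hk, hkw⟩ : E.π w ^ o ∈ K.map E.π := hmem
        have hwo : ∀ (t : ℕ) (c : Fin (r * m)), ∃ d : F, E.act (w ^ t) (a c) = d • a ((π' ^ t) c) := by
          intro t
          induction t with
          | zero => intro c; exact ⟨1, by simp [act_one]⟩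
          | succ t iht =>
            intro c
            obtain ⟨d, hd⟩ := iht c
            obtain ⟨d', hd'⟩ := hwa ((π' ^ t) c)
            exact ⟨d * d', by rw [pow_succ', act_mul, hd, map_smul, hd', smul_smul, pow_succ']; rfl⟩
        have hblkt : ∀ t : ℕ, blk ((π' ^ t) (rep 0)) = (Fin.ofNat (b + 1) t) := by
          intro t
          induction t with
          | zero => simp [hrep]
          | succ t iht =>
            rw [pow_succ', Equiv.Perm.mul_apply, hπ1, iht]
            ext
            simp [Fin.val_add]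
        -- `k` fixes every block
        let St : Subgroup Γ :=
          { carrier := {g | ∀ v, E.act g v ∈ bspan (F := F) a blk 0 ↔ v ∈ bspan (F := F) a blk 0}
            one_mem' := fun v => by rw [act_one]
            mul_mem' := fun {g g'} hg hg' v => by rw [act_mul]; exact (hg _).trans (hg' v)
            inv_mem' := fun {g} hg v => by
              have := hg (E.act g⁻¹ v)
              rw [act_act_inv] at this
              exact this.symm }
        have hKSt : K ≤ St := by
          have hpres : ∀ g : Γ, (∀ v ∈ bspan (F := F) a blk 0, E.act g v ∈ bspan (F := F) a blk 0) → g ∈ St := by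
            intro g hg v
            refine ⟨fun hv => ?_, hg v⟩
            have hsub : (bspan a blk 0).map (E.act g : V →ₗ[F] V) ≤ bspan a blk 0 := by
              rintro _ ⟨z, hz, rfl⟩; exact hg z hz
            obtain ⟨z, hz, e'⟩ := (Submodule.eq_of_le_of_finrank_eq hsub
              (LinearEquiv.finrank_map_eq (E.act g) _)).ge hv
            have : z = v := (E.act g).injective e'
            exact this ▸ hz
          refine sup_le ?_ ?_
          · rw [blockHom, MonoidHom.noncommPiCoprod_range]
            refine iSup_le fun i => ?_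
            rw [Subgroup.range_subtype]
            intro g hg'
            refine hpres g fun v hv => ?_
            rcases eq_or_ne i 0 with rfl | hi
            · have := fixG_maps_span E.herm (bfam_ON hC ha blk 0)
                (G0_mem_fixG (p := p) (g := g) (by rwa [span_bfam])) (x := v) (by rwa [span_bfam])
              rwa [span_bfam] at this
            · rw [G0_fix hg' fun u hu => bspan_perp hC ha blk hi u hu v hv]; exact hv
          · rintro _ ⟨y, rfl⟩
            refine hpres _ fun v hv => ?_
            have hle : bspan a blk 0 ≤ (bspan a blk 0).comap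
                (E.act (linkHom hC ha hI rep y) : V →ₗ[F] V) := Submodule.span_le.2 (by
              rintro _ ⟨c, hc', rfl⟩
              obtain ⟨d, hd⟩ := linkHom_diag hC ha hI rep y (fun i j h => by rw [← hrep i, h, hrep]) c
              simp only [SetLike.mem_coe, Submodule.mem_comap, LinearEquiv.coe_coe, hd]
              exact Submodule.smul_mem _ _ (Submodule.subset_span ⟨c, hc', rfl⟩))
            exact hle hv
        have h0 : a (rep 0) ∈ bspan (F := F) a blk 0 := Submodule.subset_span ⟨_, hrep 0, rfl⟩
        have h1 := (hKSt hk (a (rep 0))).2 h0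
        rw [E.act_congr (g' := w ^ o) (by rw [hkw, map_pow])] at h1
        obtain ⟨d, hd⟩ := hwo o (rep 0)
        rw [hd] at h1
        have hd0 : d ≠ 0 := fun h => by
          have h3 := E.act_iso (w ^ o) (a (rep 0)) (a (rep 0))
          rw [hd, h, zero_smul] at h3
          simp [ha _ _] at h3
        have h4 : blk ((π' ^ o) (rep 0)) = 0 := by
          by_contra hne
          have h5 := bspan_perp hC ha blk hne (a ((π' ^ o) (rep 0))) (Submodule.subset_span ⟨_, rfl, rfl⟩) _ h1
          simp [ha _ _, hd0] at h5
        rw [hblkt] at h4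
        have h6 := congrArg Fin.val h4
        rw [Fin.val_ofNat] at h6
        rw [hb]
        exact Nat.dvd_of_mod_eq_zero (by simpa using h6)
      rw [pow_one]
      calc r * Nat.card (K.map E.π) ∣ o * Nat.card (K.map E.π) := mul_dvd_mul_right hro _
        _ ∣ Nat.card (T ⧸ K') * Nat.card (K.map E.π) := mul_dvd_mul_right (ho ▸ orderOf_dvd_natCard _) _
        _ = Nat.card T := by
          rw [← Nat.card_congr (Subgroup.subgroupOfEquivOfLe (Subgroup.map_mono le_sup_left)).toEquiv]
          exact K'.card_eq_card_quotient_mul_card_subgroup.symm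
    · rw [Finset.sum_congr rfl fun i _ => by rw [hc i], Finset.sum_const, Finset.card_fin, smul_eq_mul,
        ← hb, hsv]
  · exact good_cyclic hC ha hD hn h2 hs hb

/-- No extension by a prime different from the characteristic is a stem extension. -/
theorem not_stem_cross (hn : 2 ≤ finrank F V)
    (hr : (∃ t : F, σ t = t ∧ t ≠ 0 ∧ t ≠ 1) ∨ finrank F V ≠ 3) : ¬ E.π.ker ≤ commutator Γ := by
  intro hst
  obtain ⟨a, ha⟩ := exists_orthonormal E.herm
  obtain ⟨hI, -⟩ := good_all hC hD _ _ ha
  have hsp : Submodule.span F (Set.range a) = ⊤ := a.span_eq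
  set H := E.G0 p (Submodule.span F (Set.range a))
  have hsurj : ∀ x : Γ, ∃ y ∈ H, E.π x = E.π y := fun x => by
    obtain ⟨y, hy, e⟩ := exists_G0_of_TUon hC (P := Submodule.span F (Set.range a))
      (t := (E.π x).1) (by rw [hsp, suG_eq_TUon E.herm hn hr]; exact (E.π x).2)
    exact ⟨y, hy, Subtype.ext e.symm⟩
  have hle : commutator Γ ≤ H := by
    rw [commutator_def, Subgroup.commutator_le]
    intro x _ y _
    obtain ⟨x', hx', ex⟩ := hsurj x
    obtain ⟨y', hy', ey⟩ := hsurj y
    rw [E.comm_indep ex ey, commutatorElement_def]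
    exact mul_mem (mul_mem (mul_mem hx' hy') (inv_mem hx')) (inv_mem hy')
  have hbot : E.π.ker = ⊥ := (Subgroup.eq_bot_iff_forall _).2 fun g hg => hI g (hle (hst hg)) hg
  have := hC.card
  rw [hbot, Subgroup.card_bot] at this
  exact hC.prime'.one_lt.ne this

end Ext

end Cfsg.Agent.PSUMult
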