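import Cfsg.Agent.PSUMult.PairVanish

/-!
The derived group of the preimage of the radical meets the kernel trivially: averaging over the torus.
-/

set_option autoImplicit false
set_option linter.unusedSectionVars false

namespace Cfsg.Agent.PSUMult

open Module Cfsg.Agent.Classical Cfsg.Agent.Classical.Herm
open scoped commutatorElement

variable {F V : Type*} [Field F] [Fintype F] [AddCommGroup V] [Module F V] [FiniteDimensional F V]
  {σ : F →+* F} {B : V →ₛₗ[σ] V →ₗ[F] F} {Γ : Type*} [Group Γ] [Finite Γ]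

namespace PData

variable {E : Ext B Γ} {p q : ℕ} {e f : V} {m : ℕ} {u : Fin m → V} (P : PData E p q e f u)
include P

/-- The commutator pairing. -/
noncomputable def ee (a b : Fin m → F) : Γ := ⁅P.L a, P.L b⁆

theorem ee_mem (a b : Fin m → F) : P.ee a b ∈ P.Zt := P.comm_mem_Zt (P.L_mem a) (P.L_mem b)

theorem comm_Qt {z x : Γ} (hz : z ∈ P.Zt) (hx : x ∈ P.Qt) : Commute z x :=
  commutatorElement_eq_one_iff_commute.1 (P.Zt_comm hz hx)

theorem L_diff {x : Γ} {a : Fin m → F} {d : F} (hd : d + σ d = -B (emb u a) (emb u a))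
    (hx : E.π x = qel E.herm e (emb u a) d) : (P.L a)⁻¹ * x ∈ P.Zt := by
  refine ⟨σ (P.dd a) + d - B (-emb u a) (emb u a), ?_, ?_⟩
  · simp [E.herm.invol, fix_self E.herm]
    linear_combination hd + P.dd_spec a
  · rw [map_mul, map_inv, P.π_L, hx,
      qel_inv E.herm (adm_of_mem E.herm P.frame.ee (P.emb_mem_W a) (P.dd_spec a)),
      qel_mul E.herm ((adm_of_mem E.herm P.frame.ee (P.emb_mem_W a) (P.dd_spec a)).neg E.herm)
        (adm_of_mem E.herm P.frame.ee (P.emb_mem_W a) hd), neg_add_cancel]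

theorem ee_eq {x y : Γ} {a b : Fin m → F} {d d' : F} (hd : d + σ d = -B (emb u a) (emb u a))
    (hd' : d' + σ d' = -B (emb u b) (emb u b)) (hx : E.π x = qel E.herm e (emb u a) d)
    (hy : E.π y = qel E.herm e (emb u b) d') : ⁅x, y⁆ = P.ee a b := by
  have h1 := P.L_diff hd hx
  have h2 := P.L_diff hd' hy
  set z := (P.L a)⁻¹ * x with hz
  set w := (P.L b)⁻¹ * y with hw
  have hxe : x = P.L a * z := by rw [hz, mul_inv_cancel_left]
  have hye : y = P.L b * w := by rw [hw, mul_inv_cancel_left]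
  clear_value z w
  have c1 : Commute z (P.L b * w) := (P.comm_Qt h1 (mul_mem (P.L_mem b) (P.Zt_le h2)))
  have c2 : Commute w (P.L a) := P.comm_Qt h2 (P.L_mem a)
  rw [hxe, hye, ee, commutatorElement_def, commutatorElement_def, _root_.mul_inv_rev, _root_.mul_inv_rev]
  calc P.L a * z * (P.L b * w) * (z⁻¹ * (P.L a)⁻¹) * (w⁻¹ * (P.L b)⁻¹)
      = P.L a * (z * (P.L b * w) * z⁻¹) * (P.L a)⁻¹ * (w⁻¹ * (P.L b)⁻¹) := by group
    _ = P.L a * (P.L b * w) * (P.L a)⁻¹ * (w⁻¹ * (P.L b)⁻¹) := by rw [c1.eq, mul_inv_cancel_right]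
    _ = P.L a * P.L b * (w * (P.L a)⁻¹) * (w⁻¹ * (P.L b)⁻¹) := by group
    _ = _ := by rw [c2.inv_right.eq]; group

theorem ee_add_left (a b c : Fin m → F) : P.ee (a + b) c = P.ee a c * P.ee b c := by
  have hab := (adm_of_mem E.herm P.frame.ee (P.emb_mem_W a) (P.dd_spec a))
  have hbb := (adm_of_mem E.herm P.frame.ee (P.emb_mem_W b) (P.dd_spec b))
  rw [← P.ee_eq (x := P.L a * P.L b) (a := a + b) (b := c)
    (d := P.dd a + P.dd b - B (emb u a) (emb u b)) ?_ (P.dd_spec c) ?_ (P.π_L c)]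
  · rw [ee, ee]
    have h1 : ⁅P.L a * P.L b, P.L c⁆ = P.L a * ⁅P.L b, P.L c⁆ * (P.L a)⁻¹ * ⁅P.L a, P.L c⁆ := by
      simp only [commutatorElement_def]; group
    rw [h1, ← (P.comm_Qt (P.comm_mem_Zt (P.L_mem b) (P.L_mem c)) (P.L_mem a)).eq, mul_inv_cancel_right]
    exact (P.comm_Qt (P.comm_mem_Zt (P.L_mem b) (P.L_mem c)) (P.Zt_le (P.comm_mem_Zt (P.L_mem a) (P.L_mem c)))).eq
  · rw [map_add (emb u)]; exact (hab.add E.herm hbb).2.2
  · rw [map_mul, P.π_L, P.π_L, qel_mul E.herm hab hbb, map_add]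

theorem ee_swap (a b : Fin m → F) : P.ee b a = (P.ee a b)⁻¹ := (commutatorElement_inv _ _).symm

theorem ee_add_right (a b c : Fin m → F) : P.ee a (b + c) = P.ee a b * P.ee a c := by
  rw [P.ee_swap (b + c) a, P.ee_add_left, _root_.mul_inv_rev, ← P.ee_swap, ← P.ee_swap]
  exact (P.comm_Qt (P.ee_mem a c) (P.Zt_le (P.ee_mem a b))).eq

theorem comm_Zt {z w : Γ} (hz : z ∈ P.Zt) (hw : w ∈ P.Zt) : z * w = w * z :=
  (P.comm_Qt hz (P.Zt_le hw)).eq

theorem conj_ee (t : Tor σ m) (a b : Fin m → F) :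
    P.te t * P.ee a b * (P.te t)⁻¹ = P.ee (fun i => mu t i * a i) (fun i => mu t i * b i) := by
  rw [ee, conjugate_commutatorElement]
  have hs : ∀ a : Fin m → F, σ (t.1.1 : F) * t.1.1 * P.dd a + σ (σ (t.1.1 : F) * t.1.1 * P.dd a) =
      -B (emb u fun i => mu t i * a i) (emb u fun i => mu t i * a i) := fun a => by
    rw [← P.te_emb, smul_self E.herm, E.act_iso, map_mul, map_mul, E.herm.invol]
    linear_combination (σ (t.1.1 : F) * t.1.1) * P.dd_spec a
  exact P.ee_eq (hs a) (hs b) (P.π_conj_te t (P.dd_spec a) (P.π_L a)) (P.π_conj_te t (P.dd_spec b) (P.π_L b))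

theorem π_conj_ker {g : Γ} {z : Γ} (hz : E.π z = 1) : g * z * g⁻¹ = z := by
  rw [(E.ker_comm hz g).eq, mul_inv_cancel_right]

theorem card_tor_coprime : ¬ p ∣ Nat.card (Tor σ m) := by
  have := P.char
  have := Fact.mk P.prime
  intro h
  have h1 := h.trans (Subgroup.card_subgroup_dvd_card _)
  rw [Nat.card_prod, Nat.card_pi] at h1
  have h2 : Nat.card Fˣ = q ^ 2 - 1 := by rw [Nat.card_units, Nat.card_eq_fintype_card, P.cardF]
  have hpq : p ∣ q ^ 2 := by
    obtain ⟨k, -, hk⟩ := FiniteField.card F p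
    rw [← P.cardF, hk]
    exact dvd_pow_self p k.ne_zero
  have hno : ¬ p ∣ q ^ 2 - 1 := fun h => by
    have h3 := Nat.dvd_sub hpq h
    rw [Nat.sub_sub_self (Nat.one_le_pow _ _ (by have := P.two_le; omega))] at h3
    exact P.prime.not_dvd_one h3
  rcases P.prime.dvd_mul.1 h1 with h1 | h1
  · rw [h2] at h1; exact hno h1
  · rw [Finset.prod_const, Finset.card_univ] at h1
    have h4 := (P.prime.dvd_of_dvd_pow h1).trans (Subgroup.card_subgroup_dvd_card _)
    rw [h2] at h4
    exact hno h4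

theorem exists_permLift (h2 : (2 : F) = 0) {i j l : Fin m} (hij : i ≠ j) (hjl : j ≠ l) (hil : i ≠ l) :
    ∃ w : Γ, E.act w e = e ∧ (∀ z ∈ P.Zt, w * z * w⁻¹ = z) ∧ ∀ a : Fin m → F,
      E.act w (emb u (a ∘ ⇑(Equiv.swap i j * Equiv.swap j l : Equiv.Perm (Fin m)))) = emb u a := by
  have := P.char
  have := Fact.mk P.prime
  obtain ⟨t, he, hf, hu⟩ := P.frame.exists_perm E.herm h2 i j j l
  set π' := Equiv.swap i j * Equiv.swap j l with hπ
  have h3 : ∀ s, π' (π' (π' s)) = s := by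
    have hi : π' i = j := by rw [hπ, Equiv.Perm.mul_apply, Equiv.swap_apply_of_ne_of_ne hij hil, Equiv.swap_apply_left]
    have hj : π' j = l := by rw [hπ, Equiv.Perm.mul_apply, Equiv.swap_apply_left, Equiv.swap_apply_of_ne_of_ne (Ne.symm hil) (Ne.symm hjl)]
    have hl : π' l = i := by rw [hπ, Equiv.Perm.mul_apply, Equiv.swap_apply_right, Equiv.swap_apply_right]
    intro s
    rcases eq_or_ne s i with rfl | hsi
    · rw [hi, hj, hl]
    rcases eq_or_ne s j with rfl | hsj
    · rw [hj, hl, hi]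
    rcases eq_or_ne s l with rfl | hsl
    · rw [hl, hi, hj]
    have hs : π' s = s := by
      rw [hπ, Equiv.Perm.mul_apply, Equiv.swap_apply_of_ne_of_ne hsj hsl, Equiv.swap_apply_of_ne_of_ne hsi hsj]
    rw [hs, hs, hs]
  set w := E.lift t with hw
  have hwa : ∀ x, E.act w x = t.1 x := fun x => by rw [hw, Ext.act, E.π_lift]
  have hw3 : E.π (w ^ 3) = 1 := E.π_eq_one fun x => by
    have e3 : ∀ y, E.act (w ^ 3) y = t.1 (t.1 (t.1 y)) := fun y => by
      rw [pow_succ, pow_two, E.act_mul, E.act_mul, hwa, hwa, hwa]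
    rw [e3, P.frame.decomp E.herm x]
    simp only [map_add, map_sum, map_smul, he, hf, hu, h3]
  refine ⟨w, by rw [hwa, he], fun z hz => ?_, fun a => ?_⟩
  · obtain ⟨c, hc, hzπ⟩ := hz
    have hk : E.π (w * z * w⁻¹ * z⁻¹) = 1 := by
      rw [map_mul, map_inv, P.π_conj (l := 1) (by rw [hwa, he, one_smul]) one_ne_zero
        (adm_of_mem E.herm P.frame.ee (f := f) (zero_mem _) (by simpa using hc)) hzπ, map_zero, smul_zero,
        map_one, one_mul, one_mul, hzπ, mul_inv_cancel]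
    set k := w * z * w⁻¹ * z⁻¹ with hk'
    have step : w * z * w⁻¹ = k * z := by rw [hk']; group
    have hz3 : w ^ 3 * z * (w ^ 3)⁻¹ = k ^ 3 * z := by
      have : w ^ 3 * z * (w ^ 3)⁻¹ = w * (w * (w * z * w⁻¹) * w⁻¹) * w⁻¹ := by
        simp only [pow_succ, pow_zero, one_mul]; group
      rw [this, step]
      have hstep : ∀ k' : Γ, E.π k' = 1 → w * (k' * z) * w⁻¹ = k' * k * z := fun k' h' => by
        rw [mul_assoc k' k z, ← step, ← mul_assoc w, (E.ker_comm h' w).eq]; group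
      rw [hstep k hk, hstep (k * k) (by rw [map_mul, hk, one_mul])]
      simp only [pow_succ, pow_zero, one_mul]
    rw [(E.ker_comm hw3 z).symm.eq, mul_inv_cancel_right] at hz3
    have hk3 : k ^ 3 = 1 := mul_eq_right.1 hz3.symm
    have hp2 : p = 2 := by
      have h20 : ((2 : ℕ) : F) = 0 := by exact_mod_cast h2
      exact (Nat.prime_dvd_prime_iff_eq P.prime Nat.prime_two).1 ((CharP.cast_eq_zero_iff F p 2).1 h20)
    have : k = 1 := P.ker_eq_one_of_pow hk (by rw [hp2]; norm_num) hk3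
    rw [step, this, one_mul]
  · rw [hwa, emb_apply, emb_apply, map_sum]
    simp only [map_smul, hu, Function.comp_apply]
    exact Equiv.sum_comp π' fun s => a s • u s

open scoped IsMulCommutative in
/-- The derived group of the preimage of the radical avoids the kernel. -/
theorem derived_inj : ∀ z ∈ ⁅P.Qt, P.Qt⁆, E.π z = 1 → z = 1 := by
  classical
  have := P.char
  have := Fact.mk P.prime
  have : IsMulCommutative P.Zt := ⟨⟨fun x y => Subtype.ext (P.comm_Zt x.2 y.2)⟩⟩
  let A := Additive P.Zt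
  let e0 : (Fin m → F) → (Fin m → F) → A := fun a b => Additive.ofMul ⟨P.ee a b, P.ee_mem a b⟩
  let ge : (Fin m → F) →+ (Fin m → F) →+ A :=
    AddMonoidHom.mk' (fun a => AddMonoidHom.mk' (e0 a) fun b c => by
      exact congrArg Additive.ofMul (Subtype.ext (P.ee_add_right a b c) :
        (⟨P.ee a (b + c), P.ee_mem a (b + c)⟩ : P.Zt) = ⟨P.ee a b, P.ee_mem a b⟩ * ⟨P.ee a c, P.ee_mem a c⟩))
    fun a b => by
      refine AddMonoidHom.ext fun c => ?_
      exact congrArg Additive.ofMul (Subtype.ext (P.ee_add_left a b c) :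
        (⟨P.ee (a + b) c, P.ee_mem (a + b) c⟩ : P.Zt) = ⟨P.ee a c, P.ee_mem a c⟩ * ⟨P.ee b c, P.ee_mem b c⟩)
  let c : Tor σ m → P.Zt →* P.Zt := fun t => MonoidHom.mk'
    (fun x : P.Zt => (⟨P.te t * x.1 * (P.te t)⁻¹, P.conj_mem_Zt (P.te_spec t).1 t.1.1.ne_zero x.2⟩ : P.Zt))
    fun x y => Subtype.ext (by
      show P.te t * (x.1 * y.1) * (P.te t)⁻¹ = (P.te t * x.1 * (P.te t)⁻¹) * (P.te t * y.1 * (P.te t)⁻¹)
      group)
  have : Fintype (Tor σ m) := Fintype.ofFinite _
  let N : P.Zt →* P.Zt := ∏ t, c t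
  let mulT : Tor σ m → (Fin m → F) →+ (Fin m → F) := fun t =>
    AddMonoidHom.mk' (fun a i => mu t i * a i) fun a b => funext fun i => mul_add _ _ _
  let g : (Fin m → F) →+ (Fin m → F) →+ A :=
    AddMonoidHom.mk' (fun a => ∑ t, (ge (mulT t a)).comp (mulT t)) fun a b => by
      rw [← Finset.sum_add_distrib]
      refine Finset.sum_congr rfl fun t _ => ?_
      ext x
      simp
  have hN : ∀ a b, Additive.ofMul (N ⟨P.ee a b, P.ee_mem a b⟩) = g a b := by
    intro a b
    simp only [N, g, MonoidHom.finsetProd_apply, ofMul_prod, AddMonoidHom.mk'_apply, AddMonoidHom.coe_finsetSum,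
      Finset.sum_apply, AddMonoidHom.comp_apply]
    refine Finset.sum_congr rfl fun t _ => congrArg _ (Subtype.ext ?_)
    exact P.conj_ee t a b
  have hg : TorusPairing σ q g := by
    refine ⟨E.herm.toIsInvol, P.pow, P.two_le, P.cardF, fun a => ?_, ?_, ?_⟩
    · show (∑ t, (ge (mulT t a)).comp (mulT t)) a = 0
      rw [AddMonoidHom.finsetSum_apply]
      refine Finset.sum_eq_zero fun t _ => ?_
      exact congrArg Additive.ofMul (Subtype.ext (commutatorElement_self _) :
        (⟨P.ee (mulT t a) (mulT t a), P.ee_mem _ _⟩ : P.Zt) = 1)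
    · intro l η hl hη hp a b
      let s : Tor σ m := ⟨(Units.mk0 l hl, fun i => ⟨Units.mk0 (η i) (left_ne_zero_of_mul_eq_one (hη i)),
        Units.ext (hη i)⟩), hp⟩
      have hμ : ∀ a : Fin m → F, (fun i => σ l * η i * a i) = mulT s a := fun a => rfl
      rw [hμ, hμ]
      show (∑ t, (ge (mulT t (mulT s a))).comp (mulT t)) (mulT s b) = (∑ t, (ge (mulT t a)).comp (mulT t)) b
      rw [AddMonoidHom.finsetSum_apply, AddMonoidHom.finsetSum_apply]
      refine Fintype.sum_equiv (Equiv.mulRight s) _ _ fun t => ?_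
      have hcomp : ∀ a, mulT t (mulT s a) = mulT (t * s) a := fun a => funext fun i => by
        show mu t i * (mu s i * a i) = mu (t * s) i * a i
        rw [mu_mul, mul_assoc]
      show ge (mulT t (mulT s a)) (mulT t (mulT s b)) = ge (mulT (t * s) a) (mulT (t * s) b)
      rw [hcomp, hcomp]
    · intro hq2 i j l hij hjl hil a b
      have h2 : (2 : F) = 0 := by
        have hF4 : Fintype.card F = 4 := by rw [P.cardF, hq2]; norm_num
        have h4 : ((Fintype.card F : ℕ) : F) = 0 := Nat.cast_card_eq_zero F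
        rw [hF4] at h4
        have : (2 : F) * 2 = 0 := by push_cast at h4; linear_combination h4
        exact (mul_self_eq_zero.1 this)
      obtain ⟨w, hwe, hwz, hwa⟩ := P.exists_permLift h2 hij hjl hil
      set π' := Equiv.swap i j * Equiv.swap j l
      show (∑ t, (ge (mulT t (a ∘ π'))).comp (mulT t)) (b ∘ π') = (∑ t, (ge (mulT t a)).comp (mulT t)) b
      rw [AddMonoidHom.finsetSum_apply, AddMonoidHom.finsetSum_apply]
      have hmem : ∀ t : Tor σ m, ((t.1.1, t.1.2 ∘ π') : Fˣ × (Fin m → N1' σ)) ∈ Tor σ m := fun t => by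
        show ∏ i, (((t.1.2 ∘ π') i : Fˣ) : F) = _
        exact (Equiv.prod_comp π' fun i => ((t.1.2 i : Fˣ) : F)).trans t.2
      let Φ : Tor σ m → Tor σ m := fun t => ⟨(t.1.1, t.1.2 ∘ π'), hmem t⟩
      have hΦ : Function.Bijective Φ := by
        refine Finite.injective_iff_bijective.1 fun s t h => ?_
        have h' : ((s.1.1, s.1.2 ∘ π') : Fˣ × (Fin m → N1' σ)) = (t.1.1, t.1.2 ∘ π') := congrArg Subtype.val h
        obtain ⟨h1', h2'⟩ := Prod.ext_iff.1 h'
        refine Subtype.ext (Prod.ext h1' (funext fun k => ?_))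
        have := congrFun h2' (π'.symm k)
        simpa using this
      rw [← Fintype.sum_equiv (Equiv.ofBijective Φ hΦ)
        (fun t => ge (mulT (Φ t) (a ∘ π')) (mulT (Φ t) (b ∘ π'))) _ fun t => rfl]
      refine Finset.sum_congr rfl fun t _ => ?_
      have hcomp : ∀ a : Fin m → F, mulT (Φ t) (a ∘ π') = (mulT t a) ∘ π' := fun a => funext fun k => rfl
      show ge (mulT (Φ t) (a ∘ π')) (mulT (Φ t) (b ∘ π')) = ge (mulT t a) (mulT t b)
      rw [hcomp, hcomp]
      refine congrArg Additive.ofMul (Subtype.ext ?_)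
      show P.ee (mulT t a ∘ π') (mulT t b ∘ π') = P.ee (mulT t a) (mulT t b)
      have hx : ∀ c : Fin m → F, E.π (w * P.L (c ∘ π') * w⁻¹) = qel E.herm e (emb u c) (P.dd (c ∘ π')) := by
        intro c
        rw [P.π_conj (l := 1) (by rw [hwe, one_smul]) one_ne_zero
          (adm_of_mem E.herm P.frame.ee (P.emb_mem_W _) (P.dd_spec _)) (P.π_L _), hwa, map_one, one_mul,
          one_smul, one_mul]
      have hd : ∀ c : Fin m → F, P.dd (c ∘ π') + σ (P.dd (c ∘ π')) = -B (emb u c) (emb u c) := fun c => by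
        rw [P.dd_spec, ← hwa c, E.act_iso]
      rw [← P.ee_eq (a := mulT t a) (b := mulT t b) (hd _) (hd _) (hx _) (hx _), ← conjugate_commutatorElement]
      exact (hwz _ (P.ee_mem _ _)).symm
  obtain ⟨ζ, hζ⟩ := hg.result P.dims
  -- the coordinate of an element of the centre
  let κ : P.Zt → F := fun z => B f ((E.π z.1).1 f)
  have hκ : ∀ (z : P.Zt) c, c + σ c = 0 → E.π z.1 = qel E.herm e 0 c → κ z = c := by
    intro z c hc hz
    show B f ((E.π z.1).1 f) = c
    rw [hz, qel_apply E.herm (adm_of_mem E.herm P.frame.ee (f := f) (zero_mem _) (by simpa using hc)),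
      P.frame.ef]
    simp [P.frame.ff, fe E.herm P.frame.ef]
  have hκmul : ∀ z z' : P.Zt, κ (z * z') = κ z + κ z' := by
    intro z z'
    obtain ⟨c, hc, hz⟩ := z.2
    obtain ⟨c', hc', hz'⟩ := z'.2
    rw [hκ z c hc hz, hκ z' c' hc' hz', hκ (z * z') (c + c') (by rw [map_add]; linear_combination hc + hc')]
    rw [Subgroup.coe_mul, map_mul, hz, hz',
      qel_mul E.herm (adm_of_mem E.herm P.frame.ee (f := f) (zero_mem _) (by simpa using hc))
        (adm_of_mem E.herm P.frame.ee (f := f) (zero_mem _) (by simpa using hc'))]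
    simp
  have hκ1 : κ 1 = 0 := hκ 1 0 (by simp) (by rw [OneMemClass.coe_one, map_one, qel_zero])
  let S : Subgroup P.Zt :=
    { carrier := {z | Additive.ofMul (N z) = ζ (κ z)}
      one_mem' := by simp [hκ1]
      mul_mem' := fun {a b} ha hb => by
        simp only [Set.mem_ofPred_eq] at ha hb ⊢
        rw [map_mul, ofMul_mul, ha, hb, hκmul, map_add]
      inv_mem' := fun {a} ha => by
        simp only [Set.mem_ofPred_eq] at ha ⊢
        have h1 := hκmul a a⁻¹
        rw [mul_inv_cancel, hκ1] at h1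
        rw [map_inv, ofMul_inv, ha, eq_neg_of_add_eq_zero_right h1.symm, map_neg] }
  have hle : ⁅P.Qt, P.Qt⁆ ≤ S.map P.Zt.subtype := by
    rw [Subgroup.commutator_le]
    intro x hx y hy
    obtain ⟨a, ha, d, hd, hx⟩ := hx
    obtain ⟨b, hb, d', hd', hy⟩ := hy
    obtain ⟨a, rfl⟩ := P.exists_coord ha
    obtain ⟨b, rfl⟩ := P.exists_coord hb
    refine ⟨⟨P.ee a b, P.ee_mem a b⟩, ?_, (P.ee_eq hd hd' hx hy).symm⟩
    show Additive.ofMul (N _) = ζ (κ _)
    rw [hN, hζ, hκ _ (∑ i, (σ (b i) * a i - σ (a i) * b i)) ?_ (P.π_comm (P.dd_spec a) (P.dd_spec b) (P.π_L a) (P.π_L b))]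
    rw [map_sum, ← Finset.sum_add_distrib]
    exact Finset.sum_eq_zero fun i _ => by simp [E.herm.invol]; ring
  intro z hz hz1
  obtain ⟨w, hw, rfl⟩ := hle hz
  have hw' : Additive.ofMul (N w) = ζ (κ w) := hw
  have hw1 : E.π w.1 = 1 := hz1
  rw [hκ w 0 (by simp) (by rw [hw1, qel_zero]), map_zero] at hw'
  have hN1 : N w = w ^ Nat.card (Tor σ m) := by
    simp only [N, MonoidHom.finsetProd_apply]
    rw [Finset.prod_eq_pow_card fun t _ => Subtype.ext (P.π_conj_ker (g := P.te t) hw1), Finset.card_univ,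
      ← Nat.card_eq_fintype_card]
  have h1 : w.1 ^ Nat.card (Tor σ m) = 1 := by
    rw [← SubmonoidClass.coe_pow, ← hN1]
    exact congrArg Subtype.val (ofMul_eq_zero.1 hw')
  exact P.ker_eq_one_of_pow hw1 P.card_tor_coprime h1

end PData

end Cfsg.Agent.PSUMult
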