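import Cfsg.Agent.PSUMult.Fix

/-!
Central extensions of a special unitary group, and the transfer to a subgroup whose derived group meets the
kernel trivially.
-/

set_option autoImplicit false
set_option linter.unusedSectionVars false

namespace Cfsg.Agent.PSUMult

open Cfsg.Agent.Classical Cfsg.Agent.Classical.Herm
open scoped commutatorElement

variable {F V : Type*} [Field F] [AddCommGroup V] [Module F V] {σ : F →+* F} {B : V →ₛₗ[σ] V →ₗ[F] F}

/-- A central extension of a special isometry group. -/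
structure Ext (B : V →ₛₗ[σ] V →ₗ[F] F) (Γ : Type*) [Group Γ] where
  π : Γ →* suG B
  surj : Function.Surjective π
  central : π.ker ≤ Subgroup.center Γ
  herm : IsHerm B

namespace Ext

variable {Γ : Type*} [Group Γ] (E : Ext B Γ)

/-- The action on the space. -/
def act (g : Γ) : V ≃ₗ[F] V := (E.π g).1

theorem act_mul (g g' : Γ) (x : V) : E.act (g * g') x = E.act g (E.act g' x) := by
  simp only [act, map_mul]; rfl

theorem act_one (x : V) : E.act 1 x = x := by simp only [act, map_one]; rfl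

theorem act_inv_act (g : Γ) (x : V) : E.act g⁻¹ (E.act g x) = x := by
  rw [← E.act_mul, inv_mul_cancel, act_one]

theorem act_act_inv (g : Γ) (x : V) : E.act g (E.act g⁻¹ x) = x := by
  rw [← E.act_mul, mul_inv_cancel, act_one]

theorem act_iso (g : Γ) (x y : V) : B (E.act g x) (E.act g y) = B x y := (E.π g).2.1 x y

theorem act_congr {g g' : Γ} (h : E.π g = E.π g') (x : V) : E.act g x = E.act g' x := by rw [act, act, h]

theorem π_ext {g g' : Γ} (h : ∀ x, E.act g x = E.act g' x) : E.π g = E.π g' :=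
  Subtype.ext (LinearEquiv.ext h)

theorem π_eq_one {g : Γ} (h : ∀ x, E.act g x = x) : E.π g = 1 := Subtype.ext (LinearEquiv.ext h)

theorem act_of_one {g : Γ} (h : E.π g = 1) (x : V) : E.act g x = x := by rw [act, h]; rfl

theorem ker_comm {z : Γ} (hz : E.π z = 1) (g : Γ) : Commute g z :=
  Subgroup.mem_center_iff.1 (E.central hz) g

/-- Conjugation depends only on the image. -/
theorem conj_indep {g g' : Γ} (h : E.π g = E.π g') (x : Γ) : g * x * g⁻¹ = g' * x * g'⁻¹ := by
  have hz : E.π (g'⁻¹ * g) = 1 := by rw [map_mul, map_inv, h, inv_mul_cancel]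
  calc g * x * g⁻¹ = g' * ((g'⁻¹ * g) * x) * (g'⁻¹ * g)⁻¹ * g'⁻¹ := by group
    _ = g' * (x * (g'⁻¹ * g)) * (g'⁻¹ * g)⁻¹ * g'⁻¹ := by rw [(E.ker_comm hz x).eq]
    _ = _ := by group

/-- Commutators depend only on the images. -/
theorem comm_indep {a a' b b' : Γ} (ha : E.π a = E.π a') (hb : E.π b = E.π b') :
    ⁅a, b⁆ = ⁅a', b'⁆ := by
  rw [commutatorElement_def, commutatorElement_def, E.conj_indep ha b]
  have h := E.conj_indep hb a'⁻¹
  calc a' * b * a'⁻¹ * b⁻¹ = a' * (b * a'⁻¹ * b⁻¹) := by group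
    _ = _ := by rw [h]; group

/-- A preimage. -/
noncomputable def lift (g : suG B) : Γ := Function.surjInv E.surj g

theorem π_lift (g : suG B) : E.π (E.lift g) = g := Function.surjInv_eq E.surj g

theorem isMulCommutative_ker : IsMulCommutative E.π.ker :=
  ⟨⟨fun a b => Subtype.ext (E.ker_comm b.2 a.1).eq⟩⟩

theorem pow_ker {r : ℕ} (hk : Nat.card E.π.ker = r) {z : Γ} (hz : E.π z = 1) : z ^ r = 1 := by
  have := pow_card_eq_one' (x := (⟨z, hz⟩ : E.π.ker))
  rw [hk] at this
  exact congrArg Subtype.val this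

/-- The order of a subgroup containing the kernel. -/
theorem card_sup_ker [Finite Γ] (K : Subgroup Γ) :
    Nat.card (K ⊔ E.π.ker : Subgroup Γ) = Nat.card (K.map E.π) * Nat.card E.π.ker := by
  let f : (K ⊔ E.π.ker : Subgroup Γ) →* suG B := E.π.comp (K ⊔ E.π.ker).subtype
  have h1 : f.range = K.map E.π := by
    rw [MonoidHom.range_comp, Subgroup.range_subtype, Subgroup.map_sup]
    exact sup_eq_left.2 ((Subgroup.map_eq_bot_iff E.π.ker).2 le_rfl ▸ bot_le)
  have h2 : Nat.card f.ker = Nat.card E.π.ker := by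
    refine Nat.card_congr ⟨fun x => ⟨x.1.1, x.2⟩, fun z => ⟨⟨z.1, Subgroup.mem_sup_right z.2⟩, z.2⟩,
      fun _ => rfl, fun _ => rfl⟩
  have h3 := f.ker.index_mul_card
  rw [Subgroup.index_ker, h1, h2] at h3
  exact h3.symm

/-- Transfer to `X₀`: if `⁅X₀, X₀⁆` avoids the kernel and `X₀` has index prime to the order of the kernel
in `H₀`, then the derived group of `H₀` and its elements of order `p` avoid the kernel too. -/
theorem transfer_inj [Finite Γ] {r p : ℕ} [hr : Fact r.Prime] [hp : Fact p.Prime]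
    (hk : Nat.card E.π.ker = r) {H₀ X₀ K : Subgroup Γ} (hX : X₀ ≤ H₀ ⊔ E.π.ker)
    (hv : padicValNat r (Nat.card (H₀.map E.π)) ≤ padicValNat r (Nat.card (X₀.map E.π)))
    (hXK : ⁅X₀, X₀⁆ ≤ K) (hK : ∀ x ∈ K, E.π x = 1 → x = 1)
    (hgen : p = r ∧ H₀ ≤ ⁅H₀, H₀⁆ ∨ p ≠ r ∧ H₀ ≤ Subgroup.closure {x | x ∈ H₀ ∧ x ^ p = 1}) :
    ∀ z ∈ H₀, E.π z = 1 → z = 1 := by
  classical
  have : Finite (suG B) := Finite.of_surjective _ E.surj
  have := E.isMulCommutative_ker
  set G : Subgroup Γ := H₀ ⊔ E.π.ker with hG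
  set X : Subgroup Γ := X₀ ⊔ E.π.ker with hXd
  have hXG : X ≤ G := sup_le hX le_sup_right
  have hXX : ⁅X, X⁆ ≤ K := by
    rw [Subgroup.commutator_le]
    intro a ha b hb
    have : (E.π.ker).Normal := MonoidHom.normal_ker _
    obtain ⟨a', ha', z, hz, rfl⟩ := Subgroup.mem_sup_of_normal_right.1 ha
    obtain ⟨b', hb', z', hz', rfl⟩ := Subgroup.mem_sup_of_normal_right.1 hb
    rw [E.comm_indep (a' := a') (b' := b') (by rw [map_mul, show E.π z = 1 from hz, mul_one])
      (by rw [map_mul, show E.π z' = 1 from hz', mul_one])]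
    exact hXK (Subgroup.commutator_mem_commutator ha' hb')
  let X' : Subgroup G := X.subgroupOf G
  have hidx : ¬ r ∣ X'.index := by
    have h1 := X'.index_mul_card
    rw [Nat.card_congr (Subgroup.subgroupOfEquivOfLe hXG).toEquiv,
      show Nat.card G = _ from E.card_sup_ker H₀, show Nat.card X = _ from E.card_sup_ker X₀,
      ← mul_assoc] at h1
    have h2 : X'.index * Nat.card (X₀.map E.π) = Nat.card (H₀.map E.π) :=
      Nat.eq_of_mul_eq_mul_right Nat.card_pos h1
    intro hdvd
    have h3 := congrArg (padicValNat r) h2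
    rw [padicValNat.mul Subgroup.index_ne_zero_of_finite Nat.card_pos.ne'] at h3
    have h4 := one_le_padicValNat_of_dvd (p := r) Subgroup.index_ne_zero_of_finite hdvd
    omega
  intro z hz hz1
  have hzr := E.pow_ker hk hz1
  let φ : X' →* Abelianization X' := Abelianization.of
  let T : G →* Abelianization X' := φ.transfer
  let zG : G := ⟨z, Subgroup.mem_sup_left hz⟩
  have hzc : ∀ g : G, g * zG = zG * g := fun g => Subtype.ext (E.ker_comm hz1 g.1).eq
  have hzX : zG ∈ X' := Subgroup.mem_sup_right hz1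
  have hT : T zG = φ (⟨zG, hzX⟩ ^ X'.index) := by
    have key : ∀ (k : ℕ) (g₀ : G), g₀⁻¹ * zG ^ k * g₀ ∈ X' → g₀⁻¹ * zG ^ k * g₀ = zG ^ k := fun k g₀ _ => by
      rw [mul_assoc, ← ((Commute.pow_right (hzc g₀) k)).eq, inv_mul_cancel_left]
    show φ.transfer zG = _
    rw [MonoidHom.transfer_eq_pow φ zG key]
    rfl
  have hT1 : T zG = 1 := by
    rcases hgen with ⟨-, hle⟩ | ⟨hpr, hle⟩
    · have hmap : ⁅H₀, H₀⁆ ≤ (commutator G).map G.subtype := by
        rw [Subgroup.commutator_le]
        intro a ha b hb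
        exact ⟨⁅⟨a, Subgroup.mem_sup_left ha⟩, ⟨b, Subgroup.mem_sup_left hb⟩⁆,
          Subgroup.commutator_mem_commutator (Subgroup.mem_top _) (Subgroup.mem_top _), rfl⟩
      obtain ⟨y, hy, hyz⟩ := hmap (hle hz)
      have := (Abelianization.commutator_subset_ker T) hy
      rwa [show y = zG from Subtype.ext hyz] at this
    · have hmap : Subgroup.closure {x | x ∈ H₀ ∧ x ^ p = 1} ≤
          (((powMonoidHom p : Abelianization X' →* _).comp T).ker).map G.subtype := by
        refine (Subgroup.closure_le _).2 ?_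
        rintro x ⟨hx, hxp⟩
        refine ⟨⟨x, Subgroup.mem_sup_left hx⟩, ?_, rfl⟩
        show T _ ^ p = 1
        rw [← map_pow, show (⟨x, Subgroup.mem_sup_left hx⟩ : G) ^ p = 1 from Subtype.ext hxp, map_one]
      obtain ⟨y, hy, hyz⟩ := hmap (hle hz)
      have h1 : T zG ^ p = 1 := by
        rw [show y = zG from Subtype.ext hyz] at hy; exact hy
      have h2 : T zG ^ r = 1 := by
        rw [← map_pow, show zG ^ r = 1 from Subtype.ext hzr, map_one]
      exact orderOf_eq_one_iff.1 (Nat.eq_one_of_dvd_coprimes ((Nat.coprime_primes hp.out hr.out).2 hpr)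
        (orderOf_dvd_of_pow_eq_one h1) (orderOf_dvd_of_pow_eq_one h2))
  rw [hT1] at hT
  have hmem : (⟨zG, hzX⟩ : X') ^ X'.index ∈ commutator X' := by
    rw [← Abelianization.ker_of]; exact hT.symm
  have hK' : z ^ X'.index ∈ K := by
    have hmap : (commutator X').map (G.subtype.comp X'.subtype) ≤ K := by
      rw [commutator_def, Subgroup.map_commutator, Subgroup.commutator_le]
      rintro _ ⟨a, -, rfl⟩ _ ⟨b, -, rfl⟩
      exact hXX (Subgroup.commutator_mem_commutator a.2 b.2)
    have := hmap ⟨_, hmem, rfl⟩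
    simpa [zG] using this
  have h1 : z ^ X'.index = 1 := hK _ hK' (by rw [map_pow, hz1, one_pow])
  exact orderOf_eq_one_iff.1 (Nat.eq_one_of_dvd_coprimes ((Nat.Prime.coprime_iff_not_dvd hr.out).2 hidx)
    (orderOf_dvd_of_pow_eq_one hzr) (orderOf_dvd_of_pow_eq_one h1))

end Ext

end Cfsg.Agent.PSUMult
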