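import Cfsg.Agent.Classical.UnitaryGroup

/-!
The special unitary group of the span of an orthonormal family, as the subgroup of the whole group fixing
the orthogonal vectors.
-/

set_option autoImplicit false
set_option linter.unusedSectionVars false

namespace Cfsg.Agent.PSUMult

open Module Cfsg.Agent.Classical Cfsg.Agent.Classical.Herm

variable {F V : Type*} [Field F] [AddCommGroup V] [Module F V] {σ : F →+* F} {B : V →ₛₗ[σ] V →ₗ[F] F}

section

variable {n : ℕ}

/-- The coordinates along a family. -/
def crd (B : V →ₛₗ[σ] V →ₗ[F] F) (a : Fin n → V) : V →ₗ[F] (Fin n → F) := LinearMap.pi fun i => B (a i)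

theorem crd_apply (a : Fin n → V) (x : V) (i : Fin n) : crd B a x i = B (a i) x := rfl

/-- The combination of a family. -/
def emb (a : Fin n → V) : (Fin n → F) →ₗ[F] V := Fintype.linearCombination F a

theorem emb_apply (a : Fin n → V) (c : Fin n → F) : emb a c = ∑ i, c i • a i :=
  Fintype.linearCombination_apply F a c

theorem emb_mem (a : Fin n → V) (c : Fin n → F) : emb a c ∈ Submodule.span F (Set.range a) := by
  rw [emb_apply]
  exact Submodule.sum_mem _ fun i _ => Submodule.smul_mem _ _ (Submodule.subset_span ⟨i, rfl⟩)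

theorem emb_single (a : Fin n → V) (i : Fin n) : emb a (Pi.single i (1 : F)) = a i := by
  rw [emb, Fintype.linearCombination_apply_single, one_smul]

/-- The isometries of determinant one fixing everything orthogonal to the family. -/
def fixG (B : V →ₛₗ[σ] V →ₗ[F] F) (a : Fin n → V) : Subgroup (suG B) where
  carrier := {g | ∀ x, crd B a x = 0 → g.1 x = x}
  one_mem' _ _ := rfl
  mul_mem' {g g'} hg hg' x hx := by rw [Subgroup.coe_mul, LinearEquiv.mul_apply, hg' x hx, hg x hx]
  inv_mem' {g} hg x hx := by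
    conv_lhs => rw [← hg x hx]
    rw [Subgroup.coe_inv, inv_apply_self']

theorem mem_fixG {a : Fin n → V} {g : suG B} : g ∈ fixG B a ↔ ∀ x, crd B a x = 0 → g.1 x = x := Iff.rfl

variable (h : IsHerm B) {a : Fin n → V} (ha : IsON B a)
include h ha

theorem crd_emb (c : Fin n → F) : crd B a (emb a c) = c := by
  funext i
  simp [crd_apply, emb_apply, map_sum, ha i]

theorem crd_self (i : Fin n) : crd B a (a i) = Pi.single i 1 :=
  (congrArg (crd B a) (emb_single (F := F) a i).symm).trans (crd_emb h ha _)

theorem crd_rest (x : V) : crd B a (x - emb a (crd B a x)) = 0 := by rw [map_sub, crd_emb h ha, sub_self]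

theorem form_emb (c : Fin n → F) (x : V) : B (emb a c) x = hermB n σ c (crd B a x) := by
  simp [emb_apply, hermB_apply, crd_apply, map_sum, LinearMap.sum_apply]

theorem form_emb_emb (c d : Fin n → F) : B (emb a c) (emb a d) = hermB n σ c d := by
  rw [form_emb h ha, crd_emb h ha]

theorem form_emb_perp (c : Fin n → F) {x : V} (hx : crd B a x = 0) : B (emb a c) x = 0 ∧ B x (emb a c) = 0 := by
  have : B (emb a c) x = 0 := by rw [form_emb h ha, hx, map_zero]
  exact ⟨this, (eq_zero_comm h).1 this⟩

/-- The isometries of the span preserve it. -/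
theorem fixG_apply_emb {g : suG B} (hg : g ∈ fixG B a) (c : Fin n → F) :
    g.1 (emb a c) = emb a (crd B a (g.1 (emb a c))) := by
  refine sub_eq_zero.1 (h.nondeg _ fun y => ?_)
  set r := g.1 (emb a c) - emb a (crd B a (g.1 (emb a c)))
  have hr : crd B a r = 0 := crd_rest h ha _
  have hy := crd_rest h ha y
  set y' := y - emb a (crd B a y)
  have e1 : B (g.1 (emb a c)) y' = 0 := by
    conv_lhs => arg 2; rw [← hg _ hy]
    rw [g.2.1, (form_emb_perp h ha _ hy).1]
  have e2 : B r y' = 0 := by
    show B (g.1 (emb a c) - emb a (crd B a (g.1 (emb a c)))) y' = 0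
    rw [LinearMap.map_sub₂, e1, (form_emb_perp h ha _ hy).1, sub_zero]
  calc B r y = B r (y' + emb a (crd B a y)) := by rw [sub_add_cancel]
    _ = 0 := by rw [map_add, e2, (form_emb_perp h ha _ hr).2, add_zero]

theorem fixG_maps_span {g : suG B} (hg : g ∈ fixG B a) {x : V} (hx : x ∈ Submodule.span F (Set.range a)) :
    g.1 x ∈ Submodule.span F (Set.range a) := by
  obtain ⟨c, rfl⟩ := (Submodule.mem_span_range_iff_exists_fun F).1 hx
  rw [← emb_apply, fixG_apply_emb h ha hg]
  exact emb_mem a _

/-- An automorphism of the coordinates, extended by the identity. -/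
def extLin (M : (Fin n → F) ≃ₗ[F] (Fin n → F)) : V ≃ₗ[F] V :=
  LinearEquiv.ofLinearMap (LinearMap.id - (emb a).comp (crd B a) + ((emb a).comp (M : _ →ₗ[F] _)).comp (crd B a))
    (LinearMap.id - (emb a).comp (crd B a) + ((emb a).comp (M.symm : _ →ₗ[F] _)).comp (crd B a))
    (LinearMap.ext fun x => by simp [crd_emb h ha])
    (LinearMap.ext fun x => by simp [crd_emb h ha])

theorem extLin_apply (M : (Fin n → F) ≃ₗ[F] (Fin n → F)) (x : V) :
    extLin h ha M x = x - emb a (crd B a x) + emb a (M (crd B a x)) := rfl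

theorem det_extLin (M : (Fin n → F) ≃ₗ[F] (Fin n → F)) [FiniteDimensional F V] :
    LinearEquiv.det (extLin h ha M) = LinearEquiv.det M := by
  classical
  let K := LinearMap.ker (crd B a)
  let π : V →ₗ[F] K := (LinearMap.id - (emb a).comp (crd B a)).codRestrict K fun x => by
    rw [LinearMap.mem_ker]; exact crd_rest h ha x
  let e : (K × (Fin n → F)) ≃ₗ[F] V := LinearEquiv.ofLinearMap (K.subtype.coprod (emb a)) (π.prod (crd B a))
    (LinearMap.ext fun x => by simp [π])
    (LinearMap.ext fun x => by
      have hk : crd B a (x.1 : V) = 0 := x.1.2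
      refine Prod.ext (Subtype.ext ?_) ?_
      · simp [π, crd_emb h ha, hk]
      · simp [crd_emb h ha, hk])
  have hh : (extLin h ha M : V →ₗ[F] V) =
      (e : (K × (Fin n → F)) →ₗ[F] V) ∘ₗ ((LinearMap.id : K →ₗ[F] K).prodMap (M : _ →ₗ[F] _)) ∘ₗ
        (e.symm : V →ₗ[F] (K × (Fin n → F))) := LinearMap.ext fun x => by simp [e, π, extLin_apply]
  refine Units.ext ?_
  rw [LinearEquiv.coe_det, LinearEquiv.coe_det, hh, LinearMap.det_conj, LinearMap.det_prodMap,
    LinearMap.det_id, one_mul]

/-- The special unitary group of the span. -/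
noncomputable def extHom [FiniteDimensional F V] : suG (hermB n σ) →* suG B :=
  MonoidHom.mk' (fun M => ⟨extLin h ha M.1, fun x y => by
      rw [extLin_apply, extLin_apply]
      simp only [map_add, LinearMap.add_apply, (form_emb_perp h ha _ (crd_rest h ha x)).2,
        (form_emb_perp h ha _ (crd_rest h ha y)).1, form_emb_emb h ha, M.2.1, add_zero, zero_add]
      conv_rhs =>
        rw [show x = x - emb a (crd B a x) + emb a (crd B a x) from (sub_add_cancel _ _).symm,
          show y = y - emb a (crd B a y) + emb a (crd B a y) from (sub_add_cancel _ _).symm]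
      simp only [map_add, LinearMap.add_apply, (form_emb_perp h ha _ (crd_rest h ha x)).2,
        (form_emb_perp h ha _ (crd_rest h ha y)).1, form_emb_emb h ha, add_zero, zero_add],
      by rw [det_extLin h ha, M.2.2]⟩)
    fun M N => Subtype.ext (LinearEquiv.ext fun x => by
      simp [LinearEquiv.mul_apply, extLin_apply, crd_emb h ha, map_sub, map_add])

theorem extHom_injective [FiniteDimensional F V] : Function.Injective (extHom h ha) := by
  intro M N e
  refine Subtype.ext (LinearEquiv.ext fun c => ?_)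
  have := congrArg (fun g : suG B => crd B a (g.1 (emb a c))) e
  simpa [extHom, extLin_apply, crd_emb h ha] using this

theorem extHom_range [FiniteDimensional F V] : (extHom h ha).range = fixG B a := by
  refine le_antisymm ?_ fun g hg => ?_
  · rintro _ ⟨M, rfl⟩ x hx
    simp [extHom, extLin_apply, hx]
  · let L : suG B → (Fin n → F) →ₗ[F] (Fin n → F) := fun g => ((crd B a).comp (g.1 : V →ₗ[F] V)).comp (emb a)
    have hL : ∀ {g g' : suG B}, g' ∈ fixG B a → ∀ c, L g (L g' c) = L (g * g') c := fun {g g'} hg' c => by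
      simp only [L, LinearMap.comp_apply, LinearEquiv.coe_coe]
      rw [← fixG_apply_emb h ha hg']
      rfl
    have hL1 : ∀ c, L 1 c = c := fun c => crd_emb h ha c
    let M : (Fin n → F) ≃ₗ[F] (Fin n → F) := LinearEquiv.ofLinearMap (L g) (L g⁻¹)
      (LinearMap.ext fun c => by rw [LinearMap.comp_apply, hL (inv_mem hg), mul_inv_cancel, hL1]; rfl)
      (LinearMap.ext fun c => by rw [LinearMap.comp_apply, hL hg, inv_mul_cancel, hL1]; rfl)
    have he : extLin h ha M = g.1 := by
      refine LinearEquiv.ext fun x => ?_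
      have e : emb a (M (crd B a x)) = g.1 (emb a (crd B a x)) := (fixG_apply_emb h ha hg _).symm
      rw [extLin_apply, e]
      conv_lhs => arg 1; rw [← hg _ (crd_rest h ha x)]
      rw [← map_add, sub_add_cancel]
    refine ⟨⟨M, fun c d => ?_, ?_⟩, Subtype.ext he⟩
    · rw [← form_emb_emb h ha (M c) (M d), ← form_emb_emb h ha c d]
      have e : ∀ c, emb a (M c) = g.1 (emb a c) := fun c => (fixG_apply_emb h ha hg c).symm
      rw [e, e, g.2.1]
    · rw [← det_extLin h ha, he, g.2.2]

theorem card_fixG [FiniteDimensional F V] : Nat.card (fixG B a) = Nat.card (suG (hermB n σ)) := by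
  rw [← extHom_range h ha]
  exact (Nat.card_congr (MonoidHom.ofInjective (extHom_injective h ha)).toEquiv).symm

/-- An element of the group of the span which is diagonal has determinant one on it. -/
theorem prod_diag [FiniteDimensional F V] [Finite F] {g : suG B} (hg : g ∈ fixG B a) {δ : Fin n → F}
    (hd : ∀ i, g.1 (a i) = δ i • a i) : ∏ i, δ i = 1 := by
  obtain ⟨M, rfl⟩ := (extHom_range h ha).ge hg
  have e : ∀ i, M.1 (Pi.single i 1) = δ i • (Pi.single i 1 : Fin n → F) := fun i => by
    have := congrArg (crd B a) (hd i)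
    simpa [extHom, extLin_apply, crd_emb h ha, crd_self h ha] using this
  have := det_unit_norm (hermB_isHerm h.toIsInvol n) M.1 (isON_single n) (by simp) δ e
  rwa [M.2.2, Units.val_one, eq_comm] at this

variable [Finite F] [FiniteDimensional F V]

/-- The group of the span is generated by its transvections. -/
theorem fixG_le_TUon (hn : 2 ≤ n) (hr : (∃ r : F, σ r = r ∧ r ≠ 0 ∧ r ≠ 1) ∨ n ≠ 3) {g : suG B}
    (hg : g ∈ fixG B a) : g.1 ∈ TUon B (Submodule.span F (Set.range a)) := by
  obtain ⟨d, hd⟩ := Nat.exists_eq_add_of_le (ha.length_le h)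
  obtain ⟨b, hb, hbp, hbx⟩ := exists_compl_frame h ha (d := d) hd.symm
  have hzero : ∀ i, crd B a (b i) = 0 := fun i => funext fun j => mem_perpOf.1 (hbp i) j
  have hle : perpOf B b ≤ Submodule.span F (Set.range a) := by
    intro x hx
    set r := x - emb a (crd B a x)
    have hr' : crd B a r = 0 := crd_rest h ha x
    have e := hbx r (mem_perpOf.2 fun i => congrFun hr' i)
    have e0 : r = 0 := by
      rw [e]
      refine Finset.sum_eq_zero fun i _ => ?_
      rw [map_sub, mem_perpOf.1 hx i, (form_emb_perp h ha _ (hzero i)).2, sub_zero, zero_smul]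
    rw [sub_eq_zero.1 e0]
    exact emb_mem a _
  exact TUon_mono hle (gen h n hn hr d b hb (by omega) g.1 g.2 fun i => hg _ (hzero i))

theorem exists_plane_diag {a : Fin 2 → V} (ha : IsON B a) {x : F} (hx : x * σ x = 1) :
    ∃ t : suG B, t.1 ∈ TUon B (Submodule.span F (Set.range a)) ∧ t ∈ fixG B a ∧ t.1 (a 0) = x • a 0 ∧
      t.1 (a 1) = x⁻¹ • a 1 := by
  have hP : ∀ i, a i ∈ Submodule.span F (Set.range a) := fun i => Submodule.subset_span ⟨i, rfl⟩
  obtain ⟨t, ht, htu⟩ := plane_trans h (α := x) (β := 0) (hP 0) (hP 1) (by simpa using ha 0 0)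
    (by simpa using ha 1 1) (by simpa using ha 0 1) (by simpa using hx)
  rw [zero_smul, add_zero] at htu
  let t' : suG B := ⟨t, TUon_le_suG h _ ht⟩
  have hfix : t' ∈ fixG B a := fun z hz => TUon_fix ht fun w hw => by
    obtain ⟨c, rfl⟩ := (Submodule.mem_span_range_iff_exists_fun F).1 hw
    rw [← emb_apply]
    exact (form_emb_perp h ha c hz).1
  have hx0 : x ≠ 0 := left_ne_zero_of_mul_eq_one hx
  have e1 : t (a 1) = crd B a (t (a 1)) 1 • a 1 := by
    have e := fixG_apply_emb h ha hfix (Pi.single 1 1)
    rw [emb_single] at e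
    have hz : crd B a (t (a 1)) 0 = 0 := by
      have h0 := t'.2.1 (a 0) (a 1)
      change B (t (a 0)) (t (a 1)) = _ at h0
      rw [htu, map_smulₛₗ, LinearMap.smul_apply, smul_eq_mul, show B (a 0) (a 1) = 0 by simpa using ha 0 1] at h0
      exact (mul_eq_zero.1 h0).resolve_left ((map_ne_zero σ).2 hx0)
    conv_lhs => rw [show t (a 1) = emb a (crd B a (t (a 1))) from e]
    simp [emb_apply, Fin.sum_univ_two, hz]
  have hd := prod_diag h ha hfix (δ := ![x, crd B a (t (a 1)) 1]) (fun i => by
    fin_cases i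
    · simpa using htu
    · simpa using e1)
  simp [Fin.prod_univ_two] at hd
  refine ⟨t', ht, hfix, htu, ?_⟩
  rw [← eq_inv_of_mul_eq_one_right hd]
  exact e1

theorem exists_plane_swap {a : Fin 2 → V} (ha : IsON B a) :
    ∃ t : suG B, t.1 ∈ TUon B (Submodule.span F (Set.range a)) ∧ t ∈ fixG B a ∧ t.1 (a 0) = a 1 ∧
      ∃ c : F, t.1 (a 1) = c • a 0 := by
  have hP : ∀ i, a i ∈ Submodule.span F (Set.range a) := fun i => Submodule.subset_span ⟨i, rfl⟩
  obtain ⟨t, ht, htu⟩ := plane_trans h (α := (0 : F)) (β := 1) (hP 0) (hP 1) (by simpa using ha 0 0)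
    (by simpa using ha 1 1) (by simpa using ha 0 1) (by simp)
  rw [zero_smul, zero_add, one_smul] at htu
  let t' : suG B := ⟨t, TUon_le_suG h _ ht⟩
  have hfix : t' ∈ fixG B a := fun z hz => TUon_fix ht fun w hw => by
    obtain ⟨c, rfl⟩ := (Submodule.mem_span_range_iff_exists_fun F).1 hw
    rw [← emb_apply]
    exact (form_emb_perp h ha c hz).1
  refine ⟨t', ht, hfix, htu, crd B a (t (a 1)) 0, ?_⟩
  have e := fixG_apply_emb h ha hfix (Pi.single 1 1)
  rw [emb_single] at e
  have hz : crd B a (t (a 1)) 1 = 0 := by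
    have h0 := t'.2.1 (a 0) (a 1)
    change B (t (a 0)) (t (a 1)) = _ at h0
    rw [htu, show B (a 0) (a 1) = 0 by simpa using ha 0 1] at h0
    exact h0
  show t (a 1) = _
  conv_lhs => rw [show t (a 1) = emb a (crd B a (t (a 1))) from e]
  simp [emb_apply, Fin.sum_univ_two, hz]

end

end Cfsg.Agent.PSUMult
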