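import Cfsg.Agent.PSUMult.Complement
import Cfsg.Agent.Classical.UnitaryTrans

/-!
The complement over the radical is invariant under the stabiliser of the hyperbolic pair: either there is a
scalar element, or the complements attached to the pairs of orthonormal vectors all coincide.
-/

set_option autoImplicit false
set_option linter.unusedSectionVars false

namespace Cfsg.Agent.PSUMult

open Module Cfsg.Agent.Classical Cfsg.Agent.Classical.Herm

variable {F V : Type*} [Field F] [Fintype F] [AddCommGroup V] [Module F V] [FiniteDimensional F V]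
  {σ : F →+* F} {B : V →ₛₗ[σ] V →ₗ[F] F} {Γ : Type*} [Group Γ] [Finite Γ]

namespace PData

variable {E : Ext B Γ} {p q : ℕ} {e f : V} {m : ℕ} {u : Fin m → V} (P : PData E p q e f u)
include P

/-- The invariance of the complement under the stabiliser of the pair, given a scalar element. -/
theorem exists_compl_scalar (s : Tor σ m) {c : F} (hc : ∀ i, ((s.1.2 i : Fˣ) : F) = c)
    (hne : σ (s.1.1 : F) * c ≠ 1) :
    ∃ M, IsComp E e f P.frame.ee M ∧ ∀ g, E.act g e = e → E.act g f = f → Inv M g := by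
  obtain ⟨M, hM, hinv⟩ := P.exists_comp
  refine ⟨M, hM, fun g hge hgf x hx => ?_⟩
  have hge' : E.act g⁻¹ e = e := by conv_lhs => rw [← hge]; rw [E.act_inv_act]
  have hgf' : E.act g⁻¹ f = f := by conv_lhs => rw [← hgf]; rw [E.act_inv_act]
  have hcomm : E.π (P.te s * g) = E.π (g * P.te s) := by
    refine P.π_ext_frame ?_ ?_ fun i => ?_
    · rw [E.act_mul, E.act_mul, hge, (P.te_spec s).1, map_smul, hge]
    · rw [E.act_mul, E.act_mul, hgf, (P.te_spec s).2.1, map_smul, hgf]
    · have hgu : E.act g (u i) ∈ Wsp B e f := stab_maps E.herm (g := E.π g) (l := 1) (k := 1)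
        (show E.act g e = _ by rw [hge, one_smul]) (show E.act g f = _ by rw [hgf, one_smul])
        one_ne_zero one_ne_zero (P.frame.mem i)
      rw [E.act_mul, E.act_mul, P.te_W s hc hgu, P.te_W s hc (P.frame.mem i), map_smul]
  have hinv' : Inv (M.map (MulAut.conj g).toMonoidHom) (P.te s) := by
    rintro _ ⟨y, hy, rfl⟩
    refine ⟨P.te s * y * (P.te s)⁻¹, hinv s y hy, ?_⟩
    show g * (P.te s * y * (P.te s)⁻¹) * g⁻¹ = P.te s * (g * y * g⁻¹) * (P.te s)⁻¹
    calc g * (P.te s * y * (P.te s)⁻¹) * g⁻¹ = g * P.te s * y * (g * P.te s)⁻¹ := by group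
      _ = P.te s * g * y * (P.te s * g)⁻¹ := E.conj_indep hcomm.symm y
      _ = _ := by group
  exact P.comp_unique (P.comp_conj hM hge hgf) hM (P.te_spec s).1 (P.te_spec s).2.1 s.1.1.ne_zero
    (inv_ne_zero ((map_ne_zero σ).2 s.1.1.ne_zero)) (fun a ha h => by
      rw [P.te_W s hc ha, smul_smul] at h
      by_contra ha0
      exact hne (smul_left_injective F ha0 (show (σ (s.1.1 : F) * c) • a = (1 : F) • a by rw [h, one_smul])))
    hinv' (hinv s) ⟨x, hx, rfl⟩

theorem isHermC : IsHerm (hermB m σ) := hermB_isHerm E.herm.toIsInvol m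

/-- A coordinate vector orthogonal to a short orthonormal list and one more vector. -/
theorem exists_unit_perp {k : ℕ} {c : Fin k → Fin m → F} (hc : Herm.IsON (hermB m σ) c) (v : Fin m → F)
    (hk : k + 3 ≤ m) : ∃ w, hermB m σ w w = 1 ∧ (∀ i, hermB m σ (c i) w = 0) ∧ hermB m σ v w = 0 := by
  have hH := P.isHermC
  obtain ⟨b, hb, hbc⟩ := exists_extend hH (m - k) (by rw [finrank_fin_fun]; omega) hc
  let d : Fin 3 → Fin m → F := fun i => b (Fin.natAdd k ⟨i.1, by omega⟩)
  have hd : Herm.IsON (hermB m σ) d := fun i j => by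
    show hermB m σ (b _) (b _) = _
    rw [hb]
    simp [Fin.ext_iff]
  obtain ⟨s, -, hvs, hss, hperp⟩ := exists_aniso_perp hH (P := ⊤) d hd (fun _ => Submodule.mem_top) v
  obtain ⟨t, ht⟩ := exists_unit_of_ne_zero hH hss
  refine ⟨t • s, ht, fun i => ?_, by rw [map_smul, hvs, smul_zero]⟩
  rw [map_smul, hperp (c i) (fun j => by
    show hermB m σ (c i) (b _) = 0
    rw [← hbc i, hb, if_neg]
    simp [Fin.ext_iff]
    omega), smul_zero]

/-- An element acting as the fourth roots' scalar on a plane and its orthogonal. -/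
def IsT (E : Ext B Γ) (e f : V) (u : Fin m → V) (ω : F) (g : Γ) (a b : Fin m → F) : Prop :=
  E.act g e = e ∧ E.act g f = f ∧ E.act g (emb u a) = (ω * ω) • emb u a ∧
    E.act g (emb u b) = (ω * ω) • emb u b ∧
    ∀ c, hermB m σ a c = 0 → hermB m σ b c = 0 → E.act g (emb u c) = ω • emb u c

/-- A subgroup invariant under the elements attached to a pair. -/
def Fixes (E : Ext B Γ) (e f : V) (u : Fin m → V) (ω : F) (M : Subgroup Γ) (a b : Fin m → F) : Prop :=
  ∀ g, IsT E e f u ω g a b → Inv M g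

theorem isT_swap {ω : F} {g : Γ} {a b : Fin m → F} (h : IsT E e f u ω g a b) : IsT E e f u ω g b a :=
  ⟨h.1, h.2.1, h.2.2.2.1, h.2.2.1, fun c h1 h2 => h.2.2.2.2 c h2 h1⟩

theorem isT_fpf {ω : F} (hω : ω ≠ 1) (hω2 : ω * ω ≠ 1) {g : Γ} {a b : Fin m → F}
    (ha : hermB m σ a a = 1) (hb : hermB m σ b b = 1) (hab : hermB m σ a b = 0)
    (h : IsT E e f u ω g a b) : ∀ x ∈ Wsp B e f, σ (1 : F) • E.act g x = x → x = 0 := by
  intro x hx he
  obtain ⟨c, rfl⟩ := P.exists_coord hx
  have hba : hermB m σ b a = 0 := (eq_zero_comm P.isHermC).1 hab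
  set r := c - hermB m σ a c • a - hermB m σ b c • b with hr
  have hra : hermB m σ a r = 0 := by simp [hr, ha, hab]
  have hrb : hermB m σ b r = 0 := by simp [hr, hb, hba]
  have hc : c = hermB m σ a c • a + hermB m σ b c • b + r := by rw [hr]; abel
  rw [map_one, one_smul, hc] at he
  simp only [map_add, map_smul] at he
  rw [h.2.2.1, h.2.2.2.1, h.2.2.2.2 r hra hrb] at he
  have e1 := congrArg (crd B u) he
  simp only [map_add, map_smul, crd_emb E.herm P.frame.on] at e1
  have ka := congrArg (hermB m σ a) e1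
  have kb := congrArg (hermB m σ b) e1
  simp [ha, hab, hra] at ka
  simp [hb, hba, hrb] at kb
  have za : hermB m σ a c = 0 := by
    by_contra hne
    exact hω2 (mul_left_cancel₀ hne (by linear_combination ka))
  have zb : hermB m σ b c = 0 := by
    by_contra hne
    exact hω2 (mul_left_cancel₀ hne (by linear_combination kb))
  simp [za, zb] at e1
  have hr0 : r = 0 := by
    have : (ω - 1) • r = 0 := by rw [sub_smul, one_smul, e1, sub_self]
    exact (smul_eq_zero.1 this).resolve_left (sub_ne_zero.2 hω)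
  rw [hc, za, zb, hr0]
  simp

theorem frame_of_on {b : Fin m → Fin m → F} (hb : Herm.IsON (hermB m σ) b) :
    PData E p q e f (fun i => emb u (b i)) := by
  refine { P with frame := ⟨P.frame.ee, P.frame.ff, P.frame.ef, fun i j => ?_, fun i => P.emb_mem_W _, fun x hx => ?_⟩ }
  · rw [form_emb_emb E.herm P.frame.on]; exact hb i j
  · obtain ⟨c, rfl⟩ := P.exists_coord hx
    have hH := P.isHermC
    have hsp : c = ∑ i, hermB m σ (b i) c • b i := by
      have hspan : Submodule.span F (Set.range b) = ⊤ :=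
        (hb.linearIndependent hH).span_eq_top_of_card_eq_finrank' (by rw [Fintype.card_fin, finrank_fin_fun])
      refine sub_eq_zero.1 (hH.nondeg _ fun y => ?_)
      have hle : Submodule.span F (Set.range b) ≤
          LinearMap.ker (hermB m σ (c - ∑ i, hermB m σ (b i) c • b i)) := by
        refine Submodule.span_le.2 ?_
        rintro _ ⟨i, rfl⟩
        refine (eq_zero_comm hH).1 ?_
        simp [map_sum, hb i]
      exact hle (hspan ▸ Submodule.mem_top)
    conv_lhs => rw [hsp, map_sum]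
    simp only [map_smul, form_emb_emb E.herm P.frame.on]

/-- The invariance of the complement for the field with four elements. -/
theorem exists_compl_four (hq : q = 2) (hm3 : m % 3 = 1) (hm : 7 ≤ m) :
    ∃ M, IsComp E e f P.frame.ee M ∧ ∀ g, E.act g e = e → E.act g f = f → Inv M g := by
  classical
  obtain ⟨ω, hω, hωσ⟩ : ∃ ω : F, ω ≠ 1 ∧ ω * σ ω = 1 := exists_norm_one_ne_one E.herm
  have hω0 : ω ≠ 0 := left_ne_zero_of_mul_eq_one hωσ
  have hω3 : ω ^ 3 = 1 := by
    have := FiniteField.pow_card_sub_one_eq_one ω hω0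
    rwa [P.cardF, hq] at this
  have hω2 : ω * ω ≠ 1 := fun h => hω (by
    calc ω = ω * (ω * ω) := by rw [h, mul_one]
      _ = 1 := by rw [← hω3]; ring)
  let x : N1' σ := ⟨Units.mk0 ω hω0, Units.ext hωσ⟩
  -- the complement of a frame is invariant under the elements of the pairs of the frame
  have hframe : ∀ b : Fin m → Fin m → F, Herm.IsON (hermB m σ) b →
      ∃ M, IsComp E e f P.frame.ee M ∧ ∀ i j, i ≠ j →
        Fixes E e f u ω M (b i) (b j) ∧ ∃ g, IsT E e f u ω g (b i) (b j) := by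
    intro b hb
    have P' := P.frame_of_on hb
    obtain ⟨M, hM, hinv⟩ := P'.exists_comp
    refine ⟨M, hM, fun i j hij => ?_⟩
    let η : Fin m → N1' σ := fun k => if k = i ∨ k = j then x * x else x
    have hs : ((1 : Fˣ), η) ∈ Tor σ m := by
      show ∏ k, ((η k : Fˣ) : F) = σ ((1 : Fˣ) : F) / ((1 : Fˣ) : F)
      rw [Units.val_one, map_one, div_one]
      have h1 : ∀ k, ((η k : Fˣ) : F) = ω * (if k = i ∨ k = j then ω else 1) := fun k => by
        simp only [η]; split_ifs <;> simp [x]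
      simp only [h1, Finset.prod_mul_distrib, Finset.prod_const, Finset.card_fin]
      rw [Finset.prod_eq_mul i j hij (fun k _ hk => by simp [hk.1, hk.2]) (by simp) (by simp)]
      simp only [true_or, or_true, if_true]
      obtain ⟨t, ht⟩ : ∃ t, m + 2 = 3 * t := ⟨(m + 2) / 3, by omega⟩
      rw [← pow_two, ← pow_add, ht, pow_mul, hω3, one_pow]
    set g₀ := P'.te ⟨_, hs⟩
    have hg₀ : IsT E e f u ω g₀ (b i) (b j) := by
      obtain ⟨h1, h2, h3⟩ := P'.te_spec ⟨_, hs⟩
      refine ⟨by simpa using h1, by simpa using h2, by simpa [η, x] using h3 i, by simpa [η, x] using h3 j, ?_⟩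
      intro c hci hcj
      have hspan := P'.frame.span _ (P.emb_mem_W c)
      simp only [form_emb_emb E.herm P.frame.on] at hspan
      rw [hspan, map_sum, Finset.smul_sum]
      refine Finset.sum_congr rfl fun k _ => ?_
      rw [map_smul, h3 k]
      rcases eq_or_ne k i with rfl | hki
      · simp [hci]
      rcases eq_or_ne k j with rfl | hkj
      · simp [hcj]
      simp [η, x, hki, hkj, smul_comm (hermB m σ (b k) c) ω]
    refine ⟨fun g hg y hy => ?_, g₀, hg₀⟩
    have heq : E.π g = E.π g₀ := by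
      refine P'.π_ext_frame (by rw [hg.1, hg₀.1]) (by rw [hg.2.1, hg₀.2.1]) fun k => ?_
      rcases eq_or_ne k i with rfl | hki
      · rw [hg.2.2.1, hg₀.2.2.1]
      rcases eq_or_ne k j with rfl | hkj
      · rw [hg.2.2.2.1, hg₀.2.2.2.1]
      have h1 : hermB m σ (b i) (b k) = 0 := by rw [hb, if_neg (Ne.symm hki)]
      have h2 : hermB m σ (b j) (b k) = 0 := by rw [hb, if_neg (Ne.symm hkj)]
      rw [hg.2.2.2.2 _ h1 h2, hg₀.2.2.2.2 _ h1 h2]
    rw [E.conj_indep heq]
    exact hinv _ y hy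
  have uniq : ∀ {M M' : Subgroup Γ} {a b : Fin m → F}, IsComp E e f P.frame.ee M → IsComp E e f P.frame.ee M' →
      hermB m σ a a = 1 → hermB m σ b b = 1 → hermB m σ a b = 0 → (∃ g, IsT E e f u ω g a b) →
      Fixes E e f u ω M a b → Fixes E e f u ω M' a b → M = M' := by
    intro M M' a b hM hM' ha hb hab ⟨g, hg⟩ h1 h2
    exact le_antisymm
      (P.comp_unique hM hM' (l := 1) (k := 1) (by rw [hg.1, one_smul]) (by rw [hg.2.1, one_smul]) one_ne_zero
        one_ne_zero (P.isT_fpf hω hω2 ha hb hab hg) (h1 g hg) (h2 g hg))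
      (P.comp_unique hM' hM (l := 1) (k := 1) (by rw [hg.1, one_smul]) (by rw [hg.2.1, one_smul]) one_ne_zero
        one_ne_zero (P.isT_fpf hω hω2 ha hb hab hg) (h2 g hg) (h1 g hg))
  have hH := P.isHermC
  -- the pairs meeting orthogonally share their complement
  have orth : ∀ {M : Subgroup Γ} {a b c d : Fin m → F}, IsComp E e f P.frame.ee M →
      Herm.IsON (hermB m σ) ![a, b, c, d] → Fixes E e f u ω M a b → Fixes E e f u ω M c d := by
    intro M a b c d hM h4 hF
    obtain ⟨β, hβ, hβe⟩ := exists_extend hH (m - 4) (by rw [finrank_fin_fun]; omega) h4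
    let β' : Fin m → Fin m → F := fun i => β (Fin.cast (by omega) i)
    have hβ' : Herm.IsON (hermB m σ) β' := fun i j => by
      show hermB m σ (β _) (β _) = _
      rw [hβ]; simp [Fin.ext_iff]
    obtain ⟨M', hM', hpairs⟩ := hframe β' hβ'
    have hv : ∀ k : Fin 4, β' ⟨k.1, by omega⟩ = ![a, b, c, d] k := fun k => by rw [← hβe k]; rfl
    obtain ⟨hF', g, hg⟩ := hpairs ⟨(0 : Fin 4).1, by omega⟩ ⟨(1 : Fin 4).1, by omega⟩ (by simp)
    rw [hv 0, hv 1] at hF' hg
    have ha : hermB m σ a a = 1 := by simpa using h4 0 0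
    have hb : hermB m σ b b = 1 := by simpa using h4 1 1
    have hab : hermB m σ a b = 0 := by simpa using h4 0 1
    have := uniq hM hM' ha hb hab ⟨g, hg⟩ hF hF'
    subst this
    have h2 := (hpairs ⟨(2 : Fin 4).1, by omega⟩ ⟨(3 : Fin 4).1, by omega⟩ (by simp)).1
    rwa [hv 2, hv 3] at h2
  have on2 : ∀ {a b : Fin m → F}, hermB m σ a a = 1 → hermB m σ b b = 1 → hermB m σ a b = 0 →
      Herm.IsON (hermB m σ) ![a, b] := fun {a b} ha hb hab i j => by
    fin_cases i <;> fin_cases j <;> simp [ha, hb, hab, (eq_zero_comm hH).1 hab]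
  -- pairs sharing a vector
  have share : ∀ {M : Subgroup Γ} {a b b' : Fin m → F}, IsComp E e f P.frame.ee M → hermB m σ a a = 1 →
      hermB m σ b b = 1 → hermB m σ a b = 0 → hermB m σ b' b' = 1 → hermB m σ a b' = 0 →
      Fixes E e f u ω M a b → Fixes E e f u ω M a b' := by
    intro M a b b' hM ha hb hab hb' hab' hF
    obtain ⟨c, hc, hcab, hcb'⟩ := P.exists_unit_perp (on2 ha hb hab) b' (by omega)
    have hac : hermB m σ a c = 0 := by simpa using hcab 0
    have hbc : hermB m σ b c = 0 := by simpa using hcab 1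
    have h3 : Herm.IsON (hermB m σ) ![a, b, c] := fun i j => by
      fin_cases i <;> fin_cases j <;>
        simp [ha, hb, hc, hab, hac, hbc, (eq_zero_comm hH).1 hab, (eq_zero_comm hH).1 hac, (eq_zero_comm hH).1 hbc]
    obtain ⟨d, hd, hdabc, hdb'⟩ := P.exists_unit_perp h3 b' (by omega)
    have had : hermB m σ a d = 0 := by simpa using hdabc 0
    have hbd : hermB m σ b d = 0 := by simpa using hdabc 1
    have hcd : hermB m σ c d = 0 := by simpa using hdabc 2
    have h4 : Herm.IsON (hermB m σ) ![a, b, c, d] := fun i j => by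
      fin_cases i <;> fin_cases j <;>
        simp [ha, hb, hc, hd, hab, hac, hbc, had, hbd, hcd, (eq_zero_comm hH).1 hab, (eq_zero_comm hH).1 hac,
          (eq_zero_comm hH).1 hbc, (eq_zero_comm hH).1 had, (eq_zero_comm hH).1 hbd, (eq_zero_comm hH).1 hcd]
    have h4' : Herm.IsON (hermB m σ) ![c, d, a, b'] := fun i j => by
      fin_cases i <;> fin_cases j <;>
        simp [ha, hb', hc, hd, hab', hac, had, hcd, hcb', hdb', (eq_zero_comm hH).1 hab',
          (eq_zero_comm hH).1 hac, (eq_zero_comm hH).1 had, (eq_zero_comm hH).1 hcd, (eq_zero_comm hH).1 hcb',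
          (eq_zero_comm hH).1 hdb']
    exact orth hM h4' (orth hM h4 hF)
  have all : ∀ {M : Subgroup Γ} {a b a' b' : Fin m → F}, IsComp E e f P.frame.ee M → hermB m σ a a = 1 →
      hermB m σ b b = 1 → hermB m σ a b = 0 → hermB m σ a' a' = 1 → hermB m σ b' b' = 1 →
      hermB m σ a' b' = 0 → Fixes E e f u ω M a b → Fixes E e f u ω M a' b' := by
    intro M a b a' b' hM ha hb hab ha' hb' hab' hF
    obtain ⟨c, hc, hca, hca'⟩ := P.exists_unit_perp (c := ![a]) (fun i j => by fin_cases i; fin_cases j; simpa using ha)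
      a' (by omega)
    have hac : hermB m σ a c = 0 := by simpa using hca 0
    have h1 := share hM ha hb hab hc hac hF
    have h2 : Fixes E e f u ω M c a := fun g hg => h1 g (P.isT_swap hg)
    have h3 := share hM hc ha ((eq_zero_comm hH).1 hac) ha' ((eq_zero_comm hH).1 hca') h2
    have h4 : Fixes E e f u ω M a' c := fun g hg => h3 g (P.isT_swap hg)
    exact share hM ha' hc hca' hb' hab' h4
  obtain ⟨M, hM, hpairs⟩ := hframe _ (isON_single m)
  refine ⟨M, hM, fun g hge hgf y hy => ?_⟩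
  let i0 : Fin m := ⟨0, by omega⟩
  let i1 : Fin m := ⟨1, by omega⟩
  have h01 : i0 ≠ i1 := by simp [i0, i1]
  set a : Fin m → F := Pi.single i0 1
  set b : Fin m → F := Pi.single i1 1
  obtain ⟨hF0, g₁, hg₁⟩ := hpairs i0 i1 h01
  have ha : hermB m σ a a = 1 := by simpa using isON_single (σ := σ) m i0 i0
  have hb : hermB m σ b b = 1 := by simpa using isON_single (σ := σ) m i1 i1
  have hab : hermB m σ a b = 0 := by rw [isON_single (σ := σ) m i0 i1, if_neg h01]
  have hW : ∀ z ∈ Wsp B e f, E.act g z ∈ Wsp B e f := fun z hz => stab_maps E.herm (g := E.π g) (l := 1) (k := 1)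
    (show E.act g e = _ by rw [hge, one_smul]) (show E.act g f = _ by rw [hgf, one_smul]) one_ne_zero one_ne_zero hz
  set ga := crd B u (E.act g (emb u a))
  set gb := crd B u (E.act g (emb u b))
  have hga : emb u ga = E.act g (emb u a) := by
    rw [emb_apply]; exact (P.frame.span _ (hW _ (P.emb_mem_W a))).symm
  have hgb : emb u gb = E.act g (emb u b) := by
    rw [emb_apply]; exact (P.frame.span _ (hW _ (P.emb_mem_W b))).symm
  have hga' : hermB m σ ga ga = 1 := by
    rw [← form_emb_emb E.herm P.frame.on, hga, E.act_iso, form_emb_emb E.herm P.frame.on, ha]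
  have hgb' : hermB m σ gb gb = 1 := by
    rw [← form_emb_emb E.herm P.frame.on, hgb, E.act_iso, form_emb_emb E.herm P.frame.on, hb]
  have hgab : hermB m σ ga gb = 0 := by
    rw [← form_emb_emb E.herm P.frame.on, hga, hgb, E.act_iso, form_emb_emb E.herm P.frame.on, hab]
  have hge' : E.act g⁻¹ e = e := by conv_lhs => rw [← hge]; rw [E.act_inv_act]
  have hgf' : E.act g⁻¹ f = f := by conv_lhs => rw [← hgf]; rw [E.act_inv_act]
  -- the conjugate is invariant at the moved pair
  have hconj : Fixes E e f u ω (M.map (MulAut.conj g).toMonoidHom) ga gb := by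
    intro h hh
    have hh' : IsT E e f u ω (g⁻¹ * h * g) a b := by
      refine ⟨?_, ?_, ?_, ?_, fun c hc1 hc2 => ?_⟩
      · rw [E.act_mul, E.act_mul, hge, hh.1, hge']
      · rw [E.act_mul, E.act_mul, hgf, hh.2.1, hgf']
      · rw [E.act_mul, E.act_mul, ← hga, hh.2.2.1, map_smul, hga, E.act_inv_act]
      · rw [E.act_mul, E.act_mul, ← hgb, hh.2.2.2.1, map_smul, hgb, E.act_inv_act]
      · set gc := crd B u (E.act g (emb u c))
        have hgc : emb u gc = E.act g (emb u c) := by
          rw [emb_apply]; exact (P.frame.span _ (hW _ (P.emb_mem_W c))).symm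
        have h1 : hermB m σ ga gc = 0 := by
          rw [← form_emb_emb E.herm P.frame.on, hga, hgc, E.act_iso, form_emb_emb E.herm P.frame.on, hc1]
        have h2 : hermB m σ gb gc = 0 := by
          rw [← form_emb_emb E.herm P.frame.on, hgb, hgc, E.act_iso, form_emb_emb E.herm P.frame.on, hc2]
        rw [E.act_mul, E.act_mul, ← hgc, hh.2.2.2.2 gc h1 h2, map_smul, hgc, E.act_inv_act]
    rintro _ ⟨z, hz, rfl⟩
    refine ⟨(g⁻¹ * h * g) * z * (g⁻¹ * h * g)⁻¹, hF0 _ hh' z hz, ?_⟩
    show g * ((g⁻¹ * h * g) * z * (g⁻¹ * h * g)⁻¹) * g⁻¹ = h * (g * z * g⁻¹) * h⁻¹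
    group
  have hex : ∃ h, IsT E e f u ω h ga gb := by
    refine ⟨g * g₁ * g⁻¹, ?_, ?_, ?_, ?_, fun c hc1 hc2 => ?_⟩
    · rw [E.act_mul, E.act_mul, hge', hg₁.1, hge]
    · rw [E.act_mul, E.act_mul, hgf', hg₁.2.1, hgf]
    · rw [E.act_mul, E.act_mul, hga, E.act_inv_act, hg₁.2.2.1, map_smul]
    · rw [E.act_mul, E.act_mul, hgb, E.act_inv_act, hg₁.2.2.2.1, map_smul]
    · have hW' : E.act g⁻¹ (emb u c) ∈ Wsp B e f := stab_maps E.herm (g := E.π g⁻¹) (l := 1) (k := 1)
        (show E.act g⁻¹ e = _ by rw [hge', one_smul]) (show E.act g⁻¹ f = _ by rw [hgf', one_smul]) one_ne_zero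
        one_ne_zero (P.emb_mem_W c)
      obtain ⟨c', hc'⟩ := P.exists_coord hW'
      have h1 : hermB m σ a c' = 0 := by
        rw [← form_emb_emb E.herm P.frame.on, hc', ← E.act_iso g, E.act_act_inv, ← hga,
          form_emb_emb E.herm P.frame.on, hc1]
      have h2 : hermB m σ b c' = 0 := by
        rw [← form_emb_emb E.herm P.frame.on, hc', ← E.act_iso g, E.act_act_inv, ← hgb,
          form_emb_emb E.herm P.frame.on, hc2]
      rw [E.act_mul, E.act_mul, ← hc', hg₁.2.2.2.2 c' h1 h2, map_smul, hc', E.act_act_inv]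
  have := uniq (P.comp_conj hM hge hgf) hM hga' hgb' hgab hex hconj (all hM ha hb hab hga' hgb' hgab hF0)
  exact this ▸ ⟨y, hy, rfl⟩

/-- A complement over the radical invariant under the stabiliser of the pair. -/
theorem exists_compl (h6 : ¬ (q = 2 ∧ m = 4)) :
    ∃ M, IsComp E e f P.frame.ee M ∧ ∀ g, E.act g e = e → E.act g f = f → Inv M g := by
  classical
  by_cases hq : 3 ≤ q
  · obtain ⟨ζ, hζ⟩ := IsCyclic.exists_generator (α := Fˣ)
    set l : Fˣ := ζ ^ (q + 1) with hl
    have hσl : σ (l : F) = l := by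
      rw [P.pow, hl, Units.val_pow_eq_pow_val, ← pow_mul]
      have h1 : (q + 1) * q = (q ^ 2 - 1) + (q + 1) := by
        have : 1 ≤ q ^ 2 := Nat.one_le_pow _ _ (by omega)
        rw [add_mul, one_mul, ← sq]; omega
      have h2 := FiniteField.pow_card_sub_one_eq_one (ζ : F) ζ.ne_zero
      rw [P.cardF] at h2
      rw [h1, pow_add, h2, one_mul]
    have hne : l ≠ 1 := by
      intro h
      have ho : orderOf ζ = q ^ 2 - 1 := by
        rw [orderOf_eq_card_of_forall_mem_zpowers hζ, Nat.card_units, Nat.card_eq_fintype_card, P.cardF]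
      have h2 := Nat.le_of_dvd (by omega) (ho ▸ orderOf_dvd_of_pow_eq_one (hl.symm.trans h))
      have : 3 * q ≤ q ^ 2 := by nlinarith
      omega
    let s : Tor σ m := ⟨(l, fun _ => 1), by
      show ∏ _i : Fin m, (((1 : N1' σ) : Fˣ) : F) = σ (l : F) / (l : F)
      simp [hσl, div_self l.ne_zero]⟩
    exact P.exists_compl_scalar s (c := 1) (fun _ => rfl) (by
      rw [mul_one]; show σ (l : F) ≠ 1
      rw [hσl]; exact fun h => hne (Units.ext h))
  have hq2 : q = 2 := by have := P.two_le; omega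
  have hm3 : 3 ≤ m := by rcases P.dims with ⟨-, h⟩ | ⟨-, h⟩ | h <;> omega
  by_cases hmod : m % 3 = 1
  · exact P.exists_compl_four hq2 hmod (by
      have : m ≠ 4 := fun h => h6 ⟨hq2, h⟩
      omega)
  obtain ⟨ω, hω, hωσ⟩ : ∃ ω : F, ω ≠ 1 ∧ ω * σ ω = 1 := exists_norm_one_ne_one E.herm
  have hω0 : ω ≠ 0 := left_ne_zero_of_mul_eq_one hωσ
  have hω3 : ω ^ 3 = 1 := by
    have := FiniteField.pow_card_sub_one_eq_one ω hω0
    rwa [P.cardF, hq2] at this
  let x : N1' σ := ⟨Units.mk0 ω hω0, Units.ext hωσ⟩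
  let s : Tor σ m := ⟨(Units.mk0 ω hω0 ^ m, fun _ => x), by
    show ∏ _i : Fin m, ((x : Fˣ) : F) = σ ((Units.mk0 ω hω0 ^ m : Fˣ) : F) / ((Units.mk0 ω hω0 ^ m : Fˣ) : F)
    rw [Finset.prod_const, Finset.card_fin, Units.val_pow_eq_pow_val, Units.val_mk0, P.pow, hq2, sq,
      mul_div_cancel_right₀ _ (pow_ne_zero _ hω0)]⟩
  refine P.exists_compl_scalar s (c := ω) (fun _ => rfl) fun h => ?_
  have h1 : σ (ω ^ m) * ω = 1 := by simpa [s, x] using h
  rw [P.pow, hq2, ← pow_mul, ← pow_succ] at h1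
  have hord : orderOf ω = 3 := by
    rcases (Nat.dvd_prime Nat.prime_three).1 (orderOf_dvd_of_pow_eq_one hω3) with h2 | h2
    · exact absurd (orderOf_eq_one_iff.1 h2) hω
    · exact h2
  have := hord ▸ orderOf_dvd_of_pow_eq_one h1
  omega

end PData

end Cfsg.Agent.PSUMult
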