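import Cfsg.Agent.PSUMult.Ext
import Cfsg.Agent.SLMult.Cross
import Cfsg.Agent.Core.Gaschutz
import Cfsg.Agent.Classical.LinearBasic

/-!
Central extensions of a special unitary group by a prime different from the characteristic: the lifts of order
`p` of the transvections along a subspace, and the case of a hyperbolic plane.
-/

set_option autoImplicit false
set_option linter.unusedSectionVars false

namespace Cfsg.Agent.PSUMult

open Module Cfsg.Agent.Classical Cfsg.Agent.Classical.Herm

variable {F V : Type*} [Field F] [Finite F] [AddCommGroup V] [Module F V] [FiniteDimensional F V]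
  {σ : F →+* F} {B : V →ₛₗ[σ] V →ₗ[F] F} {Γ : Type*} [Group Γ] [Finite Γ]

/-- The data of the extension by a prime different from the characteristic. -/
structure Coprime (E : Ext B Γ) (p r : ℕ) : Prop where
  prime : p.Prime
  char : CharP F p
  prime' : r.Prime
  ne : r ≠ p
  card : Nat.card E.π.ker = r

namespace Ext

variable (E : Ext B Γ)

/-- The group generated by the lifts of order dividing `p` of the transvections along `P`. -/
def G0 (p : ℕ) (P : Submodule F V) : Subgroup Γ :=
  Subgroup.closure {x | x ^ p = 1 ∧ ∃ v ∈ P, ∃ c : F, B v v = 0 ∧ c + σ c = 0 ∧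
    ∀ y, E.act x y = y + (c * B v y) • v}

variable {E} {p r : ℕ}

theorem G0_mono {P Q : Submodule F V} (h : P ≤ Q) : E.G0 p P ≤ E.G0 p Q :=
  Subgroup.closure_mono fun _ ⟨hx, v, hv, e⟩ => ⟨hx, v, h hv, e⟩

theorem G0_fix {P : Submodule F V} {g : Γ} (hg : g ∈ E.G0 p P) {x : V} (hx : ∀ w ∈ P, B w x = 0) :
    E.act g x = x := by
  induction hg using Subgroup.closure_induction with
  | mem t ht => obtain ⟨-, v, hv, c, -, -, e⟩ := ht; simp [e, hx v hv]
  | one => exact E.act_one x
  | mul a b _ _ ha hb => rw [act_mul, hb, ha]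
  | inv a _ ha => conv_lhs => rw [← ha, act_inv_act]

theorem G0_mem_fixG {n : ℕ} {a : Fin n → V} {g : Γ}
    (hg : g ∈ E.G0 p (Submodule.span F (Set.range a))) : E.π g ∈ fixG B a := fun x hx =>
  G0_fix hg fun w hw => by
    obtain ⟨c, rfl⟩ := (Submodule.mem_span_range_iff_exists_fun F).1 hw
    rw [map_sum, LinearMap.sum_apply]
    refine Finset.sum_eq_zero fun i _ => ?_
    rw [LinearMap.map_smulₛₗ₂, show B (a i) x = 0 from congrFun hx i, smul_zero]

theorem G0_gen (P : Submodule F V) :
    E.G0 p P ≤ Subgroup.closure {x | x ∈ E.G0 p P ∧ x ^ p = 1} :=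
  Subgroup.closure_mono fun _ hx => ⟨Subgroup.subset_closure hx, hx.1⟩

theorem G0_conj {P : Submodule F V} (g : Γ) {x : Γ} (hx : x ∈ E.G0 p P) :
    g * x * g⁻¹ ∈ E.G0 p (P.map (E.act g : V →ₗ[F] V)) := by
  have hle : E.G0 p P ≤ (E.G0 p (P.map (E.act g : V →ₗ[F] V))).comap (MulAut.conj g).toMonoidHom := by
    refine (Subgroup.closure_le _).2 ?_
    rintro t ⟨htp, v, hv, c, hvv, hc, e⟩
    refine Subgroup.subset_closure ⟨?_, E.act g v, ⟨v, hv, rfl⟩, c, by rw [act_iso, hvv], hc, fun y => ?_⟩
    · show (g * t * g⁻¹) ^ p = 1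
      rw [conj_pow, htp, mul_one, mul_inv_cancel]
    · show E.act (g * t * g⁻¹) y = _
      rw [act_mul, act_mul, e, map_add, map_smul, act_act_inv, ← E.act_iso g v (E.act g⁻¹ y),
        act_act_inv]
  exact hle hx

theorem G0_conj_of_maps {P Q : Submodule F V} {g x : Γ} (h : ∀ v ∈ P, E.act g v ∈ Q)
    (hx : x ∈ E.G0 p P) : g * x * g⁻¹ ∈ E.G0 p Q :=
  G0_mono (by rintro _ ⟨v, hv, rfl⟩; exact h v hv) (G0_conj g hx)

variable (hC : Coprime E p r)
include hC

theorem exists_lp {g : suG B} (hg : g ^ p = 1) : ∃ x : Γ, E.π x = g ∧ x ^ p = 1 := by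
  have hy : E.lift g ^ p ∈ E.π.ker := by rw [MonoidHom.mem_ker, map_pow, π_lift, hg]
  obtain ⟨w, hw⟩ := Core.exists_pow_eq_of_coprime (m := p) (K := E.π.ker)
    (by rw [hC.card]; exact (Nat.coprime_primes hC.prime' hC.prime).2 hC.ne) ⟨_, hy⟩
  refine ⟨E.lift g * (w : Γ)⁻¹, by
    rw [map_mul, π_lift, map_inv, show E.π w = 1 from w.2, inv_one, mul_one], ?_⟩
  rw [((E.ker_comm w.2 _).inv_right).mul_pow, inv_pow,
    show (w : Γ) ^ p = E.lift g ^ p from congrArg Subtype.val hw, mul_inv_cancel]

theorem lp_unique {x y : Γ} (h : E.π x = E.π y) (hx : x ^ p = 1) (hy : y ^ p = 1) : x = y := by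
  set w := x⁻¹ * y with hw
  have hk' : E.π w = 1 := by rw [hw, map_mul, map_inv, h, inv_mul_cancel]
  have hp : w ^ p = 1 := by
    have : y = x * w := by rw [hw, mul_inv_cancel_left]
    rw [this, (E.ker_comm hk' x).mul_pow, hx, one_mul] at hy
    exact hy
  have : w = 1 := orderOf_eq_one_iff.1 (Nat.eq_one_of_dvd_coprimes
    ((Nat.coprime_primes hC.prime' hC.prime).2 hC.ne) (orderOf_dvd_of_pow_eq_one (E.pow_ker hC.card hk'))
    (orderOf_dvd_of_pow_eq_one hp))
  exact inv_mul_eq_one.1 this

theorem T_pow {v : V} (hv : B v v = 0) {c : F} (hc : c + σ c = 0) :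
    (⟨tvU hv c, tvU_mem E.herm hv hc⟩ : suG B) ^ p = 1 := by
  have := hC.char
  have key : ∀ (n : ℕ) (x : V), ((⟨tvU hv c, tvU_mem E.herm hv hc⟩ : suG B) ^ n).1 x
      = x + ((n : F) * c * B v x) • v := by
    intro n
    induction n with
    | zero => intro x; simp
    | succ n ih =>
      intro x
      rw [pow_succ, Subgroup.coe_mul, LinearEquiv.mul_apply, ih]
      simp [tvU_apply, hv]
      match_scalars <;> ring
  refine Subtype.ext (LinearEquiv.ext fun x => ?_)
  rw [key, CharP.cast_eq_zero]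
  simp

theorem exists_tau {P : Submodule F V} {v : V} (hvP : v ∈ P) (hv : B v v = 0) {c : F} (hc : c + σ c = 0) :
    ∃ x ∈ E.G0 p P, ∀ y, E.act x y = y + (c * B v y) • v := by
  obtain ⟨x, hx, hxp⟩ := exists_lp hC (T_pow hC hv hc)
  have e : ∀ y, E.act x y = y + (c * B v y) • v := fun y => by rw [act, hx]; rfl
  exact ⟨x, Subgroup.subset_closure ⟨hxp, v, hvP, c, hv, hc, e⟩, e⟩

theorem exists_G0_of_TUon {P : Submodule F V} {t : V ≃ₗ[F] V} (ht : t ∈ TUon B P) :
    ∃ x ∈ E.G0 p P, E.act x = t := by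
  suffices t ∈ (E.G0 p P).map ((suG B).subtype.comp E.π) from this
  refine (Subgroup.closure_le _).2 ?_ ht
  rintro t ⟨v, hv, c, hvv, hc, e⟩
  obtain ⟨x, hx, hxe⟩ := exists_tau hC hv hvv hc
  exact ⟨x, hx, LinearEquiv.ext fun y => (hxe y).trans (e y).symm⟩

theorem G0_eq_of_fix {P : Submodule F V} {x y : Γ} (hx : x ∈ E.G0 p P) (hy : y ∈ E.G0 p P)
    (hI : ∀ g ∈ E.G0 p P, E.π g = 1 → g = 1) (h : E.π x = E.π y) : x = y :=
  inv_mul_eq_one.1 (hI _ (mul_mem (inv_mem hx) hy) (by rw [map_mul, map_inv, h, inv_mul_cancel]))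

theorem comm_of_perp {P Q : Submodule F V} (hPQ : ∀ u ∈ P, ∀ v ∈ Q, B u v = 0) {x y : Γ}
    (hx : x ∈ E.G0 p P) (hy : y ∈ E.G0 p Q) : Commute x y := by
  have hle : E.G0 p P ≤ Subgroup.centralizer (E.G0 p Q : Set Γ) := by
    refine (Subgroup.closure_le _).2 ?_
    rintro t ⟨htp, v, hv, c, hvv, hc, e⟩
    refine Subgroup.mem_centralizer_iff.2 fun g hg => ?_
    have hfix : E.act g v = v := G0_fix hg fun w hw => (eq_zero_comm E.herm).1 (hPQ v hv w hw)
    have : g * t * g⁻¹ = t := lp_unique hC (E.π_ext fun z => by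
        rw [act_mul, act_mul, e, e, map_add, map_smul, act_act_inv, hfix, ← E.act_iso g v (E.act g⁻¹ z),
          hfix, act_act_inv])
      (by rw [conj_pow, htp, mul_one, mul_inv_cancel]) htp
    rwa [mul_inv_eq_iff_eq_mul] at this
  exact (Subgroup.mem_centralizer_iff.1 (hle hx) y hy).symm

/-- The lifts along a hyperbolic plane meet the kernel trivially. -/
theorem inj_plane {e f : V} (hee : B e e = 0) (hff : B f f = 0) (hef : B e f = 1) :
    ∀ g ∈ E.G0 p (Submodule.span F {e, f}), E.π g = 1 → g = 1 := by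
  classical
  have hherm := E.herm
  have := Fact.mk hC.prime
  have := Fact.mk hC.prime'
  have := hC.char
  have : Fintype (fixField σ) := Fintype.ofFinite _
  have : CharP (fixField σ) p :=
    (RingHom.charP_iff (fixField σ).subtype (fixField σ).subtype.injective p).2 inferInstance
  obtain ⟨k, hk0, hk⟩ := exists_skew hherm.toIsInvol
  have hfe : B f e = 1 := by rw [← hherm.symm, hef, map_one]
  set P := Submodule.span F {e, f}
  have heP : e ∈ P := Submodule.subset_span (by simp)
  have hfP : f ∈ P := Submodule.subset_span (by simp)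
  set H := E.G0 p P
  let M : Γ → Matrix (Fin 2) (Fin 2) F := fun g =>
    !![B f (E.act g e), k * B f (E.act g f); B e (E.act g e) / k, B e (E.act g f)]
  have coord : ∀ g ∈ H, ∀ x ∈ P, E.act g x = B f (E.act g x) • e + B e (E.act g x) • f := by
    intro g hg x hx
    have hmem : E.act g x ∈ P := by
      induction hg using Subgroup.closure_induction generalizing x with
      | mem t ht => obtain ⟨-, v, hv, c, -, -, ev⟩ := ht; rw [ev]; exact P.add_mem hx (P.smul_mem _ hv)
      | one => rwa [act_one]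
      | mul a b _ _ ha hb => rw [act_mul]; exact ha _ (hb _ hx)
      | inv a _ ha =>
        have hsub : P.map (E.act a : V →ₗ[F] V) ≤ P := by rintro _ ⟨z, hz, rfl⟩; exact ha z hz
        obtain ⟨z, hz, e'⟩ := (Submodule.eq_of_le_of_finrank_eq hsub
          (LinearEquiv.finrank_map_eq (E.act a) P)).ge hx
        rw [← e']
        simpa [act_inv_act] using hz
    obtain ⟨u, w, e'⟩ := Submodule.mem_span_pair.1 hmem
    rw [← e']
    simp [hee, hff, hef, hfe]
  have hmul : ∀ g ∈ H, ∀ g' ∈ H, M (g * g') = M g * M g' := fun g _ g' hg' => by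
    have e1 := congrArg (E.act g) (coord g' hg' e heP)
    have e2 := congrArg (E.act g) (coord g' hg' f hfP)
    rw [map_add, map_smul, map_smul] at e1 e2
    ext i j
    fin_cases i <;> fin_cases j <;>
      simp [M, act_mul, e1, e2, Matrix.mul_apply, Fin.sum_univ_two] <;> field_simp <;> ring
  have hM1 : M 1 = 1 := by
    ext i j
    fin_cases i <;> fin_cases j <;> simp [M, E.act_one, hee, hff, hef, hfe]
  have hentries : ∀ g ∈ H, (∀ i j, σ (M g i j) = M g i j) ∧ (M g).det = 1 := by
    intro g hg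
    have hdet : ∀ g ∈ H, B (E.act g e) (E.act g f) = 1 := fun g _ => by rw [act_iso, hef]
    suffices hreal : ∀ i j, σ (M g i j) = M g i j by
      refine ⟨hreal, ?_⟩
      have h1 := hdet g hg
      rw [coord g hg e heP, coord g hg f hfP] at h1
      simp [hee, hff, hef, hfe] at h1
      have r00 := hreal 0 0
      have r10 := hreal 1 0
      simp [M, map_div₀, hk] at r00 r10
      rw [Matrix.det_fin_two]
      simp [M]
      field_simp at r10 ⊢
      rw [r00] at h1
      linear_combination h1 + B f (E.act g f) * r10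
    have hgen : ∀ t ∈ {x | x ^ p = 1 ∧ ∃ v ∈ P, ∃ c : F, B v v = 0 ∧ c + σ c = 0 ∧
        ∀ y, E.act x y = y + (c * B v y) • v}, ∀ i j, σ (M t i j) = M t i j := by
      rintro t ⟨-, v, hv, c, hvv, hc, ev⟩
      obtain ⟨a, b, rfl⟩ := Submodule.mem_span_pair.1 hv
      have hab : σ a * b + σ b * a = 0 := by simpa [hee, hff, hef, hfe] using hvv
      have hσc : σ c = -c := by linear_combination hc
      intro i j
      fin_cases i <;> fin_cases j <;>
        simp [M, ev, hee, hff, hef, hfe, map_div₀, hk, hherm.invol, hσc]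
      · linear_combination -c * hab
      · exact Or.inl (by ring)
      · field_simp
      · linear_combination -c * hab
    induction hg using Subgroup.closure_induction_left with
    | one => intro i j; rw [hM1]; fin_cases i <;> fin_cases j <;> simp
    | mul_left t ht g hg ih =>
      intro i j
      rw [hmul t (Subgroup.subset_closure ht) g hg]
      simp [Matrix.mul_apply, Fin.sum_univ_two, hgen t ht, ih]
    | inv_mul_cancel t ht g hg ih =>
      have ht' : t⁻¹ ∈ {x | x ^ p = 1 ∧ ∃ v ∈ P, ∃ c : F, B v v = 0 ∧ c + σ c = 0 ∧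
          ∀ y, E.act x y = y + (c * B v y) • v} := by
        obtain ⟨htp, v, hv, c, hvv, hc, ev⟩ := ht
        refine ⟨by rw [inv_pow, htp, inv_one], v, hv, -c, hvv, by rw [map_neg]; linear_combination -hc, fun y => ?_⟩
        conv_lhs => rw [show y = E.act t (y + (-c * B v y) • v) by rw [ev]; simp [hvv]]
        rw [act_inv_act]
      intro i j
      rw [hmul t⁻¹ (inv_mem (Subgroup.subset_closure ht)) g hg]
      simp [Matrix.mul_apply, Fin.sum_univ_two, hgen t⁻¹ ht', ih]
  let Mfix : H → Matrix (Fin 2) (Fin 2) (fixField σ) := fun g => Matrix.of fun i j =>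
    ⟨M g.1 i j, (hentries g.1 g.2).1 i j⟩
  have hMfix : ∀ g : H, (Mfix g).map (fixField σ).subtype = M g.1 := fun g => rfl
  have hinj : Function.Injective (fun A : Matrix (Fin 2) (Fin 2) (fixField σ) => A.map (fixField σ).subtype) :=
    Matrix.map_injective (fixField σ).subtype.injective
  let θ : H →* Matrix.SpecialLinearGroup (Fin 2) (fixField σ) :=
    MonoidHom.mk' (fun g => ⟨Mfix g, (fixField σ).subtype.injective (by
        rw [RingHom.map_det, map_one]; exact (hentries g.1 g.2).2)⟩)
      fun a b => Subtype.ext (hinj (by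
        show (Mfix (a * b)).map _ = (Mfix a * Mfix b).map _
        rw [Matrix.map_mul, hMfix, hMfix, hMfix]; exact hmul a.1 a.2 b.1 b.2))
  have hθker : ∀ g : H, θ g = 1 ↔ E.π g.1 = 1 := by
    intro g
    constructor
    · intro hg
      have hm : M g.1 = 1 := by
        rw [← hMfix]
        show (θ g).1.map (fixField σ).subtype = 1
        rw [hg]
        exact Matrix.map_one _ (map_zero _) (map_one _)
      have h00 := congrFun (congrFun hm 0) 0
      have h01 := congrFun (congrFun hm 0) 1
      have h10 := congrFun (congrFun hm 1) 0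
      have h11 := congrFun (congrFun hm 1) 1
      simp [M, hk0] at h00 h01 h10 h11
      have fe : E.act g.1 e = e := by rw [coord _ g.2 e heP, h00, h10]; simp
      have ff : E.act g.1 f = f := by rw [coord _ g.2 f hfP, h01, h11]; simp
      refine E.π_eq_one fun x => ?_
      have hy : ∀ w ∈ P, B w (x - B f x • e - B e x • f) = 0 := fun w hw => by
        obtain ⟨a, b, rfl⟩ := Submodule.mem_span_pair.1 hw
        simp [hee, hff, hef, hfe]
      have fy := G0_fix g.2 hy
      rw [show x = (x - B f x • e - B e x • f) + B f x • e + B e x • f by abel, map_add, map_add, map_smul,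
        map_smul, fy, fe, ff]
    · intro hg
      refine Subtype.ext (hinj ?_)
      show (Mfix g).map _ = (1 : Matrix (Fin 2) (Fin 2) (fixField σ)).map (fixField σ).subtype
      rw [hMfix, Matrix.map_one _ (map_zero _) (map_one _)]
      ext i j
      fin_cases i <;> fin_cases j <;> simp [M, E.act_of_one hg, hee, hff, hef, hfe]
  have hsurj : Function.Surjective θ := by
    rw [← MonoidHom.range_eq_top]
    refine sl_eq_top_of_transvection _ fun i j hij c => ?_
    have hσc : σ (c : F) = c := c.2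
    fin_cases i <;> fin_cases j <;> simp at hij
    · obtain ⟨x, hx, ev⟩ := exists_tau hC heP hee (c := (c : F) / k) (by rw [map_div₀, hσc, hk, div_neg, add_neg_cancel])
      refine ⟨⟨x, hx⟩, Subtype.ext (hinj ?_)⟩
      show (Mfix ⟨x, hx⟩).map _ = _
      rw [hMfix]
      ext a b
      fin_cases a <;> fin_cases b <;>
        simp [M, ev, hee, hff, hef, hfe, hk0, Matrix.SpecialLinearGroup.transvection, Matrix.transvection,
          mul_div_cancel₀]
    · obtain ⟨x, hx, ev⟩ := exists_tau hC hfP hff (c := (c : F) * k) (by rw [map_mul, hσc, hk]; ring)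
      refine ⟨⟨x, hx⟩, Subtype.ext (hinj ?_)⟩
      show (Mfix ⟨x, hx⟩).map _ = _
      rw [hMfix]
      ext a b
      fin_cases a <;> fin_cases b <;>
        simp [M, ev, hee, hff, hef, hfe, hk0, Matrix.SpecialLinearGroup.transvection, Matrix.transvection]
  intro g hg hg1
  by_contra hne
  have hgker : (⟨g, hg⟩ : H) ∈ θ.ker := (hθker _).2 hg1
  have hcard : Nat.card θ.ker = r := by
    let ι : θ.ker →* E.π.ker :=
      MonoidHom.mk' (fun x => ⟨x.1.1, (hθker x.1).1 x.2⟩) fun _ _ => rfl
    have hι : Function.Injective ι := fun x y e =>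
      Subtype.ext (Subtype.ext (congrArg (fun z : E.π.ker => (z : Γ)) e))
    have hdvd := Subgroup.card_dvd_of_injective ι hι
    rw [hC.card, Nat.dvd_prime hC.prime'] at hdvd
    refine hdvd.resolve_left fun e => hne ?_
    have : Subsingleton θ.ker := (Nat.card_eq_one_iff_unique.1 e).1
    exact congrArg (fun x : θ.ker => x.1.1) (Subsingleton.elim ⟨⟨g, hg⟩, hgker⟩ 1)
  have hle : (⊤ : Subgroup H) ≤ Subgroup.closure {x : H | x ^ p = 1} :=
    (Subgroup.closure_closure_coe_preimage (k := _)).ge.trans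
      (Subgroup.closure_mono fun x hx => Subtype.ext hx.1)
  have := SLMult.cross_notMem (p := p) (r := r) hC.ne θ hsurj (fun x hx => Subgroup.mem_center_iff.2
    fun y => Subtype.ext (E.ker_comm ((hθker x).1 hx) (y : Γ)).eq) hcard hgker
    (Subgroup.mem_sup_right (hle trivial))
  exact hne (congrArg Subtype.val this)

end Ext

end Cfsg.Agent.PSUMult
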