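import Cfsg.Agent.PSUMult.Invariant
import Cfsg.Agent.Classical.HermGroup

/-!
A Sylow subgroup of the special unitary group in the characteristic lifts to a subgroup avoiding the kernel, so
no central extension by that prime is a stem extension.
-/

set_option autoImplicit false
set_option linter.unusedSectionVars false

namespace Cfsg.Agent.PSUMult

open Module Cfsg.Agent.Classical Cfsg.Agent.Classical.Herm
open scoped commutatorElement

variable {F V : Type*} [Field F] [Fintype F] [AddCommGroup V] [Module F V] [FiniteDimensional F V]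
  {σ : F →+* F} {B : V →ₛₗ[σ] V →ₗ[F] F} {Γ : Type*} [Group Γ] [Finite Γ]

/-- The standing hypotheses for an extension by the characteristic. -/
structure CharData (E : Ext B Γ) (p q : ℕ) : Prop where
  prime : p.Prime
  char : CharP F p
  ker_card : Nat.card E.π.ker = p
  two_le : 2 ≤ q
  cardF : Fintype.card F = q ^ 2
  pow : ∀ x, σ x = x ^ q
  dim : 3 ≤ finrank F V
  dim_three : finrank F V = 3 → 3 ≤ q
  dim_four : finrank F V = 4 → 4 ≤ q
  compl : ∀ {m : ℕ} {e f : V} {u : Fin m → V} (P : PData E p q e f u),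
    ∃ M, IsComp E e f P.frame.ee M ∧ ∀ g, E.act g e = e → E.act g f = f → Inv M g

namespace CharData

variable {E : Ext B Γ} {p q : ℕ} (D : CharData E p q)
include D

theorem card_fix : Nat.card (fixField σ) = q := by
  have h1 := card_eq_fix_sq E.herm.toIsInvol
  rw [Nat.card_eq_fintype_card, D.cardF] at h1
  exact (Nat.pow_left_injective (by norm_num : 2 ≠ 0) h1).symm

theorem dvd_q : p ∣ q := by
  have := D.char
  exact D.prime.dvd_of_dvd_pow (D.cardF ▸ (CharP.cast_eq_zero_iff F p _).1 (Nat.cast_card_eq_zero F))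

theorem card_skew : Nat.card {d : F // d + σ d = 0} = q := by
  obtain ⟨k, hk0, hk⟩ := exists_skew E.herm.toIsInvol
  refine Eq.trans (Nat.card_congr (Equiv.ofBijective (fun x : fixField σ =>
    (⟨k * x, by rw [map_mul, hk, mem_fixField.1 x.2]; ring⟩ : {d : F // d + σ d = 0})) ⟨?_, ?_⟩)).symm D.card_fix
  · intro x y h
    exact Subtype.ext (mul_left_cancel₀ hk0 (congrArg Subtype.val h))
  · rintro ⟨d, hd⟩
    refine ⟨⟨d / k, ?_⟩, Subtype.ext (mul_div_cancel₀ d hk0)⟩
    rw [mem_fixField, map_div₀, hk, eq_neg_of_add_eq_zero_right hd, neg_div_neg_eq]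

theorem card_trace (v : V) : Nat.card {d : F // d + σ d = -B v v} = q := by
  obtain ⟨d₀, hd₀⟩ := exists_d E.herm (a := v)
  refine Eq.trans (Nat.card_congr ?_) D.card_skew
  exact (Equiv.subRight d₀).subtypeEquiv fun d => by
    simp only [Equiv.subRight_apply, map_sub]
    constructor
    · intro h; linear_combination h - hd₀
    · intro h; linear_combination h + hd₀

/-- The radical of a frame extends the lift by one step. -/
theorem unipotent_step {k : ℕ} {a : Fin (k + 2) → V} (ha : Herm.IsON B a) {U' : Subgroup Γ}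
    (hinj : ∀ x ∈ U', E.π x = 1 → x = 1) (hfix : U'.map E.π ≤ fixG B (fun i : Fin k => a i.succ.succ)) :
    ∃ U : Subgroup Γ, (∀ x ∈ U, E.π x = 1 → x = 1) ∧ U.map E.π ≤ fixG B a ∧
      Nat.card U = Nat.card U' * q ^ (2 * k + 1) := by
  classical
  have h := E.herm
  obtain ⟨γ, hγ0, hγ⟩ := exists_neg_one_norm h
  obtain ⟨ζ, hζ1, hζ⟩ := exists_norm_one_ne_one h
  have hs : (1 : F) - ζ ≠ 0 := sub_ne_zero.2 (Ne.symm hζ1)
  set e := a 0 + γ • a 1 with he
  set f := ((1 : F) - ζ)⁻¹ • (a 0 + (γ * ζ) • a 1) with hf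
  have hee : B e e = 0 := by simp [he, ha _ _]; linear_combination hγ
  have hff : B f f = 0 := by
    rw [hf, smul_self h]
    simp [ha _ _]
    exact Or.inr (by linear_combination hγ + γ * σ γ * hζ)
  have hef : B e f = 1 := by
    simp [he, hf, ha _ _]
    field_simp
    linear_combination ζ * hγ
  let a2 : Fin 2 → V := ![a 0, a 1]
  have ha2 : Herm.IsON B a2 := fun i j => by fin_cases i <;> fin_cases j <;> simp [a2, ha _ _]
  have hW : ∀ x, x ∈ Wsp B e f ↔ B (a 0) x = 0 ∧ B (a 1) x = 0 := by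
    intro x
    rw [mem_Wsp]
    constructor
    · rintro ⟨h1, h2⟩
      rw [hf] at h2
      simp only [LinearMap.map_smulₛₗ₂, smul_eq_mul, mul_eq_zero] at h2
      have h2' := h2.resolve_left ((map_ne_zero σ).2 (inv_ne_zero hs))
      simp [he] at h1
      simp at h2'
      have h3 : σ γ * B (a 1) x * (1 - σ ζ) = 0 := by linear_combination h1 - h2'
      have hz : (1 : F) - σ ζ ≠ 0 := by rw [← map_one σ, ← map_sub]; exact (map_ne_zero σ).2 hs
      have h4 : B (a 1) x = 0 := ((mul_eq_zero.1 ((mul_eq_zero.1 h3).resolve_right hz))).resolve_left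
        ((map_ne_zero σ).2 hγ0)
      exact ⟨by linear_combination h1 - σ γ * h4, h4⟩
    · rintro ⟨h1, h2⟩
      constructor <;> simp [he, hf, h1, h2]
  obtain ⟨b, hb, hbp, hbx⟩ := exists_compl_frame h ha2 (d := finrank F V - 2) (by have := D.dim; omega)
  have hperp : ∀ x, x ∈ perpOf B a2 ↔ x ∈ Wsp B e f := fun x => by
    rw [hW, mem_perpOf, Fin.forall_fin_two]
    simp [a2]
  have P : PData E p q e f b :=
    { prime := D.prime
      char := D.char
      kerP := IsPGroup.of_card (n := 1) (D.ker_card.trans (pow_one p).symm)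
      two_le := D.two_le
      cardF := D.cardF
      pow := D.pow
      frame := ⟨hee, hff, hef, hb, fun i => (hperp _).1 (hbp i), fun x hx => hbx x ((hperp x).2 hx)⟩
      dims := by
        have h3 := D.dim_three
        have h4 := D.dim_four
        have := D.dim
        rcases (show finrank F V = 3 ∨ finrank F V = 4 ∨ 5 ≤ finrank F V by omega) with e | e | e
        · exact Or.inl ⟨by omega, h3 e⟩
        · exact Or.inr (Or.inl ⟨by omega, h4 e⟩)
        · exact Or.inr (Or.inr (by omega)) }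
  obtain ⟨M, hM, hinv⟩ := D.compl P
  let tl : Fin k → V := fun i => a i.succ.succ
  have htl : Herm.IsON B tl := fun i j => by simp [tl, ha _ _]
  have hne : ∀ i : Fin k, i.succ.succ ≠ (0 : Fin (k + 2)) ∧ i.succ.succ ≠ (1 : Fin (k + 2)) := fun i =>
    ⟨Fin.succ_ne_zero _, fun h1 => Fin.succ_ne_zero i (Fin.succ_injective _ h1)⟩
  have htlW : ∀ i, tl i ∈ Wsp B e f := fun i =>
    (hW _).2 ⟨by simp [tl, ha _ _, (hne i).1.symm], by simp [tl, ha _ _, (hne i).2.symm]⟩
  let S := Submodule.span F (Set.range tl)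
  have hSW : S ≤ Wsp B e f := Submodule.span_le.2 (by rintro _ ⟨i, rfl⟩; exact htlW i)
  have hcrd : ∀ x, x = e ∨ x = f → crd B tl x = 0 := by
    intro x hx
    funext i
    rcases hx with rfl | rfl
    · exact (eq_zero_comm h).1 (htlW i).1
    · exact (eq_zero_comm h).1 (htlW i).2
  have hU'fix : ∀ g ∈ U', E.act g e = e ∧ E.act g f = f := fun g hg =>
    ⟨hfix ⟨g, hg, rfl⟩ e (hcrd e (Or.inl rfl)), hfix ⟨g, hg, rfl⟩ f (hcrd f (Or.inr rfl))⟩
  have hA : ∀ {v : V} {d : F}, v ∈ S → d + σ d = -B v v → Adm B e v d := fun hv hd =>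
    adm_of_mem h hee (hSW hv) hd
  let MW : Subgroup Γ :=
    { carrier := {x | x ∈ M ∧ ∃ v ∈ S, ∃ d, d + σ d = -B v v ∧ E.π x = qel h e v d}
      one_mem' := ⟨one_mem _, 0, zero_mem _, 0, by simp, by rw [map_one, qel_zero]⟩
      mul_mem' := by
        rintro x y ⟨hx, v, hv, d, hd, hxe⟩ ⟨hy, w, hw, d', hd', hye⟩
        exact ⟨mul_mem hx hy, v + w, add_mem hv hw, _, ((hA hv hd).add h (hA hw hd')).2.2,
          by rw [map_mul, hxe, hye, qel_mul h (hA hv hd) (hA hw hd')]⟩
      inv_mem' := by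
        rintro x ⟨hx, v, hv, d, hd, hxe⟩
        exact ⟨inv_mem hx, -v, neg_mem hv, _, ((hA hv hd).neg h).2.2,
          by rw [map_inv, hxe, qel_inv h (hA hv hd)]⟩ }
  have hnorm : ∀ g ∈ U', ∀ x ∈ MW, g * x * g⁻¹ ∈ MW := by
    rintro g hg x ⟨hx, v, hv, d, hd, hxe⟩
    obtain ⟨hge, hgf⟩ := hU'fix g hg
    refine ⟨hinv g hge hgf x hx, E.act g v, fixG_maps_span h htl (hfix ⟨g, hg, rfl⟩) hv, d, ?_, ?_⟩
    · rw [E.act_iso]; exact hd
    · rw [P.π_conj (l := 1) (by rw [hge, one_smul]) one_ne_zero (hA hv hd) hxe]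
      simp
  let U : Subgroup Γ :=
    { carrier := {z | ∃ x ∈ U', ∃ y ∈ MW, z = x * y}
      one_mem' := ⟨1, one_mem _, 1, one_mem _, (mul_one 1).symm⟩
      mul_mem' := by
        rintro _ _ ⟨x, hx, y, hy, rfl⟩ ⟨x', hx', y', hy', rfl⟩
        exact ⟨x * x', mul_mem hx hx', x'⁻¹ * y * x' * y', mul_mem (by
          simpa using hnorm x'⁻¹ (inv_mem hx') y hy) hy', by group⟩
      inv_mem' := by
        rintro _ ⟨x, hx, y, hy, rfl⟩
        exact ⟨x⁻¹, inv_mem hx, x * y⁻¹ * x⁻¹, hnorm x hx _ (inv_mem hy), by group⟩ }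
  have hsep : ∀ x ∈ U', ∀ y ∈ MW, E.π (x * y) = 1 → x = 1 ∧ y = 1 := by
    rintro x hx y ⟨hy, v, hv, d, hd, hye⟩ he1
    have e1 : E.π y = E.π x⁻¹ := by
      rw [map_mul] at he1
      rw [map_inv, eq_inv_of_mul_eq_one_right he1]
    have hyf : (qel h e v d).1 f = (qel h e 0 0).1 f := by
      rw [qel_zero, ← hye, e1]
      exact (hU'fix _ (inv_mem hx)).2
    have h0 : (0 : F) + σ 0 = -B (0 : V) 0 := by simp
    rw [qel_apply h (hA hv hd), qel_apply h (hA (zero_mem _) h0)] at hyf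
    simp [hef, (eq_zero_comm h).1 (hSW hv).2] at hyf
    have e2 := congrArg (B f) hyf
    simp [(mem_Wsp.1 (hSW hv)).2, fe h hef, hff] at e2
    subst e2
    simp at hyf
    subst hyf
    have hy1 := hM.inj y hy (by rw [hye, qel_zero])
    refine ⟨hinj x hx ?_, hy1⟩
    rw [hy1, mul_one] at he1
    exact he1
  refine ⟨U, ?_, ?_, ?_⟩
  · rintro _ ⟨x, hx, y, hy, rfl⟩ he1
    obtain ⟨h1, h2⟩ := hsep x hx y hy he1
    rw [h1, h2, one_mul]
  · rintro _ ⟨_, ⟨x, hx, y, ⟨-, v, hv, d, hd, hye⟩, rfl⟩, rfl⟩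
    rw [map_mul]
    refine mul_mem (fun z hz => hfix ⟨x, hx, rfl⟩ z ?_) ?_
    · funext i; exact congrFun hz _
    · intro z hz
      rw [hye, qel_apply h (hA hv hd)]
      have hz0 : B (a 0) z = 0 := congrFun hz 0
      have hz1 : B (a 1) z = 0 := congrFun hz 1
      have hez : B e z = 0 := by simp [he, hz0, hz1]
      have hvz : B v z = 0 := by
        obtain ⟨c, rfl⟩ := (Submodule.mem_span_range_iff_exists_fun F).1 hv
        rw [← emb_apply]
        exact (form_emb_perp h htl c (funext fun i => congrFun hz _)).1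
      simp [hez, hvz]
  · have hU : Nat.card U = Nat.card (U' × MW) := by
      refine (Nat.card_congr (Equiv.ofBijective (fun z : U' × MW => (⟨z.1.1 * z.2.1,
        z.1.1, z.1.2, z.2.1, z.2.2, rfl⟩ : U)) ⟨?_, ?_⟩)).symm
      · rintro ⟨x, y⟩ ⟨x', y'⟩ hxy
        have hxy' : x.1 * y.1 = x'.1 * y'.1 := congrArg Subtype.val hxy
        obtain ⟨h1, h2⟩ := hsep (x'.1⁻¹ * x.1) (mul_mem (inv_mem x'.2) x.2) (y.1 * y'.1⁻¹)
          (mul_mem y.2 (inv_mem y'.2)) (by
            rw [show x'.1⁻¹ * x.1 * (y.1 * y'.1⁻¹) = x'.1⁻¹ * (x.1 * y.1) * y'.1⁻¹ by group, hxy']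
            simp)
        exact Prod.ext (Subtype.ext (inv_mul_eq_one.1 h1).symm) (Subtype.ext (mul_inv_eq_one.1 h2))
      · rintro ⟨_, x, hx, y, hy, rfl⟩
        exact ⟨(⟨x, hx⟩, ⟨y, hy⟩), rfl⟩
    let Q := Σ v : S, {d : F // d + σ d = -B v.1 v.1}
    have hQ : ∀ z : Q, ∃ x ∈ M, E.π x = qel h e z.1.1 z.2.1 := fun z => hM.surj _ (hSW z.1.2) _ z.2.2
    choose lx hlxM hlx using hQ
    have hMW : Nat.card MW = Nat.card Q := by
      refine (Nat.card_congr (Equiv.ofBijective (fun z : Q => (⟨lx z,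
        hlxM z, z.1.1, z.1.2, z.2.1, z.2.2, hlx z⟩ : MW)) ⟨?_, ?_⟩)).symm
      · intro z z' hzz
        have e1 : lx z = lx z' := congrArg Subtype.val hzz
        have e2 := qel_inj h hee hef (hSW z.1.2) (hSW z'.1.2) z.2.2 z'.2.2 (by rw [← hlx, ← hlx, e1])
        obtain ⟨⟨v, hv⟩, d⟩ := z
        obtain ⟨⟨v', hv'⟩, d'⟩ := z'
        obtain rfl : v = v' := e2.1
        obtain rfl : d = d' := Subtype.ext e2.2
        rfl
      · rintro ⟨y, hy, v, hv, d, hd, hye⟩
        refine ⟨⟨⟨v, hv⟩, ⟨d, hd⟩⟩, Subtype.ext (inv_mul_eq_one.1 (hM.inj _ (mul_mem (inv_mem (hlxM _)) hy) ?_))⟩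
        rw [map_mul, map_inv, hlx, hye, inv_mul_cancel]
    have : Finite V := Module.finite_of_finite F
    have : Fintype S := Fintype.ofFinite _
    have hS : Nat.card S = q ^ (2 * k) := by
      rw [Module.natCard_eq_pow_finrank (K := F), finrank_span_eq_card (htl.linearIndependent h),
        Nat.card_eq_fintype_card, D.cardF, Fintype.card_fin, ← pow_mul]
    rw [hU, Nat.card_prod, hMW, Nat.card_sigma]
    congr 1
    simp only [D.card_trace, Finset.sum_const, Finset.card_univ, smul_eq_mul]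
    rw [← Nat.card_eq_fintype_card, hS, pow_succ]

theorem exists_unipotent : ∀ (k : ℕ) (a : Fin k → V), Herm.IsON B a → ∃ U : Subgroup Γ,
    (∀ x ∈ U, E.π x = 1 → x = 1) ∧ U.map E.π ≤ fixG B a ∧ Nat.card U = q ^ (k * (k - 1) / 2)
  | 0, a, _ => ⟨⊥, fun x hx _ => hx, by simp, by simp⟩
  | 1, a, _ => ⟨⊥, fun x hx _ => hx, by simp, by simp⟩
  | k + 2, a, ha => by
    obtain ⟨U', hinj, hfix, hcard⟩ := exists_unipotent k (fun i => a i.succ.succ) (fun i j => by simp [ha _ _])
    obtain ⟨U, h1, h2, h3⟩ := D.unipotent_step ha hinj hfix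
    refine ⟨U, h1, h2, ?_⟩
    rw [h3, hcard, ← pow_add]
    congr 1
    rcases k with _ | k
    · rfl
    · have e1 : (k + 1 + 2) * (k + 1 + 2 - 1) = (k + 1) * (k + 1 - 1) + 2 * (2 * (k + 1) + 1) := by
        simp only [show k + 1 + 2 - 1 = k + 2 by omega, Nat.add_sub_cancel]; ring
      rw [e1, Nat.add_mul_div_left _ _ two_pos]

theorem hr : (∃ t : F, σ t = t ∧ t ≠ 0 ∧ t ≠ 1) ∨ finrank F V ≠ 3 := by
  by_cases h3 : finrank F V = 3
  · left
    have : Nontrivial (fixField σ)ˣ := Finite.one_lt_card_iff_nontrivial.1 (by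
      rw [Nat.card_units, D.card_fix]
      have := D.dim_three h3; omega)
    obtain ⟨t, ht⟩ := exists_ne (1 : (fixField σ)ˣ)
    exact ⟨((t : fixField σ) : F), (t : fixField σ).2, fun e => t.ne_zero (Subtype.ext e),
      fun e => ht (Units.ext (Subtype.ext e))⟩
  · exact Or.inr h3

end CharData

theorem suG_perfect (h : IsHerm B) (hn : 3 ≤ finrank F V)
    (hr : (∃ t : F, σ t = t ∧ t ≠ 0 ∧ t ≠ 1) ∨ finrank F V ≠ 3) : commutator (suG B) = ⊤ := by
  rw [eq_top_iff]
  rintro ⟨g, hg⟩ -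
  have hle : TUon B ⊤ ≤ (commutator (suG B)).map (suG B).subtype := by
    refine (Subgroup.closure_le _).2 ?_
    rintro t ⟨v, -, c, hv, hc, ht⟩
    obtain ⟨x, y, hxy⟩ := tvU_eq_comm h hn hv hc
    exact ⟨⁅x, y⁆, Subgroup.commutator_mem_commutator (Subgroup.mem_top _) (Subgroup.mem_top _),
      hxy.trans (LinearEquiv.ext fun z => (ht z).symm)⟩
  rw [← suG_eq_TUon h (by omega) hr] at hg
  obtain ⟨x, hx, hxg⟩ := hle hg
  exact (Subtype.ext hxg : x = ⟨g, _⟩) ▸ hx

namespace CharData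

variable {E : Ext B Γ} {p q : ℕ} (D : CharData E p q)
include D

/-- No extension by the characteristic is a stem extension. -/
theorem not_stem_char : ¬ E.π.ker ≤ commutator Γ := by
  classical
  intro hst
  have := Fact.mk D.prime
  have := D.char
  obtain ⟨a, ha⟩ := exists_orthonormal E.herm
  obtain ⟨U, hinj, hfix, hcard⟩ := D.exists_unipotent _ a ha
  have : Finite (suG B) := Finite.of_surjective _ E.surj
  have hperfΓ : commutator Γ = ⊤ := by
    have h1 : (commutator Γ).map E.π = ⊤ := by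
      rw [commutator_def, Subgroup.map_commutator, Subgroup.map_top_of_surjective _ E.surj, ← commutator_def,
        suG_perfect E.herm D.dim D.hr]
    refine eq_top_iff.2 fun x _ => ?_
    obtain ⟨y, hy, hxy⟩ := h1.ge (Subgroup.mem_top (E.π x))
    rw [show x = y * (y⁻¹ * x) by group]
    exact mul_mem hy (hst (by rw [MonoidHom.mem_ker, map_mul, map_inv, hxy, inv_mul_cancel]))
  have hmap : Nat.card (U.map E.π) = q ^ (finrank F V * (finrank F V - 1) / 2) := by
    rw [← hcard]
    refine (Nat.card_congr (Equiv.ofBijective (fun x : U => (⟨E.π x.1, x.1, x.2, rfl⟩ : U.map E.π)) ⟨?_, ?_⟩)).symm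
    · intro x y hxy
      have e1 : E.π x.1 = E.π y.1 := congrArg Subtype.val hxy
      exact Subtype.ext (mul_inv_eq_one.1 (hinj _ (mul_mem x.2 (inv_mem y.2)) (by
        rw [map_mul, map_inv, e1, mul_inv_cancel])))
    · rintro ⟨_, x, hx, rfl⟩
      exact ⟨⟨x, hx⟩, rfl⟩
  have hfull : fixG B a = ⊤ := eq_top_iff.2 fun g _ x hx => by
    have h0 : x = 0 := by
      refine E.herm.nondeg _ fun y => (eq_zero_comm E.herm).1 ?_
      rw [← a.sum_repr y, map_sum, LinearMap.sum_apply]
      refine Finset.sum_eq_zero fun i _ => ?_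
      rw [LinearMap.map_smulₛₗ₂, show B (a i) x = 0 from congrFun hx i, smul_zero]
    rw [h0, map_zero]
  have hsu : Nat.card (suG B) = Nat.card (suG (hermB (finrank F V) σ)) := by
    rw [← card_fixG E.herm ha, hfull, Subgroup.card_top]
  have hval : padicValNat p (Nat.card (suG B)) ≤ padicValNat p (Nat.card (U.map E.π)) := by
    rw [hsu, hmap, ← Nat.card_congr (suEquiv (finrank F V) D.pow).toEquiv]
    have hq0 : q ≠ 0 := by have := D.two_le; omega
    have hnd : ∀ i, ¬ p ∣ (if Even i then q ^ (i + 1) + 1 else q ^ (i + 1) - 1) := fun i hd => by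
      have h1 : p ∣ q ^ (i + 1) := D.dvd_q.trans (dvd_pow_self q (Nat.succ_ne_zero i))
      have h2 : 1 ≤ q ^ (i + 1) := Nat.one_le_pow _ _ (by omega)
      have := D.prime.two_le
      split_ifs at hd
      · have := Nat.le_of_dvd one_pos ((Nat.dvd_add_right h1).1 hd); omega
      · have h3 : p ∣ 1 := by
          have := Nat.dvd_sub h1 hd
          rwa [Nat.sub_sub_self h2] at this
        have := Nat.le_of_dvd one_pos h3; omega
    have h1 := card_SU_mul_eq_GU E.herm.toIsInvol D.pow D.card_fix (n := finrank F V) (by have := D.dim; omega)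
    rw [card_GU_formula E.herm.toIsInvol D.pow D.card_fix] at h1
    have h2 := congrArg (padicValNat p) h1
    have hprod : ¬ p ∣ ∏ i ∈ Finset.range (finrank F V), (if Even i then q ^ (i + 1) + 1 else q ^ (i + 1) - 1) :=
      fun hd => by
        obtain ⟨i, -, hi⟩ := (Nat.prime_iff.1 D.prime).exists_mem_finset_dvd hd
        exact hnd i hi
    have hq1 : ¬ p ∣ q + 1 := by simpa using hnd 0
    rw [padicValNat.mul (by omega) Nat.card_pos.ne', padicValNat.mul (pow_ne_zero _ hq0)
      (fun h0 => hprod (by rw [h0]; exact dvd_zero p)), padicValNat.eq_zero_of_not_dvd hprod,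
      padicValNat.eq_zero_of_not_dvd hq1] at h2
    omega
  have hbot : E.π.ker = ⊥ := (Subgroup.eq_bot_iff_forall _).2 fun z hz =>
    E.transfer_inj (p := p) D.ker_card (H₀ := ⊤) (X₀ := U) (le_sup_left.trans' le_top)
      (by rwa [Subgroup.map_top_of_surjective _ E.surj, Subgroup.card_top])
      (Subgroup.commutator_le.2 fun x hx y hy => mul_mem (mul_mem (mul_mem hx hy) (inv_mem hx)) (inv_mem hy))
      hinj (Or.inl ⟨rfl, by rw [← commutator_def, hperfΓ]⟩) z (Subgroup.mem_top z) hz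
  have := D.ker_card
  rw [hbot, Subgroup.card_bot] at this
  exact D.prime.one_lt.ne this

end CharData

end Cfsg.Agent.PSUMult
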