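import Cfsg.Agent.PSUMult.CrossMain
import Cfsg.Agent.PSUMult.PPart
import Cfsg.Agent.Classical.UnitaryGroup
import Cfsg.Agent.SLMult.Main

/-!
The Schur multipliers of `SU(n, q)` and `PSU(n, q)` outside the exceptional pairs.
-/

set_option autoImplicit false
set_option linter.unusedSectionVars false

namespace Cfsg.Agent.PSUMult

open Module Cfsg.Agent.Classical Cfsg.Agent.Classical.Herm

universe u

variable {F : Type u} [Field F] [Fintype F] {n q : ℕ}

theorem su_multiplier_trivial (hF : Fintype.card F = q ^ 2) (hn : 3 ≤ n) (h3 : n = 3 → 3 ≤ q)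
    (h4 : n = 4 → 4 ≤ q) (h6 : ¬ (q = 2 ∧ n = 6)) : Cfsg.HasCyclicSchurMultiplier (Cfsg.SU n F q) 1 := by
  classical
  refine ProjExt.Stem.hasCyclicSchurMultiplier_one fun Γ _ _ π₀ hπ₀ => ?_
  by_contra hne
  obtain ⟨Γ', _, _, π', r, hr, hs, hk⟩ := Suzuki.stem_reduce _ π₀ rfl hπ₀ hne
  obtain ⟨σ, hσq, hσ, hfix, hq1⟩ := exists_powHom hF
  have hp : Fact (ringChar F).Prime := ⟨CharP.char_is_prime F _⟩
  let τ : Γ' →* suG (hermB n σ) := (suEquiv n hσq).toMonoidHom.comp π'
  have hker : τ.ker = π'.ker := by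
    ext x
    simp [τ, MonoidHom.mem_ker]
  let E : Ext (hermB n σ) Γ' :=
    { π := τ
      surj := (suEquiv n hσq).surjective.comp hs.1
      central := hker.le.trans hs.2.1
      herm := hermB_isHerm hσ n }
  have hkE : Nat.card E.π.ker = r := by
    show Nat.card τ.ker = r
    rw [hker, hk]
  have hstem : E.π.ker ≤ commutator Γ' := hker.le.trans hs.2.2
  have hd : finrank F (Fin n → F) = n := finrank_fin_fun F
  have D : ∀ p, p.Prime → CharP F p → Nat.card E.π.ker = p → CharData E p q := fun p h1 h2 h3' =>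
    { prime := h1
      char := h2
      ker_card := h3'
      two_le := hq1
      cardF := hF
      pow := hσq
      dim := by omega
      dim_three := fun h => h3 (by omega)
      dim_four := fun h => h4 (by omega)
      compl := fun P => P.exists_compl fun h => h6 ⟨h.1, by
        have := P.frame.finrank_eq E.herm; omega⟩ }
  by_cases hrp : r = ringChar F
  · subst hrp
    exact (D _ hr inferInstance hkE).not_stem_char hstem
  refine Ext.not_stem_cross (p := ringChar F) (r := r) (q := q)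
    ⟨hp.out, inferInstance, hr, hrp, hkE⟩ ⟨hq1, fun h => hrp ?_, hσq, hfix⟩ (by omega)
    ?_ hstem
  · have h1 : r ∣ Fintype.card F := hF ▸ h.trans (dvd_pow_self q two_ne_zero)
    obtain ⟨k, -, hk'⟩ := FiniteField.card F (ringChar F)
    rw [hk'] at h1
    exact (Nat.prime_dvd_prime_iff_eq hr hp.out).1 (hr.dvd_of_dvd_pow h1)
  · exact hd.symm ▸ hr_of_not_three_two hfix (fun h => by have := h3 h.1; omega) hq1

theorem psu_multiplier (hF : Fintype.card F = q ^ 2) (hn : 3 ≤ n) (h3 : n = 3 → 3 ≤ q)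
    (h4 : n = 4 → 4 ≤ q) (h6 : ¬ (q = 2 ∧ n = 6)) :
    Cfsg.HasCyclicSchurMultiplier (Cfsg.PSU n F q) (Nat.gcd n (q + 1)) := by
  classical
  obtain ⟨σ, hσq, hσ, hfix, hq1⟩ := exists_powHom hF
  set S := Cfsg.SU n F q
  have hperf : commutator S = ⊤ := by
    have h1 : commutator (suG (hermB n σ)) = ⊤ := suG_perfect (hermB_isHerm hσ n)
      (by rw [finrank_fin_fun]; exact hn)
      ((finrank_fin_fun F (n := n)).symm ▸ hr_of_not_three_two hfix (fun h => by have := h3 h.1; omega) hq1)
    have hsurj : Function.Surjective ((suEquiv n hσq).symm.toMonoidHom : suG (hermB n σ) →* S) :=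
      (suEquiv n hσq).symm.surjective
    rw [commutator_def, ← Subgroup.map_top_of_surjective _ hsurj, ← Subgroup.map_commutator, ← commutator_def, h1]
  let π : S →* Cfsg.PSU n F q := QuotientGroup.mk' (Subgroup.center S)
  have hπs : Function.Surjective π := QuotientGroup.mk'_surjective _
  have hπk : π.ker = Subgroup.center S := QuotientGroup.ker_mk' _
  let i0 : Fin n := ⟨0, by omega⟩
  have hsc : ∀ g : Subgroup.center S, ∃ a : F,
      ((g.1 : Matrix.SpecialLinearGroup (Fin n) F) : Matrix (Fin n) (Fin n) F) = Matrix.scalar (Fin n) a := fun g =>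
    center_SU_scalar hσ hσq hfix (by omega) g.2
  let φ : Subgroup.center S →* F :=
    { toFun := fun g => ((g.1 : Matrix.SpecialLinearGroup (Fin n) F) : Matrix (Fin n) (Fin n) F) i0 i0
      map_one' := by simp
      map_mul' := fun g g' => by
        obtain ⟨a, ha⟩ := hsc g
        obtain ⟨b, hb⟩ := hsc g'
        show (((g.1 : Matrix.SpecialLinearGroup (Fin n) F) : Matrix (Fin n) (Fin n) F) *
          ((g'.1 : Matrix.SpecialLinearGroup (Fin n) F) : Matrix (Fin n) (Fin n) F)) i0 i0 = _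
        rw [ha, hb]
        simp }
  have hcyc : IsCyclic (Subgroup.center S) := isCyclic_of_subgroup_isDomain φ fun g g' he => by
    obtain ⟨a, ha⟩ := hsc g
    obtain ⟨b, hb⟩ := hsc g'
    have : a = b := by simpa [φ, ha, hb] using he
    exact Subtype.ext (Subtype.ext (Subtype.ext (by rw [ha, hb, this])))
  have hcard : Nat.card (Subgroup.center S) = Nat.gcd n (q + 1) := card_center_SU hσ hσq hfix (by omega)
  refine ProjExt.Stem.hasCyclicSchurMultiplier_of π
    ⟨hπs, hπk.le, by rw [hperf]; exact le_top⟩ ((MulEquiv.subgroupCongr hπk).trans ?_) ?_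
  · exact hcard ▸ (zmodCyclicMulEquiv hcyc).symm
  intro Δ _ _ s hs
  obtain ⟨c, hc⟩ := hcyc.exists_generator
  obtain ⟨f, hf, hle⟩ :=
    SLMult.lift_through_cover hperf (su_multiplier_trivial hF hn h3 h4 h6) π hπs s hs
  refine ⟨f c, ?_, fun x hx => ?_, ?_⟩
  · show s (f c) = 1
    rw [show s (f c) = π (c : S) from DFunLike.congr_fun hf (c : S)]
    exact MonoidHom.mem_ker.mp (hπk.symm ▸ c.2)
  · obtain ⟨y, hy, rfl⟩ := hle hx
    rw [hπk] at hy
    obtain ⟨j, hj⟩ := hc ⟨y, hy⟩
    refine ⟨j, ?_⟩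
    show f c ^ j = f y
    rw [← map_zpow, ← Subgroup.coe_zpow, show c ^ j = ⟨y, hy⟩ from hj]
  · rw [← map_pow, ← hcard, ← Subgroup.coe_pow, pow_card_eq_one', Subgroup.coe_one, map_one]

end Cfsg.Agent.PSUMult
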