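import Cfsg.Agent.PSUMult.Lifts

/-!
The canonical lifts of the diagonal elements of the planes of an orthonormal frame commute and satisfy the
cocycle relation; the monomial elements lift into the group generated by the transvection lifts.
-/

set_option autoImplicit false
set_option linter.unusedSectionVars false

namespace Cfsg.Agent.PSUMult

open Module Cfsg.Agent.Classical Cfsg.Agent.Classical.Herm

variable {F V : Type*} [Field F] [Finite F] [AddCommGroup V] [Module F V] [FiniteDimensional F V]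
  {σ : F →+* F} {B : V →ₛₗ[σ] V →ₗ[F] F} {Γ : Type*} [Group Γ] [Finite Γ]

namespace Ext

variable {E : Ext B Γ} {p r : ℕ} {n : ℕ}

/-- The plane of two members of the frame. -/
def Pl (a : Fin n → V) (i j : Fin n) : Submodule F V := Submodule.span F {a i, a j}

theorem Pl_comm (a : Fin n → V) (i j : Fin n) : Pl a i j = Pl (F := F) a j i := by
  rw [Pl, Pl, Set.pair_comm]

theorem Pl_le (a : Fin n → V) (i j : Fin n) : Pl a i j ≤ Submodule.span F (Set.range a) :=
  Submodule.span_mono (by rintro _ (rfl | rfl) <;> exact ⟨_, rfl⟩)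

theorem span_pair_eq (a : Fin n → V) (i j : Fin n) :
    Submodule.span F (Set.range ![a i, a j]) = Pl (F := F) a i j := by
  rw [Pl, Matrix.range_cons_cons_empty]

/-- The scalars of norm one. -/
abbrev N1 (σ : F →+* F) : Subgroup Fˣ := (normHom σ).ker

theorem N1_mul (x : N1 σ) : ((x : Fˣ) : F) * σ ((x : Fˣ) : F) = 1 :=
  congrArg Units.val (x.2 : normHom σ x.1 = 1)

variable (hC : Coprime E p r) {a : Fin n → V} (ha : IsON B a)
include hC ha

theorem isON_pair {i j : Fin n} (hij : i ≠ j) : IsON B ![a i, a j] := by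
  intro s t
  fin_cases s <;> fin_cases t <;> simp [ha _ _, hij, hij.symm]

theorem act_pair {g : Γ} {i j : Fin n} (hij : i ≠ j) (hg : g ∈ E.G0 p (Pl a i j)) {k : Fin n}
    (hi : k ≠ i) (hj : k ≠ j) : E.act g (a k) = a k := by
  refine G0_fix hg fun w hw => ?_
  obtain ⟨u, v, rfl⟩ := Submodule.mem_span_pair.1 hw
  simp [ha _ _, hi.symm, hj.symm]

theorem pair_fix {g : Γ} {i j : Fin n} (hij : i ≠ j) (hg : g ∈ E.G0 p (Pl a i j)) :
    E.π g ∈ fixG B ![a i, a j] :=
  G0_mem_fixG (p := p) (by rwa [span_pair_eq])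

theorem pair_ext {g g' : Γ} {i j : Fin n} (hij : i ≠ j) (hI : ∀ g ∈ E.G0 p (Pl a i j), E.π g = 1 → g = 1)
    (hg : g ∈ E.G0 p (Pl a i j)) (hg' : g' ∈ E.G0 p (Pl a i j)) (hi : E.act g (a i) = E.act g' (a i))
    (hj : E.act g (a j) = E.act g' (a j)) : g = g' := by
  refine G0_eq_of_fix hC hg hg' hI (E.π_ext fun x => ?_)
  have hpr := isON_pair hC ha hij
  have hx : crd B ![a i, a j] (x - emb ![a i, a j] (crd B ![a i, a j] x)) = 0 := crd_rest E.herm hpr x
  have f1 := pair_fix hC ha hij hg _ hx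
  have f2 := pair_fix hC ha hij hg' _ hx
  have he : ∀ h : Γ, E.act h (emb ![a i, a j] (crd B ![a i, a j] x)) =
      crd B ![a i, a j] x 0 • E.act h (a i) + crd B ![a i, a j] x 1 • E.act h (a j) := fun h => by
    simp [emb_apply, Fin.sum_univ_two]
  rw [← sub_add_cancel x (emb ![a i, a j] (crd B ![a i, a j] x)), map_add, map_add, he, he, hi, hj]
  congr 1
  exact f1.trans f2.symm

theorem exists_h {i j : Fin n} (hij : i ≠ j) (x : N1 σ) : ∃ g ∈ E.G0 p (Pl a i j),
    E.act g (a i) = ((x : Fˣ) : F) • a i ∧ E.act g (a j) = ((x : Fˣ) : F)⁻¹ • a j := by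
  obtain ⟨t, ht, -, h0, h1⟩ := exists_plane_diag E.herm (isON_pair hC ha hij) (isON_pair hC ha hij) (N1_mul x)
  rw [span_pair_eq] at ht
  obtain ⟨g, hg, he⟩ := exists_G0_of_TUon hC ht
  exact ⟨g, hg, by rw [he]; simpa using h0, by rw [he]; simpa using h1⟩

open scoped _root_.Classical in
/-- The canonical lift of the diagonal element of a plane of the frame. -/
noncomputable def hh (i j : Fin n) (x : N1 σ) : Γ :=
  if hij : i ≠ j then (exists_h hC ha hij x).choose else 1

theorem hh_mem {i j : Fin n} (hij : i ≠ j) (x : N1 σ) : hh hC ha i j x ∈ E.G0 p (Pl a i j) := by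
  rw [hh, dif_pos hij]; exact (exists_h hC ha hij x).choose_spec.1

theorem hh_mem_span (i j : Fin n) (x : N1 σ) :
    hh hC ha i j x ∈ E.G0 p (Submodule.span F (Set.range a)) := by
  by_cases hij : i = j
  · rw [hh, dif_neg (not_not.2 hij)]; exact one_mem _
  · exact G0_mono (Pl_le a i j) (hh_mem hC ha hij x)

theorem hh_act {i j : Fin n} (hij : i ≠ j) (x : N1 σ) (k : Fin n) : E.act (hh hC ha i j x) (a k) =
    (if k = i then ((x : Fˣ) : F) else if k = j then ((x : Fˣ) : F)⁻¹ else 1) • a k := by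
  have hm := hh_mem hC ha hij x
  have hs : E.act (hh hC ha i j x) (a i) = ((x : Fˣ) : F) • a i ∧
      E.act (hh hC ha i j x) (a j) = ((x : Fˣ) : F)⁻¹ • a j := by
    rw [hh, dif_pos hij]; exact (exists_h hC ha hij x).choose_spec.2
  split_ifs with h1 h2
  · rw [h1]; exact hs.1
  · rw [h2]; exact hs.2
  · rw [act_pair hC ha hij hm h1 h2, one_smul]

theorem hh_diag (i j : Fin n) (x : N1 σ) (k : Fin n) : ∃ c : F, E.act (hh hC ha i j x) (a k) = c • a k := by
  by_cases hij : i = j
  · exact ⟨1, by rw [hh, dif_neg (not_not.2 hij), act_one, one_smul]⟩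
  · exact ⟨_, hh_act hC ha hij x k⟩

variable (hI : ∀ i j, i ≠ j → ∀ g ∈ E.G0 p (Pl a i j), E.π g = 1 → g = 1)
include hI

theorem hh_eq {i j : Fin n} (hij : i ≠ j) {x : N1 σ} {g : Γ} (hg : g ∈ E.G0 p (Pl a i j))
    (hi : E.act g (a i) = ((x : Fˣ) : F) • a i) (hj : E.act g (a j) = ((x : Fˣ) : F)⁻¹ • a j) :
    hh hC ha i j x = g :=
  pair_ext hC ha hij (hI i j hij) (hh_mem hC ha hij x) hg
    (by rw [hh_act hC ha hij, if_pos rfl, hi]) (by rw [hh_act hC ha hij, if_neg hij.symm, if_pos rfl, hj])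

theorem hh_mul (i j : Fin n) (x y : N1 σ) : hh hC ha i j (x * y) = hh hC ha i j x * hh hC ha i j y := by
  by_cases hij : i = j
  · simp [hh, hij]
  refine hh_eq hC ha hI hij (mul_mem (hh_mem hC ha hij x) (hh_mem hC ha hij y)) ?_ ?_
  · rw [act_mul, hh_act hC ha hij, if_pos rfl, map_smul, hh_act hC ha hij, if_pos rfl, smul_smul]
    simp [mul_comm]
  · rw [act_mul, hh_act hC ha hij, if_neg (Ne.symm hij), if_pos rfl, map_smul, hh_act hC ha hij,
      if_neg (Ne.symm hij), if_pos rfl, smul_smul]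
    simp [mul_comm]

theorem hh_one (i j : Fin n) : hh hC ha i j 1 = 1 := by
  have := hh_mul hC ha hI i j 1 1
  rw [one_mul] at this
  exact mul_eq_left.1 this.symm

theorem hh_swap (i j : Fin n) (x : N1 σ) : hh hC ha j i x = (hh hC ha i j x)⁻¹ := by
  by_cases hij : i = j
  · simp [hh, hij]
  rw [eq_inv_iff_mul_eq_one]
  have e : hh hC ha j i x = hh hC ha i j x⁻¹ := by
    refine hh_eq hC ha hI (Ne.symm hij) (by rw [Pl_comm]; exact hh_mem hC ha hij _) ?_ ?_
    · rw [hh_act hC ha hij, if_neg (Ne.symm hij), if_pos rfl]; simp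
    · rw [hh_act hC ha hij, if_pos rfl]; simp
  rw [e, ← hh_mul hC ha hI, inv_mul_cancel, hh_one hC ha hI]

/-- Monomial elements permute the canonical lifts. -/
theorem hh_conj {g : Γ} {π' : Fin n ≃ Fin n} (hg : ∀ k, ∃ c : F, E.act g (a k) = c • a (π' k))
    (i j : Fin n) (x : N1 σ) : g * hh hC ha i j x * g⁻¹ = hh hC ha (π' i) (π' j) x := by
  by_cases hij : i = j
  · simp [hh, hij]
  have hij' : π' i ≠ π' j := fun e => hij (π'.injective e)
  symm
  refine hh_eq hC ha hI hij' (G0_conj_of_maps (fun v hv => ?_) (hh_mem hC ha hij x)) ?_ ?_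
  · obtain ⟨u, w, rfl⟩ := Submodule.mem_span_pair.1 hv
    obtain ⟨c, hc⟩ := hg i
    obtain ⟨d, hd⟩ := hg j
    rw [map_add, map_smul, map_smul, hc, hd, smul_smul, smul_smul]
    exact Submodule.mem_span_pair.2 ⟨_, _, rfl⟩
  all_goals
    first
    | (obtain ⟨c, hc⟩ := hg i
       have hc0 : c ≠ 0 := fun h0 => by
         have h1 := E.act_iso g (a i) (a i)
         rw [hc, h0, zero_smul] at h1
         simp [ha _ _] at h1
       rw [show a (π' i) = c⁻¹ • E.act g (a i) by rw [hc, inv_smul_smul₀ hc0], map_smul, act_mul, act_mul,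
         act_inv_act, hh_act hC ha hij, if_pos rfl, map_smul, smul_comm])
    | (obtain ⟨c, hc⟩ := hg j
       have hc0 : c ≠ 0 := fun h0 => by
         have h1 := E.act_iso g (a j) (a j)
         rw [hc, h0, zero_smul] at h1
         simp [ha _ _] at h1
       rw [show a (π' j) = c⁻¹ • E.act g (a j) by rw [hc, inv_smul_smul₀ hc0], map_smul, act_mul, act_mul,
         act_inv_act, hh_act hC ha hij, if_neg (Ne.symm hij), if_pos rfl, map_smul, smul_comm])

theorem hh_comm (i j k l : Fin n) (x y : N1 σ) : Commute (hh hC ha i j x) (hh hC ha k l y) := by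
  have := hh_conj hC ha hI (π' := Equiv.refl _) (hh_diag hC ha i j x) k l y
  rw [Equiv.refl_apply, Equiv.refl_apply, mul_inv_eq_iff_eq_mul] at this
  exact this

theorem exists_swap {i j : Fin n} (hij : i ≠ j) :
    ∃ w ∈ E.G0 p (Pl a i j), ∀ k, ∃ c : F, E.act w (a k) = c • a (Equiv.swap i j k) := by
  obtain ⟨t, ht, -, h0, d, h1⟩ := exists_plane_swap E.herm (isON_pair hC ha hij) (isON_pair hC ha hij)
  rw [span_pair_eq] at ht
  obtain ⟨g, hg, he⟩ := exists_G0_of_TUon hC ht
  refine ⟨g, hg, fun k => ?_⟩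
  by_cases h1k : k = i
  · exact ⟨1, by rw [h1k, Equiv.swap_apply_left, one_smul, he]; simpa using h0⟩
  by_cases h2k : k = j
  · exact ⟨d, by rw [h2k, Equiv.swap_apply_right, he]; simpa using h1⟩
  exact ⟨1, by rw [Equiv.swap_apply_of_ne_of_ne h1k h2k, one_smul]; exact act_pair hC ha hij hg h1k h2k⟩

/-- Every monomial permutation lifts into the group of the transvection lifts. -/
theorem exists_perm (π' : Equiv.Perm (Fin n)) : ∃ w ∈ E.G0 p (Submodule.span F (Set.range a)),
    ∀ k, ∃ c : F, E.act w (a k) = c • a (π' k) := by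
  induction π' using Equiv.Perm.swap_induction_on with
  | one => exact ⟨1, one_mem _, fun k => ⟨1, by simp [act_one]⟩⟩
  | swap_mul f i j hij ih =>
    obtain ⟨w, hw, hwa⟩ := ih
    obtain ⟨s, hs, hsa⟩ := exists_swap hC ha hI hij
    refine ⟨s * w, mul_mem (G0_mono (Pl_le a i j) hs) hw, fun k => ?_⟩
    obtain ⟨c, hc⟩ := hwa k
    obtain ⟨d, hd⟩ := hsa (f k)
    exact ⟨c * d, by rw [act_mul, hc, map_smul, hd, smul_smul, Equiv.Perm.mul_apply]⟩

/-- The cocycle relation. -/
theorem hh_cocycle (i j l : Fin n) (x : N1 σ) :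
    hh hC ha i j x * hh hC ha j l x = hh hC ha i l x := by
  by_cases hij : i = j
  · simp [hh, hij]
  by_cases hjl : j = l
  · simp [hh, hjl]
  by_cases hil : i = l
  · subst hil
    rw [hh_swap hC ha hI i j, mul_inv_cancel]
    simp [hh]
  obtain ⟨w, hw, hwa⟩ := exists_swap hC ha hI hjl
  have e := hh_conj hC ha hI hwa i j x
  rw [Equiv.swap_apply_of_ne_of_ne hij hil, Equiv.swap_apply_left] at e
  set u := hh hC ha i j x * (hh hC ha i l x)⁻¹ with hu
  have humem : u ∈ E.G0 p (Pl a j l) := by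
    have hmaps : ∀ v ∈ Pl (F := F) a j l, E.act (hh hC ha i j x) v ∈ Pl (F := F) a j l := fun v hv => by
      obtain ⟨s, t, rfl⟩ := Submodule.mem_span_pair.1 hv
      obtain ⟨c, hc⟩ := hh_diag hC ha i j x j
      obtain ⟨d, hd⟩ := hh_diag hC ha i j x l
      rw [map_add, map_smul, map_smul, hc, hd, smul_smul, smul_smul]
      exact Submodule.mem_span_pair.2 ⟨_, _, rfl⟩
    have h1 := mul_mem (G0_conj_of_maps hmaps hw) (inv_mem hw)
    convert h1 using 1
    rw [hu, ← e]
    group
  have h2 : hh hC ha l j x = u := by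
    have e1 : ∀ k, E.act (hh hC ha i l x)⁻¹ (a k) =
        (if k = i then ((x : Fˣ) : F)⁻¹ else if k = l then ((x : Fˣ) : F) else 1) • a k := fun k => by
      rw [← hh_swap hC ha hI, hh_act hC ha (Ne.symm hil)]
      split_ifs with a1 a2 <;> simp_all
    refine hh_eq hC ha hI (Ne.symm hjl) (by rw [Pl_comm]; exact humem) ?_ ?_
    · rw [hu, act_mul, e1, if_neg (Ne.symm hil), if_pos rfl, map_smul, hh_act hC ha hij, if_neg (Ne.symm hil),
        if_neg (Ne.symm hjl), one_smul]
    · rw [hu, act_mul, e1, if_neg (Ne.symm hij), if_neg hjl, one_smul, hh_act hC ha hij,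
        if_neg (Ne.symm hij), if_pos rfl]
  rw [hh_swap hC ha hI j l, hu] at h2
  have h3 := congrArg (fun g => (g : Γ)⁻¹) h2
  simp only [inv_inv, _root_.mul_inv_rev] at h3
  rw [h3, ← mul_assoc, (hh_comm hC ha hI i j i l x x).eq, mul_inv_cancel_right]

end Ext

end Cfsg.Agent.PSUMult
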