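import Cfsg.Agent.Classical.HermForm

/-!
Alternating biadditive pairings on the coordinate space of a unitary space which are invariant under the
diagonal torus only depend on the commutator form.
-/

set_option autoImplicit false
set_option linter.unusedSectionVars false

namespace Cfsg.Agent.PSUMult

open Cfsg.Agent.Classical

variable {F A : Type*} [Field F] [Fintype F] [AddCommGroup A] {σ : F →+* F} {q : ℕ}

/-- A subring containing an element of order more than `q` is everything. -/
theorem subring_eq_top (hF : Fintype.card F = q ^ 2) (K : Subring F) {α : F} (hα : α ∈ K)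
    (ho : q < orderOf α) : K = ⊤ := by
  classical
  have hinv : ∀ x : F, x ∈ K → x⁻¹ ∈ K := fun x hx => by
    rcases eq_or_ne x 0 with rfl | h0
    · simpa using hx
    have h1 := FiniteField.pow_card_sub_one_eq_one x h0
    rw [show x⁻¹ = x ^ (Fintype.card F - 1 - 1) from inv_eq_of_mul_eq_one_right (by
      rw [← pow_succ', Nat.sub_add_cancel (by have := Fintype.one_lt_card (α := F); omega), h1])]
    exact pow_mem hx _
  rw [eq_top_iff]
  intro y _
  by_contra hy
  have hinj : Function.Injective (fun z : K × K => (z.1 : F) + z.2 * y) := by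
    rintro ⟨a, b⟩ ⟨a', b'⟩ he
    simp only at he
    by_cases hb : (b : F) = b'
    · rw [hb] at he
      exact Prod.ext (Subtype.ext (add_right_cancel he)) (Subtype.ext hb)
    · refine absurd ?_ hy
      have hne : (b : F) - b' ≠ 0 := sub_ne_zero.2 hb
      rw [show y = ((a' : F) - a) * ((b : F) - b')⁻¹ by field_simp; linear_combination he]
      exact K.mul_mem (K.sub_mem a'.2 a.2) (hinv _ (K.sub_mem b.2 b'.2))
  have h1 : Nat.card K ^ 2 ≤ q ^ 2 := by
    rw [sq, ← Nat.card_prod, ← hF, ← Nat.card_eq_fintype_card]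
    exact Nat.card_le_card_of_injective _ hinj
  have h2 : orderOf α ≤ Nat.card K := by
    have h3 := Nat.card_le_card_of_injective
      (fun i : Fin (orderOf α) => (⟨α ^ i.1, pow_mem hα _⟩ : K)) (fun i j he =>
        Fin.ext (pow_injOn_Iio_orderOf i.2 j.2 (congrArg Subtype.val he)))
    rwa [Nat.card_fin] at h3
  have := (Nat.pow_le_pow_iff_left (by norm_num : 2 ≠ 0)).1 h1
  omega

theorem hom_ext_of_order (hF : Fintype.card F = q ^ 2) {φ ψ : F →+* F} {α : F} (h : φ α = ψ α)
    (ho : q < orderOf α) : φ = ψ := by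
  have := subring_eq_top hF (RingHom.eqLocus φ ψ) h ho
  exact RingHom.ext fun x => (show x ∈ RingHom.eqLocus φ ψ from this ▸ Subring.mem_top x)

/-- A biadditive map balanced at an element of order more than `q` is balanced by a field endomorphism. -/
theorem balanced (hF : Fintype.card F = q ^ 2) (G : F →+ F →+ A) {α β : F} (hβ : β ≠ 0)
    (ho : q < orderOf α) (h : ∀ x y, G (α * x) (β * y) = G x y) :
    G = 0 ∨ ∃ φ : F →+* F, φ α = β⁻¹ ∧ ∀ x y, G x y = G 1 (φ x * y) := by
  classical
  let S : Subring (F × F) :=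
    { carrier := {z | ∀ x y, G (z.1 * x) y = G x (z.2 * y)}
      mul_mem' := fun {a b} ha hb x y => by
        simp only [Prod.fst_mul, Prod.snd_mul]
        rw [mul_assoc, ha, hb, mul_assoc, mul_left_comm]
      one_mem' := fun x y => by simp
      add_mem' := fun {a b} ha hb x y => by
        simp only [Prod.fst_add, Prod.snd_add, add_mul, map_add, AddMonoidHom.add_apply, ha x y, hb x y]
      zero_mem' := fun x y => by simp
      neg_mem' := fun {a} ha x y => by
        simp only [Prod.fst_neg, Prod.snd_neg, neg_mul, map_neg, AddMonoidHom.neg_apply, ha x y] }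
  by_cases h0 : ∃ δ, δ ≠ 0 ∧ ((0 : F), δ) ∈ S
  · obtain ⟨δ, hδ, hm⟩ := h0
    left
    ext x y
    have := hm x (δ⁻¹ * y)
    simp [mul_inv_cancel_left₀ hδ] at this
    simp [← this]
  push Not at h0
  right
  have hαS : (α, β⁻¹) ∈ S := fun x y => by
    have := h x (β⁻¹ * y)
    rwa [mul_inv_cancel_left₀ hβ] at this
  have htop := subring_eq_top hF (S.map (RingHom.fst F F)) ⟨(α, β⁻¹), hαS, rfl⟩ ho
  have hex : ∀ γ : F, ∃ δ, (γ, δ) ∈ S := fun γ => by
    obtain ⟨⟨γ', δ⟩, hz, rfl⟩ : γ ∈ S.map (RingHom.fst F F) := htop ▸ Subring.mem_top γ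
    exact ⟨δ, hz⟩
  choose φ hφ using hex
  have huniq : ∀ γ δ, (γ, δ) ∈ S → δ = φ γ := fun γ δ hd => by
    by_contra hne
    refine h0 (δ - φ γ) (sub_ne_zero.2 hne) ?_
    simpa using S.sub_mem hd (hφ γ)
  let φ' : F →+* F :=
    { toFun := φ
      map_one' := (huniq 1 1 S.one_mem).symm
      map_mul' := fun a b => (huniq _ _ (S.mul_mem (hφ a) (hφ b))).symm
      map_zero' := (huniq 0 0 S.zero_mem).symm
      map_add' := fun a b => (huniq _ _ (S.add_mem (hφ a) (hφ b))).symm }
  refine ⟨φ', (huniq _ _ hαS).symm, fun x y => ?_⟩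
  have h1 : G (x * 1) y = G 1 (φ x * y) := hφ x 1 y
  rwa [mul_one] at h1

/-- Invariant alternating pairings. -/
structure TorusPairing (σ : F →+* F) (q : ℕ) {m : ℕ} (g : (Fin m → F) →+ (Fin m → F) →+ A) : Prop where
  invol : Herm.IsInvol σ
  pow : ∀ x, σ x = x ^ q
  two_le : 2 ≤ q
  card : Fintype.card F = q ^ 2
  alt : ∀ a, g a a = 0
  inv : ∀ (l : F) (η : Fin m → F), l ≠ 0 → (∀ i, η i * σ (η i) = 1) → (∏ i, η i = σ l / l) → ∀ a b,
    g (fun i => σ l * η i * a i) (fun i => σ l * η i * b i) = g a b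
  perm : q = 2 → ∀ i j l : Fin m, i ≠ j → j ≠ l → i ≠ l → ∀ a b,
    g (a ∘ ⇑(Equiv.swap i j * Equiv.swap j l : Equiv.Perm (Fin m))) (b ∘ ⇑(Equiv.swap i j * Equiv.swap j l : Equiv.Perm (Fin m))) = g a b

namespace TorusPairing

variable {m : ℕ}

/-- The components. -/
def comp (g : (Fin m → F) →+ (Fin m → F) →+ A) (i j : Fin m) : F →+ F →+ A :=
  AddMonoidHom.mk' (fun x => (g (Pi.single i x)).comp (AddMonoidHom.single (fun _ => F) j)) fun x y => by
    ext z; simp [Pi.single_add]

theorem comp_apply (g : (Fin m → F) →+ (Fin m → F) →+ A) (i j : Fin m) (x y : F) : comp g i j x y = g (Pi.single i x) (Pi.single j y) := rfl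

variable {g : (Fin m → F) →+ (Fin m → F) →+ A} (hg : TorusPairing σ q g)
include hg

theorem sum_comp (a b : Fin m → F) : g a b = ∑ i, ∑ j, comp g i j (a i) (b j) := by
  conv_lhs => rw [← Finset.univ_sum_single a, ← Finset.univ_sum_single b]
  simp only [map_sum, AddMonoidHom.coe_finsetSum, Finset.sum_apply, comp_apply]
  exact Finset.sum_comm

theorem comp_inv {l : F} {η : Fin m → F} (hl : l ≠ 0) (hη : ∀ i, η i * σ (η i) = 1)
    (hp : ∏ i, η i = σ l / l) (i j : Fin m) (x y : F) :
    comp g i j (σ l * η i * x) (σ l * η j * y) = comp g i j x y := by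
  have := hg.inv l η hl hη hp (Pi.single i x) (Pi.single j y)
  rw [comp_apply, comp_apply, ← this]
  congr 2
  · funext t; rcases eq_or_ne t i with rfl | h <;> simp [*]
  · funext t; rcases eq_or_ne t j with rfl | h <;> simp [*]

theorem exists_gen : ∃ lam : F, lam ≠ 0 ∧ orderOf lam = q ^ 2 - 1 := by
  obtain ⟨u, hu⟩ := IsCyclic.exists_generator (α := Fˣ)
  refine ⟨u, u.ne_zero, ?_⟩
  rw [orderOf_units, orderOf_eq_card_of_forall_mem_zpowers hu, Nat.card_units, Nat.card_eq_fintype_card, hg.card]

theorem exists_xi : ∃ ξ : F, ξ * σ ξ = 1 ∧ ξ ≠ 0 ∧ orderOf ξ = q + 1 := by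
  obtain ⟨lam, h0, hlam⟩ := hg.exists_gen
  have h2 := hg.two_le
  have hq : q ^ 2 - 1 = (q - 1) * (q + 1) := by
    rw [mul_comm, ← Nat.sq_sub_sq, one_pow]
  refine ⟨lam ^ (q - 1), ?_, pow_ne_zero _ h0, ?_⟩
  · rw [hg.pow, ← pow_succ', ← pow_mul, ← hq, ← hlam, pow_orderOf_eq_one]
  · rw [orderOf_pow_of_dvd (by omega) (by rw [hlam, hq]; exact dvd_mul_right _ _), hlam, hq,
      Nat.mul_div_cancel_left _ (by omega)]

theorem sigma_xi {ξ : F} (hξ : ξ * σ ξ = 1) : σ ξ = ξ⁻¹ := (eq_inv_of_mul_eq_one_right hξ)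

theorem off_diag (hm : 3 ≤ m ∨ (2 ≤ m ∧ 4 ≤ q)) {i j : Fin m} (hij : i ≠ j) : comp g i j = 0 := by
  classical
  obtain ⟨ξ, hξ, hξ0, hξo⟩ := hg.exists_xi
  have hσξ := hg.sigma_xi hξ
  have hN' : ξ⁻¹ * σ ξ⁻¹ = 1 := by rw [map_inv₀, hσξ, inv_inv, inv_mul_cancel₀ hξ0]
  by_cases h3 : ∃ l, l ≠ i ∧ l ≠ j
  · obtain ⟨l, hli, hlj⟩ := h3
    let η : Fin m → F := fun t => if t = j then ξ else if t = l then ξ⁻¹ else 1
    have hp : ∏ t, η t = σ (1 : F) / 1 := by
      rw [map_one, div_one, Finset.prod_eq_mul j l (Ne.symm hlj) (fun t _ ht => by simp [η, ht.1, ht.2])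
        (by simp) (by simp)]
      simp [η, hlj, hξ0]
    have hη : ∀ t, η t * σ (η t) = 1 := fun t => by
      simp only [η]; split_ifs <;> first | exact hξ | exact hN' | simp
    ext x y
    have := hg.comp_inv one_ne_zero hη hp i j x ((ξ - 1)⁻¹ * y)
    simp only [η, if_neg hij, if_neg (Ne.symm hli), if_true, map_one, one_mul] at this
    rw [← sub_eq_zero, ← map_sub, ← sub_one_mul, mul_inv_cancel_left₀] at this
    · simpa using this
    · rw [sub_ne_zero]
      intro h1
      rw [h1, orderOf_one] at hξo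
      have := hg.two_le
      omega
  push Not at h3
  have hm2 : m = 2 := by
    rcases hm with hm | hm
    · exfalso
      have : (Finset.univ : Finset (Fin m)) ⊆ {i, j} := fun t _ => by
        by_cases ht : t = i
        · simp [ht]
        · simp [h3 t ht]
      have := Finset.card_le_card this
      rw [Finset.card_univ, Fintype.card_fin, Finset.card_pair hij] at this
      omega
    · by_contra hne
      have : (Finset.univ : Finset (Fin m)) ⊆ {i, j} := fun t _ => by
        by_cases ht : t = i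
        · simp [ht]
        · simp [h3 t ht]
      have := Finset.card_le_card this
      rw [Finset.card_univ, Fintype.card_fin, Finset.card_pair hij] at this
      omega
  have hq4 : 4 ≤ q := by omega
  have hprod : ∀ η : Fin m → F, ∏ t, η t = η i * η j := fun η =>
    Finset.prod_eq_mul i j hij (fun t _ ht => absurd (h3 t ht.1) ht.2) (by simp) (by simp)
  let η : Fin m → F := fun t => if t = i then ξ else ξ⁻¹
  have hη : ∀ t, η t * σ (η t) = 1 := fun t => by simp only [η]; split_ifs <;> first | exact hξ | exact hN' | simp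
  have h1 : ∀ x y, comp g i j (ξ * x) (ξ⁻¹ * y) = comp g i j x y := fun x y => by
    have := hg.comp_inv one_ne_zero hη (by simp [hprod, η, hij.symm, hξ0]) i j x y
    simpa [η, hij.symm] using this
  rcases balanced hg.card (comp g i j) (inv_ne_zero hξ0) (by omega) h1 with h0 | ⟨φ, hφ, hbal⟩
  · exact h0
  rw [inv_inv] at hφ
  have hφid : φ = RingHom.id F := hom_ext_of_order hg.card (by rw [hφ]; rfl) (by omega)
  obtain ⟨lam, hl0, hlo⟩ := hg.exists_gen
  have hσl : σ lam ≠ 0 := (map_ne_zero σ).2 hl0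
  let η' : Fin m → F := fun t => if t = i then 1 else σ lam / lam
  have hη' : ∀ t, η' t * σ (η' t) = 1 := fun t => by
    simp only [η']; split_ifs
    · simp
    · rw [map_div₀, hg.invol.invol]; field_simp
  have h2 : ∀ y, comp g i j 1 (σ lam * (σ lam * (σ lam / lam)) * y) = comp g i j 1 y := fun y => by
    have := hg.comp_inv hl0 hη' (by simp [hprod, η', hij.symm]) i j 1 y
    simp only [η', if_true, if_neg hij.symm, mul_one] at this
    rw [hbal, hφid, RingHom.id_apply] at this
    rwa [mul_assoc]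
  have hne : σ lam * (σ lam * (σ lam / lam)) - 1 ≠ 0 := by
    rw [sub_ne_zero, mul_div_assoc', mul_div_assoc', ne_eq, div_eq_one_iff_eq hl0, hg.pow]
    intro he
    have h3q : lam ^ (3 * q - 1) = 1 := mul_right_cancel₀ hl0 (by
      rw [one_mul, ← pow_succ, Nat.sub_add_cancel (by omega)]; conv_rhs => rw [← he]
      ring)
    have h7 := Nat.le_of_dvd (by omega) (orderOf_dvd_of_pow_eq_one h3q)
    rw [hlo] at h7
    have : 4 * q ≤ q ^ 2 := by nlinarith
    omega
  ext x y
  rw [hbal]
  set c := σ lam * (σ lam * (σ lam / lam))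
  have h4 := h2 ((c - 1)⁻¹ * (φ x * y))
  rw [← sub_eq_zero, ← map_sub, ← sub_one_mul, mul_inv_cancel_left₀ hne] at h4
  simpa using h4

theorem diag (hm : 2 ≤ m) (i : Fin m) :
    ∀ x y, comp g i i x y = comp g i i 1 (σ x * y) := by
  classical
  obtain ⟨ξ, hξ, hξ0, hξo⟩ := hg.exists_xi
  have hσξ := hg.sigma_xi hξ
  have hN' : ξ⁻¹ * σ ξ⁻¹ = 1 := by rw [map_inv₀, hσξ, inv_inv, inv_mul_cancel₀ hξ0]
  obtain ⟨j, hji⟩ := Fintype.exists_ne_of_one_lt_card (by simpa using (show 1 < m by omega)) i
  let η : Fin m → F := fun t => if t = i then ξ else if t = j then ξ⁻¹ else 1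
  have hη : ∀ t, η t * σ (η t) = 1 := fun t => by simp only [η]; split_ifs <;> first | exact hξ | exact hN' | simp
  have hp : ∏ t, η t = σ (1 : F) / 1 := by
    rw [map_one, div_one, Finset.prod_eq_mul i j (Ne.symm hji) (fun t _ ht => by simp [η, ht.1, ht.2])
      (by simp) (by simp)]
    simp [η, hji, hξ0]
  have h1 : ∀ x y, comp g i i (ξ * x) (ξ * y) = comp g i i x y := fun x y => by
    have := hg.comp_inv one_ne_zero hη hp i i x y
    simpa [η] using this
  rcases balanced hg.card (comp g i i) hξ0 (by omega) h1 with h0 | ⟨φ, hφ, hbal⟩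
  · intro x y; simp [h0]
  have hφσ : φ = σ := hom_ext_of_order hg.card (hφ.trans hσξ.symm) (by omega)
  subst hφσ
  exact hbal

theorem diag_zero (hm : 2 ≤ m) (hq : 3 ≤ q) (i : Fin m) : comp g i i = 0 := by
  classical
  obtain ⟨lam, hl0, hlo⟩ := hg.exists_gen
  have hσl : σ lam ≠ 0 := (map_ne_zero σ).2 hl0
  obtain ⟨j, hji⟩ := Fintype.exists_ne_of_one_lt_card (by simpa using (show 1 < m by omega)) i
  let η : Fin m → F := fun t => if t = j then σ lam / lam else 1
  have hη : ∀ t, η t * σ (η t) = 1 := fun t => by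
    simp only [η]; split_ifs
    · rw [map_div₀, hg.invol.invol]; field_simp
    · simp
  have hp : ∏ t, η t = σ lam / lam := by
    rw [Finset.prod_eq_single j (fun t _ ht => by simp [η, ht]) (by simp)]; simp [η]
  have h2 : ∀ y, comp g i i 1 (lam * σ lam * y) = comp g i i 1 y := fun y => by
    have := hg.comp_inv hl0 hη hp i i 1 y
    simp only [η, if_neg (Ne.symm hji), mul_one] at this
    rw [hg.diag hm i, hg.invol.invol, ← mul_assoc] at this
    exact this
  have hne : lam * σ lam - 1 ≠ 0 := by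
    rw [sub_ne_zero, hg.pow, ← pow_succ']
    intro he
    have h5 := Nat.le_of_dvd (by omega) (orderOf_dvd_of_pow_eq_one he)
    rw [hlo] at h5
    have : 3 * q ≤ q ^ 2 := by nlinarith
    omega
  ext x y
  rw [hg.diag hm i]
  have h4 := h2 ((lam * σ lam - 1)⁻¹ * (σ x * y))
  rw [← sub_eq_zero, ← map_sub, ← sub_one_mul, mul_inv_cancel_left₀ hne] at h4
  simpa using h4

theorem one_dim (hm : m = 1) (hq : 3 ≤ q) (i j : Fin m) : comp g i j = 0 := by
  classical
  subst hm
  obtain rfl : i = j := Subsingleton.elim _ _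
  obtain rfl : i = 0 := Subsingleton.elim _ _
  obtain ⟨lam, hl0, hlo⟩ := hg.exists_gen
  have hσl : σ lam ≠ 0 := (map_ne_zero σ).2 hl0
  let η : Fin 1 → F := fun _ => σ lam / lam
  have hη : ∀ t, η t * σ (η t) = 1 := fun t => by
    simp only [η]; rw [map_div₀, hg.invol.invol]; field_simp
  set μ := σ lam * (σ lam / lam) with hμ
  have h1 : ∀ x y, comp g 0 0 (μ * x) (μ * y) = comp g 0 0 x y :=
    hg.comp_inv hl0 hη (by simp [η]) 0 0
  have hμl : μ * lam = lam ^ (2 * q) := by
    rw [hμ, hg.pow]; field_simp; ring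
  have hμ0 : μ ≠ 0 := mul_ne_zero hσl (div_ne_zero hσl hl0)
  have hsq : q ^ 2 - 1 = (q - 1) * (q + 1) := by rw [mul_comm, ← Nat.sq_sub_sq, one_pow]
  have key : ∀ k, μ ^ k = 1 → (q - 1) * (q + 1) ∣ (2 * q - 1) * k := fun k hk => by
    have h2 : lam ^ ((2 * q - 1) * k) = 1 := by
      rw [pow_mul, show lam ^ (2 * q - 1) = μ from mul_right_cancel₀ hl0 (by
        rw [hμl, ← pow_succ, Nat.sub_add_cancel (by omega)]), hk]
    rw [← hsq, ← hlo]
    exact orderOf_dvd_of_pow_eq_one h2
  have hcop : ∀ k, q - 1 ∣ (2 * q - 1) * k → q - 1 ∣ k := fun k hk => by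
    have e : (2 * q - 1) * k = 2 * (q - 1) * k + k := by
      rw [show 2 * q - 1 = 2 * (q - 1) + 1 by omega]; ring
    rw [e] at hk
    exact (Nat.dvd_add_right (Dvd.dvd.mul_right (dvd_mul_left _ 2) k)).1 hk
  have ho : q < orderOf μ := by
    by_contra hle
    push Not at hle
    have hpos : 0 < orderOf μ := orderOf_pos_iff.2 (isOfFinOrder_iff_pow_eq_one.2 ⟨Fintype.card F - 1,
      by have := Fintype.one_lt_card (α := F); omega, FiniteField.pow_card_sub_one_eq_one μ hμ0⟩)
    have h2 := key _ (pow_orderOf_eq_one μ)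
    obtain ⟨c, hc⟩ := hcop _ ((dvd_mul_right _ _).trans h2)
    have hc1 : c = 1 := by
      have hc0 : c ≠ 0 := fun h => by rw [h] at hc; omega
      have : c < 2 := by
        by_contra h; push Not at h
        have : (q - 1) * 2 ≤ (q - 1) * c := Nat.mul_le_mul_left _ h
        omega
      omega
    rw [hc, hc1, mul_one, mul_comm (2 * q - 1), Nat.mul_dvd_mul_iff_left (by omega)] at h2
    obtain ⟨d, hd⟩ := h2
    have : d < 2 := by
      by_contra h; push Not at h
      have : (q + 1) * 2 ≤ (q + 1) * d := Nat.mul_le_mul_left _ h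
      omega
    interval_cases d <;> omega
  rcases balanced hg.card (comp g (0 : Fin 1) 0) hμ0 ho h1 with h0 | ⟨φ, hφ, -⟩
  · exact h0
  exfalso
  have hne2 : μ ^ 2 ≠ 1 := fun h => by
    have := orderOf_le_of_pow_eq_one (by norm_num) h
    omega
  have hμμ : μ⁻¹ ≠ μ := fun h => hne2 (by rw [sq]; nth_rw 1 [← h]; exact inv_mul_cancel₀ hμ0)
  have hφ2 : φ.comp φ = RingHom.id F := hom_ext_of_order hg.card (by
    rw [RingHom.comp_apply, hφ, map_inv₀, hφ, inv_inv]; rfl) ho
  have hinvol : Herm.IsInvol φ := ⟨fun h => hμμ (by rw [← hφ, h]; rfl), fun a => congrArg (fun ψ : F →+* F => ψ a) hφ2⟩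
  have hcardφ : Nat.card (Herm.fixField φ) = q := by
    have := Herm.card_eq_fix_sq hinvol
    rw [Nat.card_eq_fintype_card, hg.card] at this
    exact ((Nat.pow_left_injective (by norm_num : 2 ≠ 0)) this).symm
  have hsub : ∀ x : F, φ x = x → σ x = x := fun x hx => by
    let : Fintype (Herm.fixField φ) := Fintype.ofFinite _
    have h2 := congrArg Subtype.val (FiniteField.pow_card (⟨x, hx⟩ : Herm.fixField φ))
    rw [SubmonoidClass.coe_pow, ← Nat.card_eq_fintype_card, hcardφ, ← hg.pow] at h2
    exact h2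
  have htr : σ μ + σ μ⁻¹ = μ + μ⁻¹ := by
    rw [← map_add]
    exact hsub _ (by rw [map_add, map_inv₀, hφ, inv_inv, add_comm])
  have hroot : (σ μ - μ) * (σ μ - μ⁻¹) = 0 := by
    rw [map_inv₀] at htr
    have hσμ : σ μ ≠ 0 := (map_ne_zero σ).2 hμ0
    field_simp at htr ⊢
    linear_combination htr
  rcases mul_eq_zero.1 hroot with h | h
  · have heq : ∀ x : F, σ x = x → φ x = x := by
      let S : Finset F := Finset.univ.filter fun x => φ x = x
      let S' : Finset F := Finset.univ.filter fun x => σ x = x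
      have hc : ∀ ψ : F →+* F, Nat.card (Herm.fixField ψ) = (Finset.univ.filter fun x => ψ x = x).card := fun ψ => by
        rw [← Fintype.card_subtype]
        exact Nat.card_eq_fintype_card (α := {x : F // ψ x = x}) ▸ rfl
      have hσc : Nat.card (Herm.fixField σ) = q := by
        have := Herm.card_eq_fix_sq hg.invol
        rw [Nat.card_eq_fintype_card, hg.card] at this
        exact ((Nat.pow_left_injective (by norm_num : 2 ≠ 0)) this).symm
      have hSS : S = S' := Finset.eq_of_subset_of_card_le (fun x hx => by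
        simp only [S, S', Finset.mem_filter, Finset.mem_univ, true_and] at hx ⊢; exact hsub x hx)
        (by rw [← hc σ, ← hc φ, hσc, hcardφ])
      intro x hx
      have : x ∈ S := hSS ▸ (by simp [S', hx])
      simpa [S] using this
    exact hμμ (by rw [← hφ, heq μ (sub_eq_zero.1 h)])
  · rw [sub_eq_zero, hg.pow] at h
    have h2 := key (q + 1) (by rw [pow_succ, h, inv_mul_cancel₀ hμ0])
    rw [Nat.mul_dvd_mul_iff_right (by omega)] at h2
    have := Nat.le_of_dvd one_pos (hcop 1 (by rwa [mul_one]))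
    omega

theorem result (hm : m = 1 ∧ 3 ≤ q ∨ m = 2 ∧ 4 ≤ q ∨ 3 ≤ m) :
    ∃ ζ : F →+ A, ∀ a b, g a b = ζ (∑ i, (σ (b i) * a i - σ (a i) * b i)) := by
  classical
  have h3 := hg.two_le
  by_cases hq : 3 ≤ q
  · refine ⟨0, fun a b => ?_⟩
    rw [hg.sum_comp]
    refine Finset.sum_eq_zero fun i _ => Finset.sum_eq_zero fun j _ => ?_
    have hz : comp g i j = 0 := by
      rcases hm with ⟨hm1, -⟩ | ⟨hm2, hq4⟩ | hm3
      · exact hg.one_dim hm1 hq i j
      all_goals
        by_cases hij : i = j
        · subst hij; exact hg.diag_zero (by omega) hq i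
        · exact hg.off_diag (by omega) hij
    simp [hz]
  obtain rfl : q = 2 := by omega
  have hm3 : 3 ≤ m := by omega
  have hN : ∀ x : F, x ≠ 0 → σ x * x = 1 := fun x hx => by
    rw [hg.pow, ← pow_succ]
    have h4 := FiniteField.pow_card_sub_one_eq_one x hx
    rwa [hg.card] at h4
  have h20 : (2 : F) = 0 := by
    have h1 : (1 : F) + 1 = 0 := by
      by_contra hne
      have h2 := hg.pow (1 + 1)
      rw [map_add, map_one] at h2
      have : (1 : F) + 1 = 1 := mul_left_cancel₀ hne (by rw [← sq, ← h2, mul_one])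
      simp at this
    linear_combination h1
  obtain ⟨ω, hω⟩ := Herm.exists_moved hg.invol
  have hfix : ∀ z : F, σ z = z → z = 0 ∨ z = 1 := fun z hz => by
    rcases eq_or_ne z 0 with h | h
    · exact Or.inl h
    · have h2 := hg.pow z
      rw [hz, sq] at h2
      exact Or.inr (mul_left_cancel₀ h (by rw [mul_one]; exact h2.symm))
  let z : Fin m → F →+ A := fun i => comp g i i 1
  have hz1 : ∀ i, z i 1 = 0 := fun i => hg.alt _
  have hswap : ∀ i j, z i ω = z j ω := by
    intro i j
    rcases eq_or_ne i j with rfl | hij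
    · rfl
    obtain ⟨l, hli, hlj⟩ : ∃ l, l ≠ i ∧ l ≠ j := by
      by_contra hc
      push Not at hc
      have : (Finset.univ : Finset (Fin m)) ⊆ {i, j} := fun t _ => by
        by_cases ht : t = i
        · simp [ht]
        · simp [hc t ht]
      have := Finset.card_le_card this
      rw [Finset.card_univ, Fintype.card_fin, Finset.card_pair hij] at this
      omega
    have := hg.perm rfl i j l hij (Ne.symm hlj) (Ne.symm hli) (Pi.single j 1) (Pi.single j ω)
    have e : ∀ c : F, (Pi.single j c : Fin m → F) ∘ ⇑(Equiv.swap i j * Equiv.swap j l : Equiv.Perm (Fin m)) = Pi.single i c := by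
      intro c
      funext t
      have h1 : (Equiv.swap i j * Equiv.swap j l) i = j := by
        rw [Equiv.Perm.mul_apply, Equiv.swap_apply_of_ne_of_ne hij (Ne.symm hli), Equiv.swap_apply_left]
      by_cases ht : t = i
      · rw [Function.comp_apply, ht, h1]; simp
      · rw [Function.comp_apply, Pi.single_eq_of_ne, Pi.single_eq_of_ne ht]
        intro h2
        exact ht ((Equiv.injective _) (h2.trans h1.symm))
    rw [e, e] at this
    exact this
  let i0 : Fin m := ⟨0, by omega⟩
  have hkz : ∀ i x, z i x = if σ x = x then 0 else z i0 ω := by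
    intro i x
    split_ifs with hx
    · rcases hfix x hx with rfl | rfl
      · exact map_zero _
      · exact hz1 i
    · rw [← hswap i i0]
      have h5 : σ (x + ω) = x + ω := by
        have hd : ∀ y : F, σ y ≠ y → σ y = y + 1 := fun y hy => by
          rcases hfix (σ y + y) (by rw [map_add, hg.invol.invol, add_comm]) with h | h
          · exact absurd (by linear_combination h - y * h20) hy
          · linear_combination h - y * h20
        rw [map_add, hd x hx, hd ω hω]
        linear_combination h20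
      have : z i (x + ω) = 0 := by
        rcases hfix _ h5 with h | h <;> rw [h]
        · exact map_zero _
        · exact hz1 i
      rw [map_add] at this
      rw [eq_neg_of_add_eq_zero_left this]
      refine neg_eq_of_add_eq_zero_left ?_
      rw [← map_add]
      have : ω + ω = 0 := by linear_combination ω * h20
      rw [this, map_zero]
  obtain ⟨τ, hτ⟩ : ∃ τ : F →+ A, ∀ i x, z i x = τ (σ x - x) := by
    let v := z i0 ω
    refine ⟨AddMonoidHom.mk' (fun c => z i0 (c * ω)) fun a b => by rw [add_mul, map_add], fun i x => ?_⟩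
    show z i x = z i0 ((σ x - x) * ω)
    rw [hkz]
    split_ifs with hx
    · simp [hx]
    · have h1 : σ x - x = 1 := by
        rcases hfix (σ x - x) (by rw [map_sub, hg.invol.invol]; linear_combination (x - σ x) * h20) with h | h
        · exact absurd (sub_eq_zero.1 h) hx
        · exact h
      rw [h1, one_mul]
  refine ⟨τ, fun a b => ?_⟩
  rw [hg.sum_comp, map_sum]
  refine Finset.sum_congr rfl fun i _ => ?_
  rw [Finset.sum_eq_single i (fun j _ hji => by rw [hg.off_diag (Or.inl hm3) (Ne.symm hji)]; rfl) (by simp),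
    hg.diag (by omega) i, show comp g i i 1 (σ (a i) * b i) = z i (σ (a i) * b i) from rfl, hτ,
    map_mul, hg.invol.invol]
  congr 1
  ring

end TorusPairing

end Cfsg.Agent.PSUMult
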