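import Cfsg.Agent.PSUMult.Fix
import Cfsg.Agent.Classical.HermSimple

/-!
The unipotent radical of the stabiliser of an isotropic point, and the diagonal elements normalising it.
-/

set_option autoImplicit false
set_option linter.unusedSectionVars false

namespace Cfsg.Agent.PSUMult

open Module Cfsg.Agent.Classical Cfsg.Agent.Classical.Herm

variable {F V : Type*} [Field F] [Finite F] [AddCommGroup V] [Module F V] [FiniteDimensional F V]
  {σ : F →+* F} {B : V →ₛₗ[σ] V →ₗ[F] F}

/-- The parameters of an Eichler element. -/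
def Adm (B : V →ₛₗ[σ] V →ₗ[F] F) (e a : V) (d : F) : Prop :=
  B e e = 0 ∧ B a e = 0 ∧ d + σ d = -B a a

open scoped _root_.Classical in
/-- The Eichler element, as an element of the group. -/
noncomputable def qel (h : IsHerm B) (e a : V) (d : F) : suG B :=
  if c : Adm B e a d then ⟨eichler h c.1 c.2.1 d, eichler_mem h c.1 c.2.1 c.2.2⟩ else 1

/-- The orthogonal of a hyperbolic pair. -/
def Wsp (B : V →ₛₗ[σ] V →ₗ[F] F) (e f : V) : Submodule F V := LinearMap.ker (B e) ⊓ LinearMap.ker (B f)

theorem mem_Wsp {e f a : V} : a ∈ Wsp B e f ↔ B e a = 0 ∧ B f a = 0 := Iff.rfl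

variable (h : IsHerm B)
include h

theorem qel_apply {e a : V} {d : F} (c : Adm B e a d) (x : V) :
    (qel h e a d).1 x = x + B e x • a + (d * B e x - B a x) • e := by
  rw [qel, dif_pos c]; rfl

theorem Adm.add {e a a' : V} {d d' : F} (c : Adm B e a d) (c' : Adm B e a' d') :
    Adm B e (a + a') (d + d' - B a a') := by
  refine ⟨c.1, by simp [c.2.1, c'.2.1], ?_⟩
  simp [h.symm]
  linear_combination c.2.2 + c'.2.2

theorem qel_mul {e a a' : V} {d d' : F} (c : Adm B e a d) (c' : Adm B e a' d') :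
    qel h e a d * qel h e a' d' = qel h e (a + a') (d + d' - B a a') := by
  refine Subtype.ext (LinearEquiv.ext fun x => ?_)
  have hea' : B e a' = 0 := (eq_zero_comm h).1 c'.2.1
  rw [Subgroup.coe_mul, LinearEquiv.mul_apply, qel_apply h c, qel_apply h c', qel_apply h (c.add h c')]
  simp only [map_add, map_smul, LinearMap.add_apply, smul_eq_mul, c.1, c.2.1, hea', mul_zero, add_zero]
  match_scalars <;> ring

theorem qel_zero (e : V) : qel h e 0 0 = 1 := by
  by_cases c : Adm B e (0 : V) (0 : F)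
  · exact Subtype.ext (LinearEquiv.ext fun x => by rw [qel_apply h c]; simp)
  · rw [qel, dif_neg c]

theorem Adm.neg {e a : V} {d : F} (c : Adm B e a d) : Adm B e (-a) (σ d) := by
  refine ⟨c.1, by simp [c.2.1], ?_⟩
  simp [h.invol]
  linear_combination c.2.2

theorem qel_inv {e a : V} {d : F} (c : Adm B e a d) : (qel h e a d)⁻¹ = qel h e (-a) (σ d) := by
  refine inv_eq_of_mul_eq_one_right ?_
  rw [qel_mul h c (c.neg h), add_neg_cancel, map_neg, sub_neg_eq_add,
    show d + σ d + B a a = 0 by linear_combination c.2.2, qel_zero]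

theorem qel_comm {e a a' : V} {d d' : F} (c : Adm B e a d) (c' : Adm B e a' d') :
    qel h e a d * qel h e a' d' * (qel h e a d)⁻¹ * (qel h e a' d')⁻¹ =
      qel h e 0 (B a' a - B a a') := by
  have cs := c'.add h c
  rw [mul_assoc, ← _root_.mul_inv_rev, qel_mul h c c', qel_mul h c' c, qel_inv h cs,
    qel_mul h (c.add h c') (cs.neg h)]
  congr 1
  · abel
  · simp [h.symm]
    linear_combination c.2.2 + c'.2.2

theorem conj_qel {g : suG B} {e a : V} {d l : F} (hl : g.1 e = l • e) (hl0 : l ≠ 0) (c : Adm B e a d) :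
    g * qel h e a d * g⁻¹ = qel h e (σ l • g.1 a) (σ l * l * d) := by
  have hea : B (g.1 a) e = 0 := by
    have h0 := g.2.1 a e
    rw [hl, map_smul, c.2.1, smul_eq_mul] at h0
    exact (mul_eq_zero.1 h0).resolve_left hl0
  have c' : Adm B e (σ l • g.1 a) (σ l * l * d) := by
    refine ⟨c.1, by simp [hea], ?_⟩
    rw [smul_self h, g.2.1, map_mul, map_mul, h.invol]
    linear_combination (σ l * l) * c.2.2
  refine Subtype.ext (LinearEquiv.ext fun x => ?_)
  obtain ⟨y, rfl⟩ := g.1.surjective x
  rw [Subgroup.coe_mul, Subgroup.coe_mul, LinearEquiv.mul_apply, LinearEquiv.mul_apply, Subgroup.coe_inv,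
    inv_apply_self', qel_apply h c, qel_apply h c', map_add, map_add, map_smul, map_smul, hl]
  have h1 : σ l * B e (g.1 y) = B e y := by
    have h2 := g.2.1 e y
    rwa [hl, LinearMap.map_smulₛₗ₂, smul_eq_mul] at h2
  rw [LinearMap.map_smulₛₗ₂, h.invol, g.2.1, smul_eq_mul, ← h1]
  match_scalars <;> ring

omit h

/-- A hyperbolic pair with an orthonormal frame of its orthogonal. -/
structure Frame (B : V →ₛₗ[σ] V →ₗ[F] F) (e f : V) {m : ℕ} (u : Fin m → V) : Prop where
  ee : B e e = 0
  ff : B f f = 0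
  ef : B e f = 1
  on : Herm.IsON B u
  mem : ∀ i, u i ∈ Wsp B e f
  span : ∀ x ∈ Wsp B e f, x = ∑ i, B (u i) x • u i

section Frame

variable {e f : V}
include h

theorem adm_of_mem (hee : B e e = 0) {a : V} (ha : a ∈ Wsp B e f) {d : F} (hd : d + σ d = -B a a) :
    Adm B e a d := ⟨hee, (eq_zero_comm h).1 ha.1, hd⟩

theorem exists_d {a : V} : ∃ d : F, d + σ d = -B a a :=
  exists_trace h.toIsInvol (by rw [map_neg, fix_self h])

theorem fe (hef : B e f = 1) : B f e = 1 := by rw [← h.symm, hef, map_one]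

theorem proj_mem (hee : B e e = 0) (hff : B f f = 0) (hef : B e f = 1) (x : V) :
    x - B f x • e - B e x • f ∈ Wsp B e f := by
  simp [mem_Wsp, hee, hff, hef, fe h hef]

theorem qel_inj (hee : B e e = 0) (hef : B e f = 1) {a a' : V} {d d' : F} (ha : a ∈ Wsp B e f)
    (ha' : a' ∈ Wsp B e f) (hd : d + σ d = -B a a) (hd' : d' + σ d' = -B a' a')
    (he : qel h e a d = qel h e a' d') : a = a' ∧ d = d' := by
  have e1 := congrArg (fun g : suG B => g.1 f) he
  simp only [qel_apply h (adm_of_mem h hee ha hd), qel_apply h (adm_of_mem h hee ha' hd'), hef,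
    (eq_zero_comm h).1 ha.2, (eq_zero_comm h).1 ha'.2, one_smul, mul_one, sub_zero] at e1
  have e2 := congrArg (B f) e1
  simp [(mem_Wsp.1 ha).2, (mem_Wsp.1 ha').2, fe h hef] at e2
  subst e2
  exact ⟨add_left_cancel (add_right_cancel e1), rfl⟩

theorem stab_maps {g : suG B} {l k : F} (hge : g.1 e = l • e) (hgf : g.1 f = k • f) (hl : l ≠ 0) (hk : k ≠ 0)
    {a : V} (ha : a ∈ Wsp B e f) : g.1 a ∈ Wsp B e f := by
  constructor
  · have h1 := g.2.1 e a
    rw [hge, LinearMap.map_smulₛₗ₂, ha.1, smul_eq_mul] at h1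
    exact (mul_eq_zero.1 h1).resolve_left ((map_ne_zero σ).2 hl)
  · have h1 := g.2.1 f a
    rw [hgf, LinearMap.map_smulₛₗ₂, ha.2, smul_eq_mul] at h1
    exact (mul_eq_zero.1 h1).resolve_left ((map_ne_zero σ).2 hk)

variable {m : ℕ} {u : Fin m → V} (hu : Frame B e f u)
include hu

theorem Frame.decomp (x : V) : x = B f x • e + B e x • f + ∑ i, B (u i) x • u i := by
  have h1 := hu.span _ (proj_mem h hu.ee hu.ff hu.ef x)
  have h2 : ∀ i, B (u i) (x - B f x • e - B e x • f) = B (u i) x := fun i => by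
    simp [(eq_zero_comm h).1 (hu.mem i).1, (eq_zero_comm h).1 (hu.mem i).2]
  simp only [h2] at h1
  rw [← h1]
  abel

/-- The basis of a frame. -/
noncomputable def Frame.basis : Basis (Fin 2 ⊕ Fin m) F V := by
  refine Basis.mk (v := Sum.elim ![e, f] u) ?_ ?_
  · rw [Fintype.linearIndependent_iff]
    intro g hg i
    rw [Fintype.sum_sum_type, Fin.sum_univ_two] at hg
    simp only [Sum.elim_inl, Sum.elim_inr, Matrix.cons_val_zero, Matrix.cons_val_one] at hg
    have hfu : ∀ i, B f (u i) = 0 := fun i => (hu.mem i).2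
    have heu : ∀ i, B e (u i) = 0 := fun i => (hu.mem i).1
    have k0 := congrArg (B f) hg
    have k1 := congrArg (B e) hg
    simp [map_sum, hu.ff, hfu, fe h hu.ef] at k0
    simp [map_sum, hu.ee, heu, hu.ef] at k1
    rcases i with i | i
    · fin_cases i
      · exact k0
      · exact k1
    · have k := congrArg (B (u i)) hg
      simpa [map_sum, hu.on i, (eq_zero_comm h).1 (heu i), (eq_zero_comm h).1 (hfu i)] using k
  · intro x _
    rw [hu.decomp h x]
    refine Submodule.add_mem _ (Submodule.add_mem _ (Submodule.smul_mem _ _ ?_) (Submodule.smul_mem _ _ ?_))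
      (Submodule.sum_mem _ fun i _ => Submodule.smul_mem _ _ (Submodule.subset_span ⟨.inr i, rfl⟩))
    · exact Submodule.subset_span ⟨.inl 0, rfl⟩
    · exact Submodule.subset_span ⟨.inl 1, rfl⟩

theorem Frame.basis_apply (i : Fin 2 ⊕ Fin m) : hu.basis h i = Sum.elim ![e, f] u i := by
  rw [Frame.basis, Basis.mk_apply]

theorem Frame.finrank_eq : finrank F V = 2 + m := by
  rw [Module.finrank_eq_card_basis (hu.basis h)]; simp

theorem Frame.exists_tor {l : F} (hl : l ≠ 0) {η : Fin m → F} (hη : ∀ i, η i * σ (η i) = 1)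
    (hprod : ∏ i, η i = σ l / l) :
    ∃ t : suG B, t.1 e = l • e ∧ t.1 f = (σ l)⁻¹ • f ∧ ∀ i, t.1 (u i) = η i • u i := by
  classical
  have hσl : σ l ≠ 0 := (map_ne_zero σ).2 hl
  let c : Fin 2 ⊕ Fin m → F := Sum.elim ![l, (σ l)⁻¹] η
  have hc : ∀ i, IsUnit (c i) := by
    rintro (i | i)
    · refine isUnit_iff_ne_zero.2 ?_
      fin_cases i <;> simp [c, hl, hσl]
    · exact isUnit_iff_ne_zero.2 fun h0 => by have := hη i; simp [c] at h0; simp [h0] at this
  set b := hu.basis h
  let g := b.equiv (b.isUnitSMul hc) (Equiv.refl _)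
  have hg : ∀ i, g (b i) = c i • b i := fun i => by simp [g, Basis.equiv_apply, Basis.isUnitSMul_apply]
  have hdet : LinearEquiv.det g = 1 := by
    refine Units.ext ?_
    have hm : LinearMap.toMatrix b b (g : V →ₗ[F] V) = Matrix.diagonal c := by
      ext i j
      rw [LinearMap.toMatrix_apply, LinearEquiv.coe_coe, hg, map_smul, Basis.repr_self]
      by_cases hij : i = j
      · subst hij; simp
      · simp [hij, Ne.symm hij]
    rw [LinearEquiv.coe_det, ← LinearMap.det_toMatrix b, hm, Matrix.det_diagonal, Fintype.prod_sum_type]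
    simp [c, Fin.prod_univ_two, hprod]
    field_simp
  have hgram : ∀ i j, B (b i) (b j) = B ((b.isUnitSMul hc) i) ((b.isUnitSMul hc) j) := by
    intro i j
    simp only [Basis.isUnitSMul_apply, LinearMap.map_smulₛₗ₂, map_smul, smul_eq_mul, b, hu.basis_apply h]
    have hfu : ∀ i, B f (u i) = 0 := fun i => (hu.mem i).2
    have heu : ∀ i, B e (u i) = 0 := fun i => (hu.mem i).1
    rcases i with i | i <;> rcases j with j | j
    · fin_cases i <;> fin_cases j <;>
        simp [c, hu.ee, hu.ff, hu.ef, fe h hu.ef, map_inv₀, h.invol] <;> field_simp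
    · fin_cases i <;> simp [c, hfu, heu]
    · fin_cases j <;> simp [c, (eq_zero_comm h).1 (hfu _), (eq_zero_comm h).1 (heu _)]
    · by_cases hij : i = j
      · subst hij
        simp [c, hu.on i i, mul_comm (σ (η i)), hη i]
      · simp [c, hu.on i j, hij]
  refine ⟨⟨g, isometry_of_basis b _ hgram, hdet⟩, ?_, ?_, fun i => ?_⟩
  · have := hg (.inl 0); simpa [b, hu.basis_apply h, c] using this
  · have := hg (.inl 1); simpa [b, hu.basis_apply h, c] using this
  · have := hg (.inr i); simpa [b, hu.basis_apply h, c] using this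

/-- A product of two transpositions of the frame. -/
theorem Frame.exists_perm (h2 : (2 : F) = 0) (i j k l : Fin m) :
    ∃ t : suG B, t.1 e = e ∧ t.1 f = f ∧
      ∀ s, t.1 (u s) = u ((Equiv.swap i j * Equiv.swap k l) s) := by
  classical
  obtain ⟨b, hbe⟩ : ∃ b : Basis (Fin 2 ⊕ Fin m) F V, ∀ i, b i = Sum.elim ![e, f] u i :=
    ⟨hu.basis h, hu.basis_apply h⟩
  let L : Equiv.Perm (Fin m) → V ≃ₗ[F] V := fun π' => b.equiv b (Equiv.sumCongr (Equiv.refl _) π')
  have hL : ∀ π' x, L π' (b x) = b (Equiv.sumCongr (Equiv.refl _) π' x) := fun π' x => by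
    simp only [L, Basis.equiv_apply]
  have hsw : ∀ i j, L (Equiv.swap i j) * L (Equiv.swap i j) = 1 := fun i j => by
    refine LinearEquiv.toLinearMap_injective (b.ext fun x => ?_)
    show L _ (L _ (b x)) = b x
    rw [hL, hL]
    rcases x with x | x <;> simp
  have hd : ∀ i j, LinearEquiv.det (L (Equiv.swap i j)) = 1 := fun i j => by
    have h1 := congrArg (fun g : V ≃ₗ[F] V => ((LinearEquiv.det g : Fˣ) : F)) (hsw i j)
    simp only [map_mul, map_one, Units.val_mul, Units.val_one] at h1
    refine Units.ext ?_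
    have h3 : (((LinearEquiv.det (L (Equiv.swap i j)) : Fˣ) : F) - 1) ^ 2 = 0 := by
      linear_combination h1 - (((LinearEquiv.det (L (Equiv.swap i j)) : Fˣ) : F) - 1) * h2
    exact sub_eq_zero.1 (sq_eq_zero_iff.1 h3)
  have hiso : ∀ π' x y, B (L π' x) (L π' y) = B x y := fun π' => by
    have hgram : ∀ x y, B (b x) (b y) = B (b (Equiv.sumCongr (Equiv.refl _) π' x))
        (b (Equiv.sumCongr (Equiv.refl _) π' y)) := by
      intro x y
      simp only [hbe]
      have hfu : ∀ i, B f (u i) = 0 := fun i => (hu.mem i).2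
      have heu : ∀ i, B e (u i) = 0 := fun i => (hu.mem i).1
      rcases x with x | x <;> rcases y with y | y
      · rfl
      · fin_cases x <;> simp [hfu, heu]
      · fin_cases y <;> simp [(eq_zero_comm h).1 (hfu _), (eq_zero_comm h).1 (heu _)]
      · simp [hu.on x y, hu.on (π' x) (π' y)]
    intro x y
    have he : (B.compl₂ (L π' : V →ₗ[F] V)).comp (L π' : V →ₗ[F] V) = B :=
      b.ext fun x => b.ext fun y => by
        simp only [LinearMap.comp_apply, LinearMap.compl₂_apply, LinearEquiv.coe_coe]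
        rw [hL, hL, ← hgram]
    exact LinearMap.congr_fun (LinearMap.congr_fun he x) y
  let g1 : suG B := ⟨L (Equiv.swap i j), hiso _, hd i j⟩
  let g2 : suG B := ⟨L (Equiv.swap k l), hiso _, hd k l⟩
  refine ⟨g1 * g2, ?_, ?_, fun s => ?_⟩
  · simp only [g1, g2, Subgroup.coe_mul, LinearEquiv.mul_apply]
    have := fun π' => hL π' (.inl 0)
    simp only [hbe, Equiv.sumCongr_apply, Sum.map_inl, Sum.elim_inl, Equiv.refl_apply,
      Matrix.cons_val_zero] at this
    rw [this, this]
  · simp only [g1, g2, Subgroup.coe_mul, LinearEquiv.mul_apply]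
    have := fun π' => hL π' (.inl 1)
    simp only [hbe, Equiv.sumCongr_apply, Sum.map_inl, Sum.elim_inl, Equiv.refl_apply,
      Matrix.cons_val_one, Matrix.cons_val_zero] at this
    rw [this, this]
  · simp only [g1, g2, Subgroup.coe_mul, LinearEquiv.mul_apply]
    have := fun π' s => hL π' (.inr s)
    simp only [hbe, Equiv.sumCongr_apply, Sum.map_inr, Sum.elim_inr] at this
    rw [this, this]
    rfl

end Frame

end Cfsg.Agent.PSUMult
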