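import Cfsg.Agent.PSUMult.Ext
import Cfsg.Agent.PSUMult.Radical
import Cfsg.Agent.PSUMult.Pairing

/-!
In a central extension by the characteristic, the centre of the preimage of the unipotent radical of a point
stabiliser is the preimage of its centre, and the derived group of that preimage avoids the kernel.
-/

set_option autoImplicit false
set_option linter.unusedSectionVars false

namespace Cfsg.Agent.PSUMult

open Module Cfsg.Agent.Classical Cfsg.Agent.Classical.Herm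
open scoped commutatorElement

variable {F V : Type*} [Field F] [Fintype F] [AddCommGroup V] [Module F V] [FiniteDimensional F V]
  {σ : F →+* F} {B : V →ₛₗ[σ] V →ₗ[F] F} {Γ : Type*} [Group Γ] [Finite Γ]

/-- The data of an extension by the characteristic, with a point stabiliser. -/
structure PData (E : Ext B Γ) (p q : ℕ) (e f : V) {m : ℕ} (u : Fin m → V) : Prop where
  prime : p.Prime
  char : CharP F p
  kerP : IsPGroup p E.π.ker
  two_le : 2 ≤ q
  cardF : Fintype.card F = q ^ 2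
  pow : ∀ x, σ x = x ^ q
  frame : Frame B e f u
  dims : m = 1 ∧ 3 ≤ q ∨ m = 2 ∧ 4 ≤ q ∨ 3 ≤ m

/-- The unipotent radical of the stabiliser of the point. -/
def Qgrp (h : IsHerm B) (e f : V) (hee : B e e = 0) : Subgroup (suG B) where
  carrier := {g | ∃ a ∈ Wsp B e f, ∃ d, d + σ d = -B a a ∧ g = qel h e a d}
  one_mem' := ⟨0, zero_mem _, 0, by simp, (qel_zero h e).symm⟩
  mul_mem' := by
    rintro _ _ ⟨a, ha, d, hd, rfl⟩ ⟨a', ha', d', hd', rfl⟩
    exact ⟨a + a', add_mem ha ha', _,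
      ((adm_of_mem h hee ha hd).add h (adm_of_mem h hee ha' hd')).2.2,
      qel_mul h (adm_of_mem h hee ha hd) (adm_of_mem h hee ha' hd')⟩
  inv_mem' := by
    rintro _ ⟨a, ha, d, hd, rfl⟩
    exact ⟨-a, neg_mem ha, _, ((adm_of_mem h hee ha hd).neg h).2.2, qel_inv h (adm_of_mem h hee ha hd)⟩

/-- The scalars of norm one. -/
abbrev N1' (σ : F →+* F) : Subgroup Fˣ := (normHom σ).ker

/-- The parameters of the torus. -/
def Tor (σ : F →+* F) (m : ℕ) : Subgroup (Fˣ × (Fin m → N1' σ)) where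
  carrier := {t | ∏ i, ((t.2 i : Fˣ) : F) = σ (t.1 : F) / (t.1 : F)}
  one_mem' := by simp
  mul_mem' := fun {s t} hs ht => by
    simp only [Set.mem_ofPred_eq] at hs ht ⊢
    simp only [Prod.snd_mul, Pi.mul_apply, Subgroup.coe_mul, Units.val_mul, Finset.prod_mul_distrib, hs, ht,
      Prod.fst_mul, map_mul]
    rw [div_mul_div_comm]
  inv_mem' := fun {t} ht => by
    simp only [Set.mem_ofPred_eq] at ht ⊢
    simp only [Prod.snd_inv, Pi.inv_apply, Subgroup.coe_inv, Units.val_inv_eq_inv_val, Finset.prod_inv_distrib,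
      ht, Prod.fst_inv, map_inv₀]
    rw [inv_div, inv_div_inv]

/-- The multipliers of the torus on the orthogonal space. -/
def mu {m : ℕ} (t : Tor σ m) (i : Fin m) : F := σ (t.1.1 : F) * ((t.1.2 i : Fˣ) : F)

theorem mu_mul {m : ℕ} (s t : Tor σ m) (i : Fin m) : mu (s * t) i = mu s i * mu t i := by
  simp [mu]; ring

namespace PData

variable {E : Ext B Γ} {p q : ℕ} {e f : V} {m : ℕ} {u : Fin m → V} (P : PData E p q e f u)
include P

/-- The preimage of the radical. -/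
def Qt : Subgroup Γ := (Qgrp E.herm e f P.frame.ee).comap E.π

/-- The preimage of its centre. -/
def Zt : Subgroup Γ where
  carrier := {x | ∃ c, c + σ c = 0 ∧ E.π x = qel E.herm e 0 c}
  one_mem' := ⟨0, by simp, by rw [map_one, qel_zero]⟩
  mul_mem' := by
    rintro x y ⟨c, hc, ex⟩ ⟨c', hc', ey⟩
    refine ⟨c + c', by rw [map_add]; linear_combination hc + hc', ?_⟩
    rw [map_mul, ex, ey, qel_mul E.herm (adm_of_mem E.herm P.frame.ee (f := f) (zero_mem _) (by simpa using hc))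
      (adm_of_mem E.herm P.frame.ee (f := f) (zero_mem _) (by simpa using hc'))]
    simp
  inv_mem' := by
    rintro x ⟨c, hc, ex⟩
    refine ⟨σ c, by rw [E.herm.invol]; linear_combination hc, ?_⟩
    rw [map_inv, ex, qel_inv E.herm (adm_of_mem E.herm P.frame.ee (f := f) (zero_mem _) (by simpa using hc)),
      neg_zero]

theorem mem_Qt {x : Γ} {a : V} (ha : a ∈ Wsp B e f) {d : F} (hd : d + σ d = -B a a)
    (hx : E.π x = qel E.herm e a d) : x ∈ P.Qt := ⟨a, ha, d, hd, hx⟩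

theorem emb_mem_W (a : Fin m → F) : emb u a ∈ Wsp B e f := by
  rw [emb_apply]
  exact Submodule.sum_mem _ fun i _ => Submodule.smul_mem _ _ (P.frame.mem i)

theorem Zt_le : P.Zt ≤ P.Qt := fun _ ⟨c, hc, hx⟩ => P.mem_Qt (zero_mem _) (by simpa using hc) hx

theorem exists_coord {a : V} (ha : a ∈ Wsp B e f) : ∃ c : Fin m → F, emb u c = a :=
  ⟨crd B u a, by rw [emb_apply]; exact (P.frame.span a ha).symm⟩

theorem herm : IsHerm B := E.herm

/-- A power of an element of the kernel coprime to the characteristic determines it. -/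
theorem ker_eq_one_of_pow {z : Γ} (hz : E.π z = 1) {n : ℕ} (hn : ¬ p ∣ n) (h : z ^ n = 1) : z = 1 := by
  obtain ⟨k, hk⟩ := P.kerP ⟨z, hz⟩
  have hk' : z ^ p ^ k = 1 := congrArg Subtype.val hk
  exact orderOf_eq_one_iff.1 (Nat.eq_one_of_dvd_coprimes
    (Nat.Coprime.pow_left k ((Nat.Prime.coprime_iff_not_dvd P.prime).2 hn))
    (orderOf_dvd_of_pow_eq_one hk') (orderOf_dvd_of_pow_eq_one h))

theorem ker_coprime {n : ℕ} (hn : ¬ p ∣ n) : Nat.Coprime (Nat.card E.π.ker) n := by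
  have := Fact.mk P.prime
  obtain ⟨k, hk⟩ := IsPGroup.iff_card.1 P.kerP
  rw [hk]
  exact Nat.Coprime.pow_left k ((Nat.Prime.coprime_iff_not_dvd P.prime).2 hn)

/-- A chosen trace parameter. -/
noncomputable def dd (a : Fin m → F) : F := (exists_d P.herm (a := emb u a)).choose

theorem dd_spec (a : Fin m → F) : P.dd a + σ (P.dd a) = -B (emb u a) (emb u a) :=
  (exists_d E.herm (a := emb u a)).choose_spec

/-- A preimage of an element of the radical. -/
noncomputable def L (a : Fin m → F) : Γ := E.lift (qel E.herm e (emb u a) (P.dd a))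

theorem π_L (a : Fin m → F) : E.π (P.L a) = qel E.herm e (emb u a) (P.dd a) := E.π_lift _

theorem L_mem (a : Fin m → F) : P.L a ∈ P.Qt := P.mem_Qt (P.emb_mem_W a) (P.dd_spec a) (P.π_L a)

theorem π_comm {x y : Γ} {a b : Fin m → F} {d d' : F} (hd : d + σ d = -B (emb u a) (emb u a))
    (hd' : d' + σ d' = -B (emb u b) (emb u b)) (hx : E.π x = qel E.herm e (emb u a) d)
    (hy : E.π y = qel E.herm e (emb u b) d') :
    E.π ⁅x, y⁆ = qel E.herm e 0 (∑ i, (σ (b i) * a i - σ (a i) * b i)) := by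
  rw [map_commutatorElement, hx, hy, commutatorElement_def,
    qel_comm E.herm (adm_of_mem E.herm P.frame.ee (P.emb_mem_W a) hd)
      (adm_of_mem E.herm P.frame.ee (P.emb_mem_W b) hd'),
    form_emb_emb E.herm P.frame.on, form_emb_emb E.herm P.frame.on, hermB_apply, hermB_apply,
    ← Finset.sum_sub_distrib]

theorem comm_mem_Zt {x y : Γ} (hx : x ∈ P.Qt) (hy : y ∈ P.Qt) : ⁅x, y⁆ ∈ P.Zt := by
  obtain ⟨a, ha, d, hd, hx⟩ := hx
  obtain ⟨b, hb, d', hd', hy⟩ := hy
  obtain ⟨a, rfl⟩ := P.exists_coord ha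
  obtain ⟨b, rfl⟩ := P.exists_coord hb
  refine ⟨_, ?_, P.π_comm hd hd' hx hy⟩
  rw [map_sum, ← Finset.sum_add_distrib]
  refine Finset.sum_eq_zero fun i _ => ?_
  simp [E.herm.invol]
  ring

/-- Every element of the preimage of the centre is a commutator up to the kernel. -/
theorem exists_comm_eq {z : Γ} (hz : z ∈ P.Zt) :
    ∃ x ∈ P.Qt, ∃ y ∈ P.Qt, E.π z = E.π ⁅x, y⁆ := by
  obtain ⟨c, hc, hz⟩ := hz
  obtain ⟨μ, hμ⟩ := exists_antitrace E.herm.toIsInvol (k := c) (by linear_combination hc)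
  have hm : 0 < m := by rcases P.dims with ⟨h, -⟩ | ⟨h, -⟩ | h <;> omega
  refine ⟨P.L (Pi.single ⟨0, hm⟩ 1), P.L_mem _, P.L (Pi.single ⟨0, hm⟩ μ), P.L_mem _, ?_⟩
  rw [hz, P.π_comm (P.dd_spec _) (P.dd_spec _) (P.π_L _) (P.π_L _),
    Finset.sum_eq_single (⟨0, hm⟩ : Fin m) (fun i _ hi => by simp [hi]) (by simp)]
  simp [hμ]

theorem exists_element (t : Tor σ m) : ∃ g : Γ, E.act g e = (t.1.1 : F) • e ∧
    E.act g f = (σ (t.1.1 : F))⁻¹ • f ∧ ∀ i, E.act g (u i) = ((t.1.2 i : Fˣ) : F) • u i := by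
  obtain ⟨g, h1, h2, h3⟩ := P.frame.exists_tor E.herm t.1.1.ne_zero (η := fun i => ((t.1.2 i : Fˣ) : F))
    (fun i => congrArg Units.val ((t.1.2 i).2 : normHom σ (t.1.2 i : Fˣ) = 1)) t.2
  refine ⟨E.lift g, ?_, ?_, fun i => ?_⟩
  all_goals simp only [Ext.act, E.π_lift, h1, h2, h3]

/-- A lift of a torus element. -/
noncomputable def te (t : Tor σ m) : Γ := (P.exists_element t).choose

theorem te_spec (t : Tor σ m) : E.act (P.te t) e = (t.1.1 : F) • e ∧
    E.act (P.te t) f = (σ (t.1.1 : F))⁻¹ • f ∧ ∀ i, E.act (P.te t) (u i) = ((t.1.2 i : Fˣ) : F) • u i :=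
  (P.exists_element t).choose_spec

theorem te_emb (t : Tor σ m) (a : Fin m → F) :
    σ (t.1.1 : F) • E.act (P.te t) (emb u a) = emb u (fun i => mu t i * a i) := by
  rw [emb_apply, emb_apply, map_sum, Finset.smul_sum]
  refine Finset.sum_congr rfl fun i _ => ?_
  rw [map_smul, (P.te_spec t).2.2 i, smul_smul, smul_smul]
  congr 1
  simp [mu]; ring

theorem π_conj {g x : Γ} {a : V} {d l : F} (hl : E.act g e = l • e) (hl0 : l ≠ 0)
    (c : Adm B e a d) (hx : E.π x = qel E.herm e a d) :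
    E.π (g * x * g⁻¹) = qel E.herm e (σ l • E.act g a) (σ l * l * d) := by
  rw [map_mul, map_mul, map_inv, hx, conj_qel E.herm hl hl0 c]
  rfl

theorem π_conj_te (t : Tor σ m) {x : Γ} {a : Fin m → F} {d : F} (hd : d + σ d = -B (emb u a) (emb u a))
    (hx : E.π x = qel E.herm e (emb u a) d) :
    E.π (P.te t * x * (P.te t)⁻¹) =
      qel E.herm e (emb u (fun i => mu t i * a i)) (σ (t.1.1 : F) * t.1.1 * d) := by
  rw [P.π_conj (P.te_spec t).1 t.1.1.ne_zero (adm_of_mem E.herm P.frame.ee (P.emb_mem_W a) hd) hx, P.te_emb]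

theorem conj_mem_Qt {g : Γ} {l k : F} (hge : E.act g e = l • e) (hgf : E.act g f = k • f) (hl : l ≠ 0)
    (hk : k ≠ 0) {x : Γ} (hx : x ∈ P.Qt) : g * x * g⁻¹ ∈ P.Qt := by
  obtain ⟨a, ha, d, hd, hx⟩ := hx
  refine P.mem_Qt (Submodule.smul_mem _ (σ l) (stab_maps E.herm (g := E.π g) hge hgf hl hk ha))
    (d := σ l * l * d) ?_ (P.π_conj hge hl (adm_of_mem E.herm P.frame.ee ha hd) hx)
  rw [smul_self E.herm, show B ((E.π g).1 a) ((E.π g).1 a) = B a a from (E.π g).2.1 a a, map_mul, map_mul,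
    E.herm.invol]
  linear_combination (σ l * l) * hd

theorem conj_mem_Zt {g : Γ} {l : F} (hge : E.act g e = l • e) (hl : l ≠ 0) {x : Γ} (hx : x ∈ P.Zt) :
    g * x * g⁻¹ ∈ P.Zt := by
  obtain ⟨c, hc, hx⟩ := hx
  refine ⟨σ l * l * c, ?_, ?_⟩
  · rw [map_mul, map_mul, E.herm.invol]; linear_combination (σ l * l) * hc
  · rw [P.π_conj hge hl (adm_of_mem E.herm P.frame.ee (f := f) (zero_mem _) (by simpa using hc)) hx, map_zero,
      smul_zero]

theorem exists_tor_mu (i : Fin m) :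
    ∃ s : Tor σ m, σ (s.1.1 : F) * (s.1.1 : F) = 1 ∧ mu s i ≠ 1 := by
  classical
  obtain ⟨ξ, hξ, hξ0, hξo⟩ : ∃ ξ : F, ξ * σ ξ = 1 ∧ ξ ≠ 0 ∧ orderOf ξ = q + 1 := by
    obtain ⟨ζ, hζ⟩ := IsCyclic.exists_generator (α := Fˣ)
    have ho : orderOf (ζ : F) = q ^ 2 - 1 := by
      rw [orderOf_units, orderOf_eq_card_of_forall_mem_zpowers hζ, Nat.card_units, Nat.card_eq_fintype_card,
        P.cardF]
    have h2 := P.two_le
    have hq : q ^ 2 - 1 = (q - 1) * (q + 1) := by rw [mul_comm, ← Nat.sq_sub_sq, one_pow]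
    refine ⟨(ζ : F) ^ (q - 1), ?_, pow_ne_zero _ ζ.ne_zero, ?_⟩
    · rw [P.pow, ← pow_succ', ← pow_mul, ← hq, ← ho, pow_orderOf_eq_one]
    · rw [orderOf_pow_of_dvd (by omega) (by rw [ho, hq]; exact dvd_mul_right _ _), ho, hq,
        Nat.mul_div_cancel_left _ (by omega)]
  have hσξ : σ ξ = ξ⁻¹ := eq_inv_of_mul_eq_one_right hξ
  let x : N1' σ := ⟨Units.mk0 ξ hξ0, Units.ext hξ⟩
  by_cases hm : m = 1
  · have hq3 : 3 ≤ q := by rcases P.dims with ⟨-, h⟩ | ⟨h, -⟩ | h <;> omega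
    let t : Fˣ × (Fin m → N1' σ) := (Units.mk0 ξ hξ0, fun _ => x⁻¹ * x⁻¹)
    have ht : t ∈ Tor σ m := by
      show ∏ _i : Fin m, (((x⁻¹ * x⁻¹ : N1' σ) : Fˣ) : F) = σ ξ / ξ
      rw [Finset.prod_const, Finset.card_fin, hm, pow_one, hσξ]
      simp [x, div_eq_mul_inv]
    refine ⟨⟨t, ht⟩, by show σ ξ * ξ = 1; rw [mul_comm]; exact hξ, ?_⟩
    show σ ξ * (((x⁻¹ * x⁻¹ : N1' σ) : Fˣ) : F) ≠ 1
    intro h3
    have h4 : ξ ^ 3 = 1 := by
      rw [hσξ] at h3
      simp [x] at h3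
      field_simp at h3
      first | exact h3.symm | exact h3
    have := Nat.le_of_dvd (by omega) (orderOf_dvd_of_pow_eq_one h4)
    omega
  · have hm1 : 1 < m := by rcases P.dims with ⟨h, -⟩ | ⟨h, -⟩ | h <;> omega
    obtain ⟨j, hj⟩ := Fintype.exists_ne_of_one_lt_card (by simpa using hm1) i
    let t : Fˣ × (Fin m → N1' σ) := (1, fun k => if k = i then x else if k = j then x⁻¹ else 1)
    have ht : t ∈ Tor σ m := by
      show ∏ k : Fin m, (((if k = i then x else if k = j then x⁻¹ else 1 : N1' σ) : Fˣ) : F) = σ ((1 : Fˣ) : F) / ((1 : Fˣ) : F)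
      rw [Finset.prod_eq_mul i j (Ne.symm hj) (fun k _ hk => by simp [hk.1, hk.2]) (by simp) (by simp)]
      simp [hj, x, hξ0]
    refine ⟨⟨t, ht⟩, by simp [t], ?_⟩
    show σ ((1 : Fˣ) : F) * (((if i = i then x else if i = j then x⁻¹ else 1 : N1' σ) : Fˣ) : F) ≠ 1
    simp [x]
    intro h1
    rw [h1, orderOf_one] at hξo
    have := P.two_le
    omega

/-- The preimage of the centre commutes with the preimage of the radical. -/
theorem Zt_comm {z y : Γ} (hz : z ∈ P.Zt) (hy : y ∈ P.Qt) : ⁅z, y⁆ = 1 := by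
  classical
  have := Fact.mk P.prime
  have hker : ∀ {z y : Γ}, z ∈ P.Zt → y ∈ P.Qt → E.π ⁅z, y⁆ = 1 := by
    rintro z y ⟨c, hc, hz⟩ ⟨a, ha, d, hd, hy⟩
    rw [map_commutatorElement, hz, hy, commutatorElement_def,
      qel_comm E.herm (adm_of_mem E.herm P.frame.ee (f := f) (zero_mem _) (by simpa using hc))
        (adm_of_mem E.herm P.frame.ee ha hd)]
    simp [qel_zero]
  -- the homomorphism attached to an element of the centre
  have hmul : ∀ {z : Γ}, z ∈ P.Zt → ∀ {y y' : Γ}, y' ∈ P.Qt → ⁅z, y * y'⁆ = ⁅z, y⁆ * ⁅z, y'⁆ := by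
    intro z hz y y' hy'
    have e1 : ⁅z, y * y'⁆ = ⁅z, y⁆ * (y * ⁅z, y'⁆ * y⁻¹) := by simp only [commutatorElement_def]; group
    rw [e1, (E.ker_comm (hker hz hy') y).eq, mul_inv_cancel_right]
  have hkill : ∀ {z w : Γ}, z ∈ P.Zt → w ∈ P.Zt → ⁅z, w⁆ = 1 := by
    intro z w hz hw
    let φ : P.Qt →* E.π.ker := MonoidHom.mk' (fun y : P.Qt => (⟨⁅z, y.1⁆, hker hz y.2⟩ : E.π.ker))
      fun y y' => Subtype.ext (hmul hz y'.2)
    obtain ⟨x, hx, y, hy, he⟩ := P.exists_comm_eq hw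
    have h1 : ⁅z, w⁆ = ⁅z, ⁅x, y⁆⁆ := E.comm_indep rfl he
    rw [h1]
    have h2 : φ ⁅(⟨x, hx⟩ : P.Qt), (⟨y, hy⟩ : P.Qt)⁆ = 1 := by
      rw [map_commutatorElement, commutatorElement_eq_one_iff_mul_comm]
      exact Subtype.ext (E.ker_comm (φ ⟨y, hy⟩).2 (φ ⟨x, hx⟩).1).eq
    exact congrArg Subtype.val h2
  -- the pairing with the orthogonal space
  obtain ⟨c, hc, hzπ⟩ := hz
  have hz : z ∈ P.Zt := ⟨c, hc, hzπ⟩
  have hindep : ∀ {y y' : Γ} {a : V} {d d' : F}, a ∈ Wsp B e f → d + σ d = -B a a → d' + σ d' = -B a a →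
      E.π y = qel E.herm e a d → E.π y' = qel E.herm e a d' → ⁅z, y⁆ = ⁅z, y'⁆ := by
    intro y y' a d d' ha hd hd' hy hy'
    have hZ : y⁻¹ * y' ∈ P.Zt := by
      refine ⟨σ d + d' - B (-a) a, ?_, ?_⟩
      · simp [E.herm.invol, fix_self E.herm]
        linear_combination hd + hd'
      · rw [map_mul, map_inv, hy, hy', qel_inv E.herm (adm_of_mem E.herm P.frame.ee ha hd),
          qel_mul E.herm ((adm_of_mem E.herm P.frame.ee ha hd).neg E.herm) (adm_of_mem E.herm P.frame.ee ha hd'),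
          neg_add_cancel]
    conv_rhs => rw [show y' = y * (y⁻¹ * y') by group]
    rw [hmul hz (P.Zt_le hZ), hkill hz hZ, mul_one]
  let ψ : (Fin m → F) → Γ := fun a => ⁅z, P.L a⁆
  have hψ : ∀ a b, ψ (a + b) = ψ a * ψ b := fun a b => by
    show ⁅z, P.L (a + b)⁆ = ⁅z, P.L a⁆ * ⁅z, P.L b⁆
    rw [← hmul hz (P.L_mem b)]
    refine hindep (P.emb_mem_W (a + b)) (P.dd_spec _)
      (d' := P.dd a + P.dd b - B (emb u a) (emb u b)) ?_ (P.π_L _) ?_
    · rw [map_add (emb u)]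
      exact ((adm_of_mem E.herm P.frame.ee (P.emb_mem_W a) (P.dd_spec a)).add E.herm
        (adm_of_mem E.herm P.frame.ee (P.emb_mem_W b) (P.dd_spec b))).2.2
    · rw [map_mul, P.π_L, P.π_L, qel_mul E.herm (adm_of_mem E.herm P.frame.ee (P.emb_mem_W a) (P.dd_spec a))
        (adm_of_mem E.herm P.frame.ee (P.emb_mem_W b) (P.dd_spec b)), map_add]
  have hinv : ∀ (s : Tor σ m), σ (s.1.1 : F) * (s.1.1 : F) = 1 → ∀ a, ψ (fun i => mu s i * a i) = ψ a := by
    intro s hs a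
    have hk := hker hz (P.L_mem a)
    have h1 : P.te s * ⁅z, P.L a⁆ * (P.te s)⁻¹ = ⁅z, P.L a⁆ := by
      rw [(E.ker_comm hk _).eq, mul_inv_cancel_right]
    have hd := P.dd_spec a
    have hzc := P.π_conj (g := P.te s) (P.te_spec s).1 s.1.1.ne_zero
      (adm_of_mem E.herm P.frame.ee (f := f) (zero_mem _) (by simpa using hc)) hzπ
    rw [map_zero, smul_zero, hs, one_mul, ← hzπ] at hzc
    have hy := P.π_conj_te s hd (P.π_L a)
    rw [hs, one_mul] at hy
    refine Eq.trans ?_ h1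
    rw [conjugate_commutatorElement]
    refine ((E.comm_indep hzc rfl).trans ?_).symm
    refine hindep (P.emb_mem_W _) ?_ (P.dd_spec _) hy (P.π_L _)
    have := (adm_of_mem E.herm P.frame.ee (P.emb_mem_W a) hd)
    rw [← P.te_emb, smul_self E.herm,
      show B (E.act (P.te s) (emb u a)) (E.act (P.te s) (emb u a)) = B (emb u a) (emb u a) from E.act_iso _ _ _,
      E.herm.invol, hs, one_mul]
    exact hd
  have hψ0 : ψ 0 = 1 := by
    have := hψ 0 0
    rw [add_zero] at this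
    exact mul_eq_left.1 this.symm
  have hall : ∀ a, ψ a = 1 := by
    intro a
    have hsingle : ∀ i x, ψ (Pi.single i x) = 1 := by
      intro i x
      obtain ⟨s, hs, hne⟩ := P.exists_tor_mu i
      have hne' : mu s i - 1 ≠ 0 := sub_ne_zero.2 hne
      have h1 := hinv s hs (Pi.single i ((mu s i - 1)⁻¹ * x))
      have h2 : (fun k => mu s k * (Pi.single i ((mu s i - 1)⁻¹ * x) : Fin m → F) k) =
          (Pi.single i ((mu s i - 1)⁻¹ * x) : Fin m → F) + Pi.single i x := by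
        funext k
        rcases eq_or_ne k i with rfl | hk
        · simp only [Pi.single_eq_same, Pi.add_apply]
          field_simp
          ring
        · simp [hk]
      rw [h2] at h1
      exact mul_eq_left.1 ((hψ _ _).symm.trans h1)
    have : ∀ s : Finset (Fin m), ψ (∑ i ∈ s, Pi.single i (a i)) = 1 := by
      intro s
      induction s using Finset.induction_on with
      | empty => simpa using hψ0
      | insert i s hi ih => rw [Finset.sum_insert hi, hψ, ih, hsingle, one_mul]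
    rw [← Finset.univ_sum_single a]
    exact this _
  obtain ⟨a, ha, d, hd, hy⟩ := hy
  obtain ⟨a, rfl⟩ := P.exists_coord ha
  rw [hindep ha hd (P.dd_spec a) hy (P.π_L a)]
  exact hall a

end PData

end Cfsg.Agent.PSUMult
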